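import Cfsg.Agent.Lib.TISylow.CasesSmall
import Cfsg.Agent.Lib.Transfer.Frobenius
import Cfsg.Agent.Lib.BlockB.GaloisDegree

/-!
# Groups with a self-centralising elementary abelian TI Sylow 3-subgroup of order nine and
automizer of order two or four
-/

namespace CfsgLib.TISylow

universe u

variable {G : Type u} [Group G]

/-- The standing hypotheses. -/
structure Setup (P : Sylow 3 G) : Prop where
  card_eq : Nat.card (P : Subgroup G) = 9
  cube : ∀ t ∈ (P : Subgroup G), t ^ 3 = 1
  self_centralizing : Subgroup.centralizer ((P : Subgroup G) : Set G) ≤ (P : Subgroup G)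
  loc : ∀ t ∈ (P : Subgroup G), t ≠ 1 →
    Subgroup.centralizer ({t} : Set G) ≤ Subgroup.normalizer ((P : Subgroup G) : Set G)

variable {P : Sylow 3 G}

theorem Setup.nine [Finite G] (S : Setup P) : Nine (P : Subgroup G) := by
  have : Fact (Nat.Prime 3) := ⟨Nat.prime_three⟩
  have := IsPGroup.isMulCommutative_of_card_eq_prime_sq (p := 3) (G := (P : Subgroup G))
    (by rw [S.card_eq]; norm_num)
  exact ⟨Hyp.of_sylow P S.cube (fun s hs t ht => congrArg Subtype.val
    (this.is_comm.comm (⟨s, hs⟩ : (P : Subgroup G)) ⟨t, ht⟩)) S.loc, S.card_eq, S.self_centralizing⟩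

theorem Setup.subtype [Finite G] (S : Setup P) {H : Subgroup G} (hle : (P : Subgroup G) ≤ H) :
    Setup (P.subtype hle) := by
  refine ⟨?_, fun t ht => Subtype.ext ?_, fun x hx => ?_, fun t ht ht1 x hx => ?_⟩
  · rw [Sylow.coe_subtype]
    exact (Nat.card_congr (Subgroup.subgroupOfEquivOfLe hle).toEquiv).trans S.card_eq
  · rw [Sylow.coe_subtype, Subgroup.mem_subgroupOf] at ht
    simpa using S.cube _ ht
  · rw [Sylow.coe_subtype, Subgroup.mem_subgroupOf]
    refine S.self_centralizing (Subgroup.mem_centralizer_iff.2 fun g hg => ?_)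
    exact congrArg Subtype.val (Subgroup.mem_centralizer_iff.1 hx ⟨g, hle hg⟩
      (by rw [Sylow.coe_subtype]; exact hg))
  · rw [Sylow.coe_subtype, Subgroup.mem_subgroupOf] at ht
    rw [Sylow.coe_subtype, ← Subgroup.subgroupOf_normalizer_eq hle, Subgroup.mem_subgroupOf]
    refine S.loc _ ht (fun e => ht1 (Subtype.ext e)) (Subgroup.mem_centralizer_singleton_iff.2 ?_)
    exact congrArg Subtype.val (Subgroup.mem_centralizer_singleton_iff.1 hx)

theorem Setup.card_normalizer_subtype [Finite G] (_S : Setup P) {H : Subgroup G}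
    (hle : (P : Subgroup G) ≤ H) :
    Nat.card (Subgroup.normalizer (((P.subtype hle : Sylow 3 H) : Subgroup H) : Set H)) =
      Nat.card (Subgroup.normalizer ((P : Subgroup G) : Set G) ⊓ H : Subgroup G) := by
  rw [Sylow.coe_subtype, ← Subgroup.subgroupOf_normalizer_eq hle, ← Subgroup.inf_subgroupOf_right]
  exact Nat.card_congr (Subgroup.subgroupOfEquivOfLe inf_le_right).toEquiv

theorem Setup.not_le_of_normalizer_ne_top [Finite G] (_S : Setup P) {K : Subgroup G} [K.Normal]
    (hle : (P : Subgroup G) ≤ K) (hN : Subgroup.normalizer ((P : Subgroup G) : Set G) ≠ ⊤) :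
    ¬ K ≤ Subgroup.normalizer ((P : Subgroup G) : Set G) := by
  intro hK
  have : Fact (Nat.Prime 3) := ⟨Nat.prime_three⟩
  have h1 := Sylow.normalizer_sup_eq_top (P.subtype hle)
  rw [Sylow.coe_subtype, Subgroup.map_subgroupOf_eq_of_le hle, sup_of_le_left hK] at h1
  exact hN h1

/-- The cosets of `P` in its normaliser. -/
theorem Setup.index_eq [Finite G] (S : Setup P) {k : ℕ}
    (hcard : Nat.card (Subgroup.normalizer ((P : Subgroup G) : Set G)) = 9 * k) :
    ((P : Subgroup G).subgroupOf (Subgroup.normalizer ((P : Subgroup G) : Set G))).index = k := by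
  have h1 := Subgroup.card_mul_index
    ((P : Subgroup G).subgroupOf (Subgroup.normalizer ((P : Subgroup G) : Set G)))
  rw [Nat.card_congr (Subgroup.subgroupOfEquivOfLe Subgroup.le_normalizer).toEquiv, S.card_eq,
    hcard] at h1
  omega

theorem Setup.pow_mem [Finite G] (S : Setup P) {k : ℕ}
    (hcard : Nat.card (Subgroup.normalizer ((P : Subgroup G) : Set G)) = 9 * k) {n : G}
    (hn : n ∈ Subgroup.normalizer ((P : Subgroup G) : Set G)) : n ^ k ∈ (P : Subgroup G) := by
  have h1 := Subgroup.pow_index_mem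
    ((P : Subgroup G).subgroupOf (Subgroup.normalizer ((P : Subgroup G) : Set G))) ⟨n, hn⟩
  rw [S.index_eq hcard, Subgroup.mem_subgroupOf] at h1
  simpa using h1

/-- Automizer `⟨-1⟩`: normal. -/
theorem Setup.eq_top_two [Finite G] (S : Setup P)
    (hcard : Nat.card (Subgroup.normalizer ((P : Subgroup G) : Set G)) = 18)
    (hinv : ∀ n ∈ Subgroup.normalizer ((P : Subgroup G) : Set G), n ∈ (P : Subgroup G) ∨
      ∀ t ∈ (P : Subgroup G), n * t * n⁻¹ = t⁻¹) :
    Subgroup.normalizer ((P : Subgroup G) : Set G) = ⊤ := by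
  obtain ⟨n, hn, hnP⟩ : ∃ n ∈ Subgroup.normalizer ((P : Subgroup G) : Set G),
      n ∉ (P : Subgroup G) := by
    by_contra hcon
    push Not at hcon
    have := Subgroup.card_le_of_le (show _ ≤ (P : Subgroup G) from hcon)
    rw [hcard, S.card_eq] at this
    omega
  obtain ⟨F, hF⟩ := S.nine.frame_two hinv ⟨n, hn, hnP⟩
  obtain ⟨C⟩ := F.exists_twoChart S.self_centralizing hcard hF
  exact S.nine.eq_top_of_two C hcard

/-- Automizer a four-group: normal. -/
theorem Setup.eq_top_klein [Finite G] (S : Setup P)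
    (hcard : Nat.card (Subgroup.normalizer ((P : Subgroup G) : Set G)) = 36)
    (hsq : ∀ n ∈ Subgroup.normalizer ((P : Subgroup G) : Set G), n * n ∈ (P : Subgroup G)) :
    Subgroup.normalizer ((P : Subgroup G) : Set G) = ⊤ := by
  obtain ⟨F, hF⟩ := S.nine.frame_klein hsq (S.index_eq hcard)
  obtain ⟨C⟩ := F.exists_kleinChart S.self_centralizing hcard hF
  exact S.nine.eq_top_of_klein C hcard

/-- An element acting with square `-1` leaves no proper nontrivial subgroup invariant. -/
theorem Setup.le_of_inf_ne_bot [Finite G] (S : Setup P) {f : G}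
    (hf : f ∈ Subgroup.normalizer ((P : Subgroup G) : Set G)) (hf2 : f * f ∉ (P : Subgroup G))
    (hf4 : f * f * (f * f) ∈ (P : Subgroup G)) (K : Subgroup G) [hK : K.Normal]
    (hne : K ⊓ (P : Subgroup G) ≠ ⊥) : (P : Subgroup G) ≤ K := by
  obtain ⟨t, ht, ht1⟩ := (Subgroup.ne_bot_iff_exists_ne_one (H := K ⊓ (P : Subgroup G))).1 hne |>
    fun ⟨x, hx⟩ => (⟨(x : G), x.2, fun e => hx (Subtype.ext e)⟩ :
      ∃ t, t ∈ K ⊓ (P : Subgroup G) ∧ t ≠ 1)
  set u := f * t * f⁻¹ with hu
  have huT : u ∈ (P : Subgroup G) := S.nine.conj_mem' hf ht.2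
  have hut : u ∉ Subgroup.zpowers t := by
    intro hmem
    obtain ⟨k, hk⟩ := Subgroup.mem_zpowers_iff.1 hmem
    have h1 : t ^ (k * k + 1) = 1 := by
      have h2 : f * u * f⁻¹ = u ^ k := by rw [← hk, ← conj_zpow, ← hu, hk]
      have h3 : f * u * f⁻¹ = t⁻¹ := by
        rw [← S.nine.sq_inverts hf hf2 hf4 t ht.2, hu]; group
      rw [zpow_add, zpow_one, zpow_mul, hk, ← h2, h3, inv_mul_cancel]
    have hz : ∀ z : ZMod 3, z * z + 1 ≠ 0 := by decide
    have : Fact (Nat.Prime 3) := ⟨Nat.prime_three⟩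
    rw [← orderOf_dvd_iff_zpow_eq_one, orderOf_eq_prime (S.cube t ht.2) ht1,
      ← ZMod.intCast_zmod_eq_zero_iff_dvd] at h1
    push_cast at h1
    exact hz _ h1
  intro x hx
  obtain ⟨v, rfl⟩ := S.nine.coord_surj ht.2 huT ht1 hut hx
  exact K.mul_mem (K.pow_mem ht.1 _) (K.pow_mem (hK.conj_mem _ ht.1 f) _)

theorem linear_eq_one [Finite G] [IsSimpleGroup G] (hna : ∃ a b : G, a * b ≠ b * a) {χ : G → ℂ}
    (hχ : Cfsg.IsIrrCharacter G χ) (h1 : χ 1 = 1) : χ = fun _ => 1 := by
  have hle := CfsgLib.BlockB.GaloisDegree.commutator_le_ker (χ := ⟨χ, hχ⟩) h1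
  rcases (inferInstance : (commutator G).Normal).eq_bot_or_eq_top with e | e
  · obtain ⟨a, b, hab⟩ := hna
    refine absurd ?_ hab
    have := Subgroup.commutator_mem_commutator (Subgroup.mem_top a) (Subgroup.mem_top b)
    rw [← commutator_def, e, Subgroup.mem_bot, commutatorElement_eq_one_iff_mul_comm] at this
    exact this
  · funext g
    have h2 := CfsgLib.BlockB.GaloisDegree.mem_ker.1 (hle (e ▸ Subgroup.mem_top g))
    exact h2.trans h1

theorem Setup.noncomm [Finite G] (S : Setup P)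
    (hN : Subgroup.normalizer ((P : Subgroup G) : Set G) ≠ ⊤) : ∃ a b : G, a * b ≠ b * a := by
  by_contra hcon
  push Not at hcon
  refine hN (top_le_iff.1 fun g _ => Subgroup.le_normalizer (S.self_centralizing ?_))
  exact Subgroup.mem_centralizer_iff.2 fun h _ => hcon h g

/-- Cyclic automizer of order four: simple of order 360. -/
theorem Setup.four [Finite G] (S : Setup P)
    (hcard : Nat.card (Subgroup.normalizer ((P : Subgroup G) : Set G)) = 36) {f : G}
    (hf : f ∈ Subgroup.normalizer ((P : Subgroup G) : Set G)) (hf2 : f * f ∉ (P : Subgroup G))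
    (hN : Subgroup.normalizer ((P : Subgroup G) : Set G) ≠ ⊤) :
    IsSimpleGroup G ∧ Nat.card G = 360 := by
  have : Fact (Nat.Prime 3) := ⟨Nat.prime_three⟩
  set T := (P : Subgroup G) with hT
  set N := Subgroup.normalizer (T : Set G)
  have hf4 : f * f * (f * f) ∈ T := by
    have := S.pow_mem (k := 4) hcard hf
    rwa [show f ^ 4 = f * f * (f * f) by simp [pow_succ, mul_assoc]] at this
  haveI : (T.subgroupOf N).Normal := Subgroup.normal_in_normalizer
  have hgen : ∀ n ∈ N, ∃ k : ℕ, ∃ t ∈ T, n = f ^ k * t := by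
    intro n hn
    set q := QuotientGroup.mk' (T.subgroupOf N)
    have hcardQ : Nat.card (N ⧸ T.subgroupOf N) = 4 := S.index_eq (k := 4) hcard
    have hord : orderOf (q ⟨f, hf⟩) = 4 := by
      have h4 : q ⟨f, hf⟩ ^ (2 ^ 2) = 1 := by
        rw [← map_pow]
        refine (QuotientGroup.eq_one_iff _).2 (Subgroup.mem_subgroupOf.2 ?_)
        simpa [pow_succ, mul_assoc] using hf4
      have h2 : ¬ q ⟨f, hf⟩ ^ (2 ^ 1) = 1 := by
        rw [← map_pow]
        intro e
        have := Subgroup.mem_subgroupOf.1 ((QuotientGroup.eq_one_iff _).1 e)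
        simp [pow_succ] at this
        exact hf2 this
      haveI := Fact.mk Nat.prime_two
      exact orderOf_eq_prime_pow h2 h4
    have htop : Subgroup.zpowers (q ⟨f, hf⟩) = ⊤ := Subgroup.eq_top_of_card_eq _ (by
      rw [Nat.card_zpowers, hord, hcardQ])
    obtain ⟨k, hk⟩ := (Submonoid.mem_powers_iff _ _).1 (mem_powers_iff_mem_zpowers.2
      (htop.symm ▸ Subgroup.mem_top (q ⟨n, hn⟩)))
    refine ⟨k, (f ^ k)⁻¹ * n, ?_, by group⟩
    rw [← map_pow] at hk
    exact Subgroup.mem_subgroupOf.1 (QuotientGroup.eq.1 hk)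
  have hsimple : IsSimpleGroup G := by
    haveI : Nontrivial G := by
      obtain ⟨a, b, hab⟩ := S.noncomm hN
      exact ⟨a * b, b * a, hab⟩
    refine ⟨fun K hK => ?_⟩
    by_cases hKT : K ⊓ T = ⊥
    · exact Or.inl (S.nine.toHyp.eq_bot_of_inf S.self_centralizing S.card_eq K hKT)
    refine Or.inr ?_
    have hle := S.le_of_inf_ne_bot hf hf2 hf4 K hKT
    have hKN := S.not_le_of_normalizer_ne_top (K := K) hle hN
    set Q := P.subtype hle
    have SK := S.subtype hle
    have hQN : Subgroup.normalizer ((Q : Subgroup K) : Set K) = N.subgroupOf K := by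
      rw [Sylow.coe_subtype, ← Subgroup.subgroupOf_normalizer_eq hle]
    have hQtop : Subgroup.normalizer ((Q : Subgroup K) : Set K) ≠ ⊤ := fun e =>
      hKN (Subgroup.subgroupOf_eq_top.1 (hQN.symm.trans e))
    obtain ⟨d, hd⟩ : 9 ∣ Nat.card (N ⊓ K : Subgroup G) := by
      rw [← S.card_eq]
      exact Subgroup.card_dvd_of_le (le_inf Subgroup.le_normalizer hle)
    have hd4 : d ∣ 4 := by
      have := Subgroup.card_dvd_of_le (inf_le_left : N ⊓ K ≤ N)
      rw [hd, hcard] at this
      exact (Nat.mul_dvd_mul_iff_left (by norm_num : 0 < 9)).1 this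
    have hcardK : Nat.card (Subgroup.normalizer ((Q : Subgroup K) : Set K)) = 9 * d :=
      (S.card_normalizer_subtype hle).trans hd
    have hd' : d = 1 ∨ d = 2 ∨ d = 4 := by
      have := Nat.le_of_dvd (by norm_num) hd4
      interval_cases d <;> simp_all
    rcases hd' with rfl | rfl | rfl
    · exfalso
      have hN1 : Subgroup.normalizer ((Q : Subgroup K) : Set K) = (Q : Subgroup K) :=
        (Subgroup.eq_of_le_of_card_ge Subgroup.le_normalizer (by
          rw [hcardK, SK.card_eq])).symm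
      obtain ⟨R, C, hCn, hC⟩ := CfsgLib.Transfer.hasNormalPComplement_of_normalizer_le_centralizer Q
        (by
          rw [hN1]
          exact fun x hx => Subgroup.mem_centralizer_iff.2 fun y hy => SK.nine.comm y hy x hx)
      have hC3 : C ⊓ (Q : Subgroup K) = ⊥ := by
        refine Subgroup.inf_eq_bot_of_coprime ?_
        rw [SK.card_eq, show (9 : ℕ) = 3 ^ 2 by norm_num]
        refine Nat.Coprime.pow_right 2 ((Nat.coprime_comm.1 (Nat.prime_three.coprime_iff_not_dvd.2 ?_)))
        rw [← hC.index_eq_card]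
        exact R.not_dvd_index
      have hCbot := SK.nine.toHyp.eq_bot_of_inf SK.self_centralizing SK.card_eq C hC3
      have hRtop : (R : Subgroup K) = ⊤ := by
        have := hC.sup_eq_top
        rwa [hCbot, bot_sup_eq] at this
      obtain ⟨g, hg⟩ := MulAction.exists_smul_eq K R Q
      refine hQtop (top_le_iff.1 (le_trans ?_ Subgroup.le_normalizer))
      rw [← hg, Sylow.coe_subgroup_smul, hRtop]
      intro x _
      rw [Subgroup.mem_pointwise_smul_iff_inv_smul_mem]
      exact Subgroup.mem_top _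
    · exfalso
      refine hQtop (SK.eq_top_two hcardK fun n hn => ?_)
      have hnN : (n : G) ∈ N := by rw [hQN, Subgroup.mem_subgroupOf] at hn; exact hn
      obtain ⟨k, t, ht, hkt⟩ := hgen n hnN
      have hfkN : f ^ k ∈ N := N.pow_mem hf k
      have hn2 : (n : G) ^ 2 ∈ T := by
        have := SK.pow_mem (k := 2) hcardK hn
        rwa [Sylow.coe_subtype, Subgroup.mem_subgroupOf, Subgroup.coe_pow] at this
      have hk2 : f ^ k * f ^ k ∈ T := by
        have hmid : (f ^ k)⁻¹ * t * f ^ k ∈ T := by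
          have := S.nine.conj_mem' (inv_mem hfkN) ht
          rwa [inv_inv] at this
        have e : f ^ k * f ^ k = (n : G) ^ 2 * (((f ^ k)⁻¹ * t * f ^ k) * t)⁻¹ := by
          rw [hkt, pow_two]; group
        rw [e]
        exact T.mul_mem hn2 (T.inv_mem (T.mul_mem hmid ht))
      obtain ⟨j, rfl | rfl⟩ : ∃ j, k = 2 * j ∨ k = 2 * j + 1 := ⟨k / 2, by omega⟩
      · rcases Nat.even_or_odd j with ⟨i, rfl⟩ | ⟨i, rfl⟩
        · left
          rw [Sylow.coe_subtype, Subgroup.mem_subgroupOf, hkt]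
          refine T.mul_mem ?_ ht
          rw [show 2 * (i + i) = 4 * i by ring, pow_mul]
          refine T.pow_mem ?_ i
          simpa [pow_succ, mul_assoc] using hf4
        · right
          intro x hx
          rw [Sylow.coe_subtype, Subgroup.mem_subgroupOf] at hx
          refine Subtype.ext ?_
          have hinv := S.nine.sq_inverts hf hf2 hf4 x hx
          have hfi : ∀ y ∈ T, f ^ (4 * i) * y * (f ^ (4 * i))⁻¹ = y := fun y hy => by
            rw [S.nine.comm _ (by rw [pow_mul]; exact T.pow_mem (by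
              simpa [pow_succ, mul_assoc] using hf4) i) y hy, mul_inv_cancel_right]
          simp only [Subgroup.coe_mul, Subgroup.coe_inv, hkt]
          rw [show 2 * (2 * i + 1) = 2 + 4 * i by ring, pow_add, pow_two]
          rw [show f * f * f ^ (4 * i) * t * (x : G) * (f * f * f ^ (4 * i) * t)⁻¹ =
            f * f * (f ^ (4 * i) * (t * x * t⁻¹) * (f ^ (4 * i))⁻¹) * (f * f)⁻¹ by group,
            S.nine.comm t ht _ hx, mul_inv_cancel_right, hfi _ hx, hinv]
      · exfalso
        refine hf2 ?_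
        have h4 : f ^ (4 * j) ∈ T := by
          rw [pow_mul]
          exact T.pow_mem (by simpa [pow_succ, mul_assoc] using hf4) j
        have e : f * f = (f ^ (4 * j))⁻¹ * (f ^ (2 * j + 1) * f ^ (2 * j + 1)) := by
          rw [← pow_add, show 2 * j + 1 + (2 * j + 1) = 4 * j + 2 by ring, pow_add,
            inv_mul_cancel_left, pow_two]
        rw [e]
        exact T.mul_mem (T.inv_mem h4) hk2
    · have hNK : N ≤ K := by
        have := Subgroup.eq_of_le_of_card_ge (inf_le_left : N ⊓ K ≤ N) (by rw [hd, hcard])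
        exact this ▸ inf_le_right
      have h1 := Sylow.normalizer_sup_eq_top Q
      rw [Sylow.coe_subtype, Subgroup.map_subgroupOf_eq_of_le hle, sup_of_le_right hNK] at h1
      exact h1
  refine ⟨hsimple, ?_⟩
  obtain ⟨F, hF⟩ := S.nine.frame_four hf hf2 hf4 hgen
  obtain ⟨C, hC⟩ := F.exists_fourChart S.self_centralizing hcard hF
  exact S.nine.card_of_four C hC hcard hN fun χ hχ h1 => linear_eq_one (S.noncomm hN) hχ h1

theorem Setup.prime_eq_two [Finite G] (S : Setup P) {p : ℕ} (hp : p.Prime)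
    (hdvd : p ∣ ((P : Subgroup G).subgroupOf
      (Subgroup.normalizer ((P : Subgroup G) : Set G))).index) : p = 2 := by
  have : Fact (Nat.Prime 3) := ⟨Nat.prime_three⟩
  haveI := Fact.mk hp
  set T := (P : Subgroup G) with hT
  set N := Subgroup.normalizer (T : Set G) with hN
  haveI : (T.subgroupOf N).Normal := Subgroup.normal_in_normalizer
  have hp3 : p ≠ 3 := by
    rintro rfl
    refine P.not_dvd_index (hdvd.trans ?_)
    refine ⟨N.index, ?_⟩
    rw [← Subgroup.relIndex_mul_index Subgroup.le_normalizer]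
    rfl
  have hdvdN : p ∣ Nat.card N := hdvd.trans (Subgroup.index_dvd_card _)
  obtain ⟨n, hn⟩ := exists_prime_orderOf_dvd_card' p hdvdN
  by_contra hp2
  have hnT : (n : G) ∉ T := fun h => hp3 (by
    have h1 := orderOf_dvd_of_pow_eq_one (S.cube _ h)
    rw [Subgroup.orderOf_coe, hn] at h1
    exact (Nat.prime_dvd_prime_iff_eq hp Nat.prime_three).1 h1)
  have hnp : (n : G) ^ p = 1 := by
    rw [← Subgroup.coe_pow, ← hn, pow_orderOf_eq_one, Subgroup.coe_one]
  let σ : Equiv.Perm T :=
    { toFun := fun t => ⟨(n : G) * t * (n : G)⁻¹, S.nine.conj_mem' n.2 t.2⟩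
      invFun := fun t => ⟨(n : G)⁻¹ * t * (n : G), by
        simpa using S.nine.conj_mem' (n⁻¹).2 t.2⟩
      left_inv := fun t => Subtype.ext (by simp [mul_assoc])
      right_inv := fun t => Subtype.ext (by simp [mul_assoc]) }
  have hσ : ∀ (k : ℕ) (t : T), ((σ ^ k) t : G) = (n : G) ^ k * t * ((n : G) ^ k)⁻¹ := by
    intro k
    induction k with
    | zero => intro t; simp
    | succ k ih =>
      intro t
      rw [pow_succ', Equiv.Perm.mul_apply]
      show (n : G) * ((σ ^ k) t : G) * (n : G)⁻¹ = _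
      rw [ih, pow_succ']
      group
  have hσp : σ ^ p = 1 := Equiv.ext fun t => Subtype.ext (by rw [hσ, hnp]; simp)
  haveI : Finite (Subgroup.zpowers σ) := inferInstance
  have hσP : IsPGroup p (Subgroup.zpowers σ) := by
    rintro ⟨x, k, rfl⟩
    refine ⟨1, Subtype.ext ?_⟩
    show (σ ^ k) ^ (p ^ 1) = 1
    rw [pow_one, ← zpow_natCast, ← zpow_mul, mul_comm, zpow_mul, zpow_natCast, hσp, one_zpow]
  have hmod := hσP.card_modEq_card_fixedPoints T
  let Fx : Subgroup G :=
    { carrier := {t | t ∈ T ∧ (n : G) * t * (n : G)⁻¹ = t}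
      one_mem' := ⟨T.one_mem, by simp⟩
      mul_mem' := fun {a b} ha hb => ⟨T.mul_mem ha.1 hb.1, by
        rw [show (n : G) * (a * b) * (n : G)⁻¹ = (n * a * (n : G)⁻¹) * (n * b * (n : G)⁻¹) by group,
          ha.2, hb.2]⟩
      inv_mem' := fun {a} ha => ⟨T.inv_mem ha.1, by
        rw [show (n : G) * a⁻¹ * (n : G)⁻¹ = ((n : G) * a * (n : G)⁻¹)⁻¹ by group, ha.2]⟩ }
  have hfix : Nat.card (MulAction.fixedPoints (Subgroup.zpowers σ) T) = Nat.card Fx := by
    refine Nat.card_congr
      { toFun := fun t => ⟨(t.1 : G), t.1.2, congrArg Subtype.val (t.2 ⟨σ, Subgroup.mem_zpowers σ⟩)⟩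
        invFun := fun t => ⟨⟨t.1, t.2.1⟩, fun g => ?_⟩
        left_inv := fun t => rfl
        right_inv := fun t => rfl }
    obtain ⟨g, k, rfl⟩ := g
    exact Equiv.Perm.zpow_apply_eq_self_of_apply_eq_self (Subtype.ext t.2.2 : σ _ = _) k
  rw [hfix, S.card_eq] at hmod
  have hFx : Fx ≤ T := fun t ht => ht.1
  have hdiv : Nat.card Fx ∣ 3 ^ 2 := by
    have := Subgroup.card_dvd_of_le hFx
    rwa [S.card_eq] at this
  obtain ⟨i, hi, hi'⟩ := (Nat.dvd_prime_pow Nat.prime_three).1 hdiv
  have h9 : Nat.card Fx ≠ 9 := fun e => hnT (S.nine.mem_of_fix_all fun t ht => by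
    have := Subgroup.eq_of_le_of_card_ge hFx (by rw [e, S.card_eq])
    exact (this.symm ▸ ht : t ∈ Fx).2)
  rw [hi'] at hmod h9
  interval_cases i
  · have := (Nat.modEq_iff_dvd' (by norm_num)).1 hmod.symm
    norm_num at this
    have h2 : p ∣ 2 ^ 3 := by simpa using this
    exact hp2 ((Nat.prime_dvd_prime_iff_eq hp Nat.prime_two).1 (hp.dvd_of_dvd_pow h2))
  · have := (Nat.modEq_iff_dvd' (by norm_num)).1 hmod.symm
    norm_num at this
    rcases (hp.dvd_mul (m := 2) (n := 3)).1 (by simpa using this) with h | h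
    · exact hp2 ((Nat.prime_dvd_prime_iff_eq hp Nat.prime_two).1 h)
    · exact hp3 ((Nat.prime_dvd_prime_iff_eq hp Nat.prime_three).1 h)
  · exact h9 (by norm_num)

end CfsgLib.TISylow
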