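import Cfsg.Agent.Lib.Char.Galois
import Cfsg.Agent.Lib.Char.Inner
import Cfsg.Agent.Lib.Char.Linear
import Cfsg.Agent.Lib.BlockA.Galois
import Mathlib

/-!
# Faithful rational-valued characters of small degree
-/

namespace CfsgLib.TISylow

open scoped ComplexConjugate

universe u

variable {G : Type u} [Group G] [Finite G] {χ : G → ℂ}

theorem exists_int_value (hχ : Cfsg.IsCharacter G χ)
    (hrat : ∀ n : ℕ, n.Coprime (Nat.card G) → ∀ g, χ (g ^ n) = χ g) (g : G) :
    ∃ v : ℤ, χ g = v := by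
  obtain ⟨x, hx⟩ := CfsgLib.Char.exists_rat_of_emb_fixed (CfsgLib.Char.charVal hχ g) fun ψ => by
    obtain ⟨m, hm, hψ⟩ := CfsgLib.Char.exists_pow_of_emb (Nat.card_pos (α := G)) ψ
    rw [CfsgLib.Char.emb_charVal hχ ψ hψ g, hrat m hm]
    rfl
  have hx' : χ g = (x : ℂ) := hx
  obtain ⟨n, ρ, rfl⟩ := hχ
  obtain ⟨v, rfl⟩ := CfsgLib.Char.exists_int_of_isIntegral_rat (q := x) (by
    rw [← hx']; exact CfsgLib.Char.char_isIntegral ρ g)
  exact ⟨v, by rw [hx', Rat.cast_intCast]⟩

/-- A prime divisor of the order is at most one more than the degree. -/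
theorem prime_le_degree (hχ : Cfsg.IsCharacter G χ) {d : ℕ} (hd : χ 1 = d)
    (hrat : ∀ n : ℕ, n.Coprime (Nat.card G) → ∀ g, χ (g ^ n) = χ g)
    (hker : ∀ g, g ≠ 1 → χ g ≠ χ 1) {p : ℕ} (hp : p.Prime) (hdvd : p ∣ Nat.card G) :
    p ≤ d + 1 := by
  classical
  haveI := Fact.mk hp
  haveI := Fintype.ofFinite G
  obtain ⟨g, hg⟩ := exists_prime_orderOf_dvd_card' p hdvd
  set H := Subgroup.zpowers g with hH
  haveI : Fintype H := Fintype.ofFinite _
  have hcardH : Nat.card H = p := by rw [hH, Nat.card_zpowers, hg]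
  have hg1 : g ≠ 1 := fun e => hp.one_lt.ne' (by rw [← hg, e, orderOf_one])
  have hconst : ∀ h : H, h ≠ 1 → χ h = χ g := by
    rintro ⟨h, hh⟩ hne
    obtain ⟨k, hk⟩ := (Submonoid.mem_powers_iff _ _).1 (mem_powers_iff_mem_zpowers.2 hh)
    subst hk
    have hkp : ¬ p ∣ k := fun hd' => hne (Subtype.ext (by
      show g ^ k = 1
      exact orderOf_dvd_iff_pow_eq_one.1 (hg ▸ hd')))
    haveI : NeZero (Nat.card G) := ⟨Nat.card_pos.ne'⟩
    obtain ⟨u, hu⟩ := ZMod.unitsMap_surjective hdvd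
      (ZMod.unitOfCoprime k (hp.coprime_iff_not_dvd.2 hkp).symm)
    set m := (u : ZMod (Nat.card G)).val with hm
    have hm1 : m.Coprime (Nat.card G) := ZMod.val_coe_unit_coprime u
    have hm2 : m ≡ k [MOD p] := by
      rw [← ZMod.natCast_eq_natCast_iff, hm]
      have h3 := congrArg (Units.val) hu
      rw [ZMod.unitsMap_val, ZMod.cast_eq_val, ZMod.coe_unitOfCoprime] at h3
      exact h3
    show χ (g ^ k) = χ g
    rw [← hrat m hm1 g]
    exact congrArg χ (pow_eq_pow_iff_modEq.2 (by rw [hg]; exact hm2.symm))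
  obtain ⟨lam, hlam⟩ := CfsgLib.Char.exists_linear_ne_one (G := H)
    (fun a b => by
      obtain ⟨a, i, rfl⟩ := a
      obtain ⟨b, j, rfl⟩ := b
      exact Subtype.ext (zpow_mul_comm g i j)) (g := ⟨g, Subgroup.mem_zpowers g⟩)
    (fun e => hg1 (congrArg Subtype.val e))
  have hres := CfsgLib.Char.isCharacter_restrict hχ H
  have h1 := CfsgLib.Char.isIrrCharacter_linear (1 : H →* ℂˣ)
  have hl := CfsgLib.Char.isIrrCharacter_linear lam
  obtain ⟨m0, hm0⟩ := CfsgLib.Char.classInner_isCharacter_nat hres (CfsgLib.Char.irr_isCharacter h1)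
  obtain ⟨m1, hm1⟩ := CfsgLib.Char.classInner_isCharacter_nat hres (CfsgLib.Char.irr_isCharacter hl)
  have horth : ∑ h : H, conj ((lam h : ℂˣ) : ℂ) = 0 := by
    have h2 := CfsgLib.Char.irr_classInner_ne hl h1 (fun e => hlam (by
      have := congrFun e ⟨g, Subgroup.mem_zpowers g⟩
      simpa using this))
    rw [CfsgLib.Char.classInner_def] at h2
    simp only [MonoidHom.one_apply, Units.val_one, map_one, mul_one, mul_eq_zero, inv_eq_zero,
      Nat.cast_eq_zero, Nat.card_pos.ne', false_or] at h2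
    rw [← map_sum, h2, map_zero]
  have hval : ∀ h : H, χ h = χ g + if h = 1 then χ 1 - χ g else 0 := fun h => by
    split_ifs with e
    · subst e; simp
    · rw [add_zero]; exact hconst h e
  have hpC : (p : ℂ) ≠ 0 := Nat.cast_ne_zero.2 hp.ne_zero
  rw [CfsgLib.Char.classInner_def, hcardH] at hm0 hm1
  simp only [MonoidHom.one_apply, Units.val_one, map_one, mul_one, hval, Finset.sum_add_distrib,
    Finset.sum_const, Finset.sum_ite_eq', Finset.mem_univ, if_true, Finset.card_univ,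
    nsmul_eq_mul] at hm0
  simp only [hval, add_mul, ite_mul, zero_mul, Finset.sum_add_distrib, Finset.sum_ite_eq',
    Finset.mem_univ, if_true, ← Finset.mul_sum, horth, mul_zero, zero_add, map_one, Units.val_one,
    mul_one] at hm1
  rw [← Nat.card_eq_fintype_card, hcardH, hd] at hm0
  rw [hd] at hm1
  have hm1pos : m1 ≠ 0 := fun e => hker g hg1 (by
    rw [e, Nat.cast_zero] at hm1
    rw [hd]
    exact (sub_eq_zero.1 ((mul_eq_zero.1 hm1).resolve_left (inv_ne_zero hpC))).symm)
  have key : (d : ℂ) + m1 = m0 + p * m1 := by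
    field_simp at hm0 hm1
    refine mul_left_cancel₀ hpC ?_
    linear_combination hm0 + ((p : ℂ) - 1) * hm1
  have key' : d + m1 = m0 + p * m1 := by exact_mod_cast key
  obtain ⟨q, rfl⟩ : ∃ q, p = q + 1 := ⟨p - 1, by have := hp.one_lt; omega⟩
  have := Nat.le_mul_of_pos_right q (Nat.pos_of_ne_zero hm1pos)
  rw [add_mul, one_mul] at key'
  omega

/-- Blichfeldt: the order divides `(2 d)!`. -/
theorem card_dvd_factorial (hχ : Cfsg.IsCharacter G χ) {d : ℕ} (hd : χ 1 = d)
    (hrat : ∀ n : ℕ, n.Coprime (Nat.card G) → ∀ g, χ (g ^ n) = χ g)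
    (hker : ∀ g, g ≠ 1 → χ g ≠ χ 1) : Nat.card G ∣ (2 * d).factorial := by
  classical
  haveI := Fintype.ofFinite G
  have hgenProd : ∀ k : ℕ, Cfsg.IsGeneralizedCharacter G
      (fun g => ∏ i ∈ Finset.range k, (χ g - ((d : ℂ) - (i + 1 : ℕ)))) := by
    intro k
    have hone : Cfsg.IsGeneralizedCharacter G (fun _ => (1 : ℂ)) :=
      CfsgLib.Char.isGeneralized_of_isCharacter CfsgLib.Char.isCharacter_one
    induction k with
    | zero => simpa using hone
    | succ k ih =>
      have h1 : Cfsg.IsGeneralizedCharacter G (fun g => χ g - ((d : ℂ) - (k + 1 : ℕ))) := by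
        have := CfsgLib.Char.isGeneralized_sub (CfsgLib.Char.isGeneralized_of_isCharacter hχ)
          (CfsgLib.Char.isGeneralized_zsmul hone ((d : ℤ) - (k + 1 : ℕ)))
        convert this using 1
        funext g
        simp
      convert CfsgLib.Char.isGeneralized_mul ih h1 using 1
      funext g
      simp [Finset.prod_range_succ]
  obtain ⟨z, hz⟩ := CfsgLib.Char.classInner_isGeneralized_int (hgenProd (2 * d))
    (CfsgLib.Char.isGeneralized_of_isCharacter (CfsgLib.Char.isCharacter_one (G := G)))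
  have hzero : ∀ g : G, g ≠ 1 →
      ∏ i ∈ Finset.range (2 * d), (χ g - ((d : ℂ) - (i + 1 : ℕ))) = 0 := by
    intro g hg
    obtain ⟨v, hv⟩ := exists_int_value hχ hrat g
    obtain ⟨n, ρ, hρ⟩ := id hχ
    have hfr : (Module.finrank ℂ (Fin n → ℂ) : ℝ) = d := by
      have : ρ.character 1 = (d : ℂ) := by rw [hρ]; exact hd
      rw [Representation.char_one] at this
      exact_mod_cast this
    have hle := CfsgLib.Char.norm_char_le (ρ := ρ) g
    rw [hρ, hfr, hv, Complex.norm_intCast] at hle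
    have hle' : |v| ≤ (d : ℤ) := by exact_mod_cast hle
    obtain ⟨hlo, hhi⟩ := abs_le.1 hle'
    have hne : v ≠ d := fun e => hker g hg (by rw [hv, hd, e]; simp)
    refine Finset.prod_eq_zero (i := ((d : ℤ) - v - 1).toNat) (Finset.mem_range.2 (by omega)) ?_
    rw [sub_eq_zero, hv]
    have e : ((((d : ℤ) - v - 1).toNat + 1 : ℕ) : ℤ) = (d : ℤ) - v := by omega
    have e' := congrArg (fun t : ℤ => (t : ℂ)) e
    push_cast at e' ⊢
    rw [e']
    ring
  rw [CfsgLib.Char.classInner_def] at hz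
  simp only [map_one, mul_one] at hz
  rw [Finset.sum_eq_single (1 : G) (fun g _ hg => hzero g hg)
    (fun h => absurd (Finset.mem_univ _) h), hd, inv_mul_eq_iff_eq_mul₀
    (Nat.cast_ne_zero.2 Nat.card_pos.ne')] at hz
  have h2 : (((2 * d).factorial : ℕ) : ℂ) = (Nat.card G : ℂ) * z := by
    rw [← hz, ← Finset.prod_range_add_one_eq_factorial, Nat.cast_prod]
    exact Finset.prod_congr rfl fun i _ => by push_cast; ring
  exact Int.natCast_dvd_natCast.1 ⟨z, by exact_mod_cast h2⟩

end CfsgLib.TISylow
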