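import Mathlib
import Cfsg.Agent.Lib.Char.Commutator

/-!
# A self-centralising elementary abelian Sylow 3-subgroup of order 9 with local centralisers

`Hyp T`: `T` is a trivial-intersection set, and a product relation `x y ∈ T#` between
non-conjugate elements of order 3 forces `x, y ∈ T`.  Hence the structure constants for two
non-conjugate classes of elements of order 3 are those of `N(T)`.
-/

namespace CfsgLib.TISylow

open scoped ComplexConjugate

variable {G : Type*} [Group G]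

/-- Abelian `T` of exponent 3 containing every element of order 3 of its normaliser, containing a
conjugate of each element of order 3, with centralisers of nontrivial elements in the normaliser. -/
structure Hyp (T : Subgroup G) : Prop where
  cube : ∀ t ∈ T, t ^ 3 = 1
  comm : ∀ s ∈ T, ∀ t ∈ T, s * t = t * s
  mem_of_mem : ∀ x ∈ Subgroup.normalizer (T : Set G), x ^ 3 = 1 → x ∈ T
  conj_mem : ∀ x : G, x ^ 3 = 1 → ∃ g : G, g * x * g⁻¹ ∈ T
  le_normalizer : ∀ t ∈ T, t ≠ 1 →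
    Subgroup.centralizer ({t} : Set G) ≤ Subgroup.normalizer (T : Set G)

theorem Hyp.of_sylow [Finite G] (P : Sylow 3 G) (hcube : ∀ t ∈ (P : Subgroup G), t ^ 3 = 1)
    (hcomm : ∀ s ∈ (P : Subgroup G), ∀ t ∈ (P : Subgroup G), s * t = t * s)
    (hle : ∀ t ∈ (P : Subgroup G), t ≠ 1 →
      Subgroup.centralizer ({t} : Set G) ≤ Subgroup.normalizer ((P : Subgroup G) : Set G)) :
    Hyp (P : Subgroup G) := by
  have hz : ∀ x : G, x ^ 3 = 1 → IsPGroup 3 (Subgroup.zpowers x) := fun x hx => by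
    have h1 : orderOf x ∣ 3 ^ 1 := by simpa using orderOf_dvd_of_pow_eq_one hx
    obtain ⟨k, -, hk⟩ := (Nat.dvd_prime_pow Nat.prime_three).1 h1
    exact IsPGroup.of_card (n := k) (by rw [Nat.card_zpowers, hk])
  refine ⟨hcube, hcomm, fun x hx hx3 => ?_, fun x hx3 => ?_, hle⟩
  · have hsup : IsPGroup 3 (Subgroup.zpowers x ⊔ (P : Subgroup G) : Subgroup G) :=
      (hz x hx3).to_sup_of_normal_right' P.isPGroup' (Subgroup.zpowers_le.2 hx)
    exact (P.is_maximal' hsup le_sup_right).le (Subgroup.mem_sup_left (Subgroup.mem_zpowers x))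
  · obtain ⟨Q, hQ⟩ := (hz x hx3).exists_le_sylow
    obtain ⟨g, rfl⟩ := MulAction.exists_smul_eq G P Q
    refine ⟨g⁻¹, ?_⟩
    have h1 := hQ (Subgroup.mem_zpowers x)
    rw [Sylow.coe_subgroup_smul, Subgroup.mem_pointwise_smul_iff_inv_smul_mem] at h1
    simpa [MulAut.smul_def] using h1

variable {T : Subgroup G}

theorem Hyp.mem_of_commute (h : Hyp T) {x t : G} (ht : t ∈ T) (ht1 : t ≠ 1) (hx : x ^ 3 = 1)
    (hc : x * t = t * x) : x ∈ T :=
  h.mem_of_mem x (h.le_normalizer t ht ht1 (Subgroup.mem_centralizer_singleton_iff.2 hc)) hx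

/-- `T` is a trivial intersection set. -/
theorem Hyp.mem_normalizer (h : Hyp T) {g t : G} (ht : t ∈ T) (ht1 : t ≠ 1)
    (hg : g * t * g⁻¹ ∈ T) : g ∈ Subgroup.normalizer (T : Set G) := by
  rw [Subgroup.mem_normalizer_iff]
  have key : ∀ a s : G, s ∈ T → s ≠ 1 → a * s * a⁻¹ ∈ T → ∀ u ∈ T, a * u * a⁻¹ ∈ T := by
    intro a s hs hs1 has u hu
    refine h.mem_of_commute has (by simpa using hs1) ?_ ?_
    · rw [conj_pow, h.cube u hu, mul_one, mul_inv_cancel]
    · rw [show a * u * a⁻¹ * (a * s * a⁻¹) = a * (u * s) * a⁻¹ by group, h.comm u hu s hs]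
      group
  refine fun u => ⟨key g t ht ht1 hg u, fun hu => ?_⟩
  have := key g⁻¹ (g * t * g⁻¹) hg (by simpa using ht1) (by simpa [mul_assoc] using ht) _ hu
  simpa [mul_assoc] using this

/-- The configuration `x³ = y³ = (x y)³ = 1` with `x`, `y` not conjugate lies in one conjugate of
`T`. -/
theorem Hyp.mem_of_mul_mem [Finite G] (h : Hyp T) {x y : G} (hx : x ^ 3 = 1) (hy : y ^ 3 = 1)
    (hxy : x * y ∈ T) (hz1 : x * y ≠ 1) (hne : ¬ IsConj x y) : x ∈ T ∧ y ∈ T := by
  set d0 := x⁻¹ * y with hd0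
  set d1 := y * x⁻¹ with hd1
  set d2 := x * y * x with hd2
  have hx' : x * x * x = 1 := by simpa [pow_succ] using hx
  have hy' : y * y * y = 1 := by simpa [pow_succ] using hy
  have hz : x * y * (x * y) * (x * y) = 1 := by simpa [pow_succ] using h.cube _ hxy
  have hxinv : x⁻¹ = x * x := inv_eq_of_mul_eq_one_right (by rw [← mul_assoc, hx'])
  have hyxy : y * x * y = x⁻¹ * y⁻¹ * x⁻¹ := by
    have e : (x * y * x) * (y * x * y) = 1 := by rw [← hz]; group
    rw [eq_inv_of_mul_eq_one_right e]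
    group
  have hyinv : y⁻¹ = y * y := inv_eq_of_mul_eq_one_right (by rw [← mul_assoc, hy'])
  have s0 : x * d0 * x⁻¹ = d1 := by rw [hd0, hd1]; group
  have hii : x⁻¹ * x⁻¹ = x := by
    rw [hxinv, show x * x * (x * x) = x * x * x * x by group, hx', one_mul]
  have s1 : x * d1 * x⁻¹ = d2 := by
    rw [hd1, hd2, show x * (y * x⁻¹) * x⁻¹ = x * y * (x⁻¹ * x⁻¹) by group, hii]
  have s2 : x * d2 * x⁻¹ = d0 := by
    rw [hd2, hd0, show x * (x * y * x) * x⁻¹ = x * x * y by group, hxinv]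
  have hprod : d0 * d1 * d2 = 1 := by
    rw [hd0, hd1, hd2, show x⁻¹ * y * (y * x⁻¹) * (x * y * x) = x⁻¹ * (y * y * y) * x by group,
      hy']
    group
  have c01 : Commute d0 d1 := by
    show d0 * d1 = d1 * d0
    rw [hd0, hd1, show x⁻¹ * y * (y * x⁻¹) = x⁻¹ * (y * y) * x⁻¹ by group, ← hyinv, ← hyxy,
      show y * x⁻¹ * (x⁻¹ * y) = y * (x⁻¹ * x⁻¹) * y by group, hii]
  have c12 : Commute d1 d2 := by
    rw [← s0, ← s1]
    exact Commute.map c01 (MulAut.conj x).toMonoidHom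
  have c20 : Commute d2 d0 := by
    rw [← s1, ← s2]
    exact Commute.map c12 (MulAut.conj x).toMonoidHom
  by_cases h3 : 3 ∣ orderOf d0
  · -- some nontrivial element of order dividing 3 commutes with `x` and `d0`
    obtain ⟨m, hm⟩ := h3
    set a0 := d0 ^ m with ha0
    set a1 := d1 ^ m with ha1
    set a2 := d2 ^ m with ha2
    have q0 : a0 ^ 3 = 1 := by rw [ha0, ← pow_mul, mul_comm m 3, ← hm, pow_orderOf_eq_one]
    have t0 : x * a0 * x⁻¹ = a1 := by rw [ha0, ← conj_pow, s0]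
    have t1 : x * a1 * x⁻¹ = a2 := by rw [ha1, ← conj_pow, s1]
    have t2 : x * a2 * x⁻¹ = a0 := by rw [ha2, ← conj_pow, s2]
    have q1 : a1 ^ 3 = 1 := by rw [← t0, conj_pow, q0, mul_one, mul_inv_cancel]
    have ne0 : a0 ≠ 1 := fun e => by
      have h1 := orderOf_dvd_of_pow_eq_one (ha0 ▸ e)
      have := orderOf_pos d0
      rcases Nat.eq_zero_or_pos m with rfl | hm0
      · omega
      · have := Nat.le_of_dvd hm0 h1
        omega
    obtain ⟨c, hc1, hc3, hcx, hcd⟩ : ∃ c : G, c ≠ 1 ∧ c ^ 3 = 1 ∧ Commute x c ∧ Commute c d0 := by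
      have cc : Commute a0 d0 := Commute.pow_left rfl m
      have cc1 : Commute a1 d0 := c01.symm.pow_left m
      have e012 : a0 * a1 * a2 = 1 := by
        rw [ha0, ha1, ha2, ← c01.mul_pow, ← (Commute.mul_left c20.symm c12).mul_pow, hprod,
          one_pow]
      by_cases e1 : a1 = a0
      · refine ⟨a0, ne0, q0, ?_, cc⟩
        show x * a0 = a0 * x
        have := t0.trans e1
        rwa [mul_inv_eq_iff_eq_mul] at this
      · refine ⟨a1 * a0⁻¹, fun e => e1 (mul_inv_eq_one.1 e), ?_, ?_, cc1.mul_left cc.inv_left⟩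
        · rw [((c01.symm.pow_pow m m).inv_right).mul_pow, inv_pow, q0, q1, inv_one, mul_one]
        · show x * (a1 * a0⁻¹) = a1 * a0⁻¹ * x
          have h01 : Commute a0 a1 := c01.pow_pow m m
          have ha2' : a2 = (a0 * a1)⁻¹ := eq_inv_of_mul_eq_one_right e012
          have key : x * (a1 * a0⁻¹) * x⁻¹ = a1 * a0⁻¹ := by
            rw [show x * (a1 * a0⁻¹) * x⁻¹ = (x * a1 * x⁻¹) * (x * a0 * x⁻¹)⁻¹ by group, t1, t0,
              ha2', mul_inv_rev]
            have e : a1⁻¹ * a0⁻¹ * a1⁻¹ = (a1⁻¹ * a1⁻¹) * a0⁻¹ := by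
              rw [mul_assoc, (h01.inv_left.inv_right).eq, ← mul_assoc]
            rw [e, ← mul_inv_rev, inv_eq_of_mul_eq_one_right (b := a1)
              (by rw [← q1, pow_succ, pow_two])]
          rwa [mul_inv_eq_iff_eq_mul] at key
    obtain ⟨g, hg⟩ := h.conj_mem c hc3
    have hcy : Commute c y := by
      have : y = x * d0 := by rw [hd0]; group
      rw [this]
      exact hcx.symm.mul_right hcd
    have cube_conj : ∀ w : G, w ^ 3 = 1 → (g * w * g⁻¹) ^ 3 = 1 := fun w hw => by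
      rw [conj_pow, hw, mul_one, mul_inv_cancel]
    have hgc : g * c * g⁻¹ ≠ 1 := by simpa using hc1
    have gx : g * x * g⁻¹ ∈ T := h.mem_of_commute hg hgc (cube_conj x hx)
      (Commute.map hcx (MulAut.conj g).toMonoidHom).eq
    have gy : g * y * g⁻¹ ∈ T := h.mem_of_commute hg hgc (cube_conj y hy)
      (Commute.map hcy.symm (MulAut.conj g).toMonoidHom).eq
    have gn : g ∈ Subgroup.normalizer (T : Set G) := h.mem_normalizer hxy hz1 (by
      rw [show g * (x * y) * g⁻¹ = g * x * g⁻¹ * (g * y * g⁻¹) by group]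
      exact T.mul_mem gx gy)
    exact ⟨(Subgroup.mem_normalizer_iff.1 gn x).2 gx, (Subgroup.mem_normalizer_iff.1 gn y).2 gy⟩
  · -- otherwise `x` and `y` are conjugate
    exfalso
    have hcop : (3 : ℕ).Coprime (orderOf d0) := (Nat.prime_three.coprime_iff_not_dvd).2 h3
    obtain ⟨k, hk⟩ : ∃ k : ℕ, (d0 ^ 3) ^ k = d0 := by
      obtain ⟨k, hk⟩ := exists_pow_eq_self_of_coprime hcop
      exact ⟨k, hk⟩
    refine hne (isConj_iff.2 ⟨(d1 * d0⁻¹) ^ k, ?_⟩)
    have hxb : x⁻¹ * (d1 * d0⁻¹) ^ k * x = (d0 * d2⁻¹) ^ k := by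
      have e := conj_pow (a := x⁻¹) (b := d1 * d0⁻¹) (i := k)
      rw [inv_inv] at e
      rw [← e]
      congr 1
      rw [show x⁻¹ * (d1 * d0⁻¹) * x = (x⁻¹ * d1 * x) * (x⁻¹ * d0 * x)⁻¹ by group]
      congr 1
      · rw [← s0]; group
      · rw [← s2]; group
    have hcm : Commute (d0 * d2⁻¹) (d1 * d0⁻¹) :=
      ((c01.mul_right (Commute.refl d0).inv_right)).mul_left
        ((c12.symm.mul_right c20.inv_right).inv_left)
    have hd12 : d1 * d2 = d0⁻¹ := by
      rw [mul_assoc] at hprod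
      exact eq_inv_of_mul_eq_one_right hprod
    have e3 : (d0 * d2⁻¹) * (d1 * d0⁻¹)⁻¹ = d0 ^ 3 := by
      rw [mul_inv_rev d1 d0⁻¹, inv_inv d0, show d0 * d2⁻¹ * (d0 * d1⁻¹) = d0 * (d2⁻¹ * d0) * d1⁻¹ by group,
        c20.inv_left.eq, show d0 * (d0 * d2⁻¹) * d1⁻¹ = d0 * d0 * (d1 * d2)⁻¹ by group, hd12,
        inv_inv, pow_succ, pow_two]
    have hd : x⁻¹ * (d1 * d0⁻¹) ^ k * x * ((d1 * d0⁻¹) ^ k)⁻¹ = d0 := by
      rw [hxb, ← inv_pow, ← hcm.inv_right.mul_pow, e3, hk]
    calc (d1 * d0⁻¹) ^ k * x * ((d1 * d0⁻¹) ^ k)⁻¹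
        = x * (x⁻¹ * (d1 * d0⁻¹) ^ k * x * ((d1 * d0⁻¹) ^ k)⁻¹) := by group
      _ = y := by rw [hd, hd0]; group

open scoped Classical in
/-- The number of pairs `(g, k)` with `g a g⁻¹ · k b k⁻¹ = c`. -/
noncomputable def pairCount (G : Type*) [Group G] (a b c : G) : ℕ :=
  Nat.card {p : G × G // p.1 * a * p.1⁻¹ * (p.2 * b * p.2⁻¹) = c}

/-- Structure constants from the character table. -/
theorem pairCount_eq_sum [Fintype G] [Fintype (Cfsg.IrrCharacter G)] (a b c : G) :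
    (pairCount G a b c : ℂ) = (Nat.card G : ℂ) * ∑ χ : Cfsg.IrrCharacter G,
      conj ((χ : G → ℂ) a * (χ : G → ℂ) b / (χ : G → ℂ) 1) * (χ : G → ℂ) c := by
  classical
  let N : G → ℂ := fun z => (pairCount G a b z : ℂ)
  have hN : ∀ z, N z = (((Finset.univ : Finset (G × G)).filter
      fun p => p.1 * a * p.1⁻¹ * (p.2 * b * p.2⁻¹) = z).card : ℂ) := fun z => by
    simp only [N, pairCount, Nat.card_eq_fintype_card, Fintype.card_subtype]
  have hcl : Cfsg.IsClassFunction G N := by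
    intro z h
    simp only [hN]
    congr 1
    refine Finset.card_equiv ((Equiv.mulLeft h⁻¹).prodCongr (Equiv.mulLeft h⁻¹)) fun p => ?_
    simp only [Finset.mem_filter, Finset.mem_univ, true_and, Equiv.prodCongr_apply, Prod.map,
      Equiv.coe_mulLeft]
    constructor
    · intro e
      rw [show z = h⁻¹ * (h * z * h⁻¹) * h by group, ← e]
      group
    · intro e
      rw [← e]
      group
  have hinner : ∀ χ : Cfsg.IrrCharacter G, Cfsg.classInner N (χ : G → ℂ) =
      (Nat.card G : ℂ) * conj ((χ : G → ℂ) a * (χ : G → ℂ) b / (χ : G → ℂ) 1) := by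
    rintro ⟨χ, n, ρ, hρ, rfl⟩
    change Cfsg.classInner N ρ.character =
      (Nat.card G : ℂ) * conj (ρ.character a * ρ.character b / ρ.character 1)
    have h1 : ∑ z : G, N z * conj (ρ.character z) =
        ∑ p : G × G, conj (ρ.character (p.1 * a * p.1⁻¹ * (p.2 * b * p.2⁻¹))) := by
      rw [← Finset.sum_fiberwise Finset.univ
        (fun p : G × G => p.1 * a * p.1⁻¹ * (p.2 * b * p.2⁻¹))]
      refine Finset.sum_congr rfl fun z _ => ?_
      rw [hN, Finset.sum_congr rfl (g := fun _ => conj (ρ.character z))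
        (fun p hp => by rw [(Finset.mem_filter.mp hp).2]), Finset.sum_const, nsmul_eq_mul]
    rw [CfsgLib.Char.classInner_def, h1, Fintype.sum_prod_type, Finset.sum_comm,
      Representation.char_one]
    simp only [← map_sum, CfsgLib.Char.sum_char_conj_mul, Representation.char_conj]
    rw [Finset.sum_const, Finset.card_univ, nsmul_eq_mul, ← Nat.card_eq_fintype_card, map_mul,
      map_natCast]
    simp only [map_div₀, map_mul, map_natCast]
    have : (Nat.card G : ℂ) ≠ 0 := CfsgLib.Char.natCard_ne_zero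
    field_simp
  have := CfsgLib.Char.classFunction_apply_eq_sum hcl c
  rw [Finset.mul_sum]
  refine this.trans (Finset.sum_congr rfl fun χ _ => ?_)
  rw [hinner]
  ring

/-- The structure constants of two non-conjugate classes are local. -/
theorem Hyp.pairCount_local [Finite G] (h : Hyp T) {N : Subgroup G}
    (hN : N = Subgroup.normalizer (T : Set G)) (a b c : N) (ha : (a : G) ∈ T) (ha1 : a ≠ 1)
    (hb : (b : G) ∈ T) (hb1 : b ≠ 1) (hc : (c : G) ∈ T) (hc1 : c ≠ 1) (hab : ¬ IsConj a b) :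
    pairCount G (a : G) b c = pairCount N a b c := by
  subst hN
  have hne : ¬ IsConj (a : G) b := fun hcj => by
    obtain ⟨g, hg⟩ := isConj_iff.1 hcj
    have hgN := h.mem_normalizer ha (fun e => ha1 (Subtype.ext e)) (hg ▸ hb)
    exact hab (isConj_iff.2 ⟨⟨g, hgN⟩, Subtype.ext hg⟩)
  refine (Nat.card_congr (Equiv.ofBijective
    (fun p => ⟨((p.1.1 : G), (p.1.2 : G)), congrArg Subtype.val p.2⟩) ⟨?_, ?_⟩)).symm
  · rintro ⟨⟨p1, p2⟩, hp⟩ ⟨⟨q1, q2⟩, hq⟩ e
    simp only [Subtype.mk.injEq, Prod.mk.injEq] at e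
    exact Subtype.ext (Prod.ext (Subtype.ext e.1) (Subtype.ext e.2))
  · rintro ⟨⟨g, k⟩, hp⟩
    have cube_conj : ∀ g w : G, w ∈ T → (g * w * g⁻¹) ^ 3 = 1 := fun g w hw => by
      rw [conj_pow, h.cube w hw, mul_one, mul_inv_cancel]
    simp only at hp
    obtain ⟨hgT, hkT⟩ := h.mem_of_mul_mem (cube_conj g a ha) (cube_conj k b hb) (hp ▸ hc)
      (fun e => hc1 (Subtype.ext (hp ▸ e))) (fun hcj => hne
        ((isConj_iff.2 ⟨g, rfl⟩).trans (hcj.trans (isConj_iff.2 ⟨k, rfl⟩).symm)))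
    exact ⟨⟨(⟨g, h.mem_normalizer ha (fun e => ha1 (Subtype.ext e)) hgT⟩,
      ⟨k, h.mem_normalizer hb (fun e => hb1 (Subtype.ext e)) hkT⟩), Subtype.ext hp⟩, rfl⟩

end CfsgLib.TISylow
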