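import Cfsg.Agent.Lib.TISylow.CasesDihedral
import Cfsg.Agent.Lib.TISylow.Structure
import Cfsg.Agent.Lib.InvChar.AltSixCentralizer
import Cfsg.Agent.Lib.InvChar.SymSixRecognition
import Cfsg.Agent.S0497

/-!
# Self-centralising TI Sylow 3-subgroups of order nine with dihedral automizer
-/

namespace CfsgLib.TISylow

open scoped Pointwise commutatorElement

universe u

variable {G : Type u} [Group G] {P : Sylow 3 G}

/-- An element outside the commutator subgroup gives a nontrivial linear character. -/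
theorem exists_linear_of_not_mem [Finite G] {g : G} (hg : g ∉ commutator G) :
    ∃ χ : G → ℂ, Cfsg.IsIrrCharacter G χ ∧ χ 1 = 1 ∧ χ ≠ fun _ => 1 := by
  obtain ⟨lam, hlam⟩ := CfsgLib.BlockB.GaloisDegree.exists_linear_ne_one hg
  refine ⟨_, CfsgLib.Char.isIrrCharacter_linear lam, by simp, fun e => hlam ?_⟩
  exact Units.ext (congrFun e g)

theorem index_two_cube_mem {H : Subgroup G} (hH : H.index = 2) {x : G} (hx : x ^ 3 = 1) :
    x ∈ H := by
  have h4 : x = (x ^ 2) ^ 2 := by
    rw [← pow_mul, show 2 * 2 = 3 + 1 from rfl, pow_succ, hx, one_mul]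
  rw [h4]
  exact Subgroup.sq_mem_of_index_two hH _

/-- Generators of the normaliser modulo the Sylow subgroup, as in the dihedral group of order 8. -/
structure Dih (P : Sylow 3 G) (f s : G) : Prop where
  f_mem : f ∈ Subgroup.normalizer ((P : Subgroup G) : Set G)
  s_mem : s ∈ Subgroup.normalizer ((P : Subgroup G) : Set G)
  f_sq : f * f ∉ (P : Subgroup G)
  f_four : f * f * (f * f) ∈ (P : Subgroup G)
  s_not : s ∉ (P : Subgroup G)
  s_sq : s * s ∈ (P : Subgroup G)
  s_f : s * f * s⁻¹ * f ∈ (P : Subgroup G)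
  gen : ∀ n ∈ Subgroup.normalizer ((P : Subgroup G) : Set G), ∃ k : ℕ, ∃ t ∈ (P : Subgroup G),
    n = f ^ k * t ∨ n = f ^ k * s * t
  card : Nat.card (Subgroup.normalizer ((P : Subgroup G) : Set G)) = 72

theorem Setup.exists_dih [Finite G] (S : Setup P)
    [((P : Subgroup G).subgroupOf (Subgroup.normalizer ((P : Subgroup G) : Set G))).Normal]
    (e : Subgroup.normalizer ((P : Subgroup G) : Set G) ⧸
      (P : Subgroup G).subgroupOf (Subgroup.normalizer ((P : Subgroup G) : Set G)) ≃*
        DihedralGroup 4) : ∃ f s, Dih P f s := by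
  set N := Subgroup.normalizer ((P : Subgroup G) : Set G) with hN
  set T := (P : Subgroup G) with hT
  let q := e.toMonoidHom.comp (QuotientGroup.mk' (T.subgroupOf N))
  have hq : Function.Surjective q := e.surjective.comp (QuotientGroup.mk'_surjective _)
  have hker : ∀ n : N, q n = 1 ↔ (n : G) ∈ T := fun n => by
    rw [MonoidHom.comp_apply, MulEquiv.toMonoidHom_eq_coe, MonoidHom.coe_coe,
      EmbeddingLike.map_eq_one_iff, QuotientGroup.mk'_apply, QuotientGroup.eq_one_iff,
      Subgroup.mem_subgroupOf]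
  have hmem : ∀ x y : N, q x = q y → ∃ t ∈ T, (x : G) = y * t := fun x y hxy =>
    ⟨((y⁻¹ * x : N) : G), (hker _).1 (by rw [map_mul, map_inv, hxy, inv_mul_cancel]), by simp⟩
  obtain ⟨f, hf⟩ := hq (DihedralGroup.r 1)
  obtain ⟨s, hs⟩ := hq (DihedralGroup.sr 0)
  refine ⟨f, s, f.2, s.2, fun h => ?_, ?_, fun h => ?_, ?_, ?_, fun n hn => ?_, ?_⟩
  · have := (hker (f * f)).2 (by simpa using h)
    rw [map_mul, hf] at this
    exact absurd this (by decide)
  · have : q (f * f * (f * f)) = 1 := by rw [map_mul, map_mul, hf]; decide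
    simpa using (hker _).1 this
  · have := (hker s).2 h
    rw [hs] at this
    exact absurd this (by decide)
  · have : q (s * s) = 1 := by rw [map_mul, hs]; decide
    simpa using (hker _).1 this
  · have : q (s * f * s⁻¹ * f) = 1 := by
      rw [map_mul, map_mul, map_mul, map_inv, hs, hf]; decide
    simpa using (hker _).1 this
  · have hD : ∀ x : DihedralGroup 4, ∃ k : Fin 4,
        x = DihedralGroup.r 1 ^ (k : ℕ) ∨ x = DihedralGroup.r 1 ^ (k : ℕ) * DihedralGroup.sr 0 := by
      decide +kernel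
    obtain ⟨k, h1 | h1⟩ := hD (q ⟨n, hn⟩)
    · obtain ⟨t, ht, ht'⟩ := hmem ⟨n, hn⟩ (f ^ (k : ℕ)) (by rw [h1, map_pow, hf])
      exact ⟨k, t, ht, Or.inl (by simpa using ht')⟩
    · obtain ⟨t, ht, ht'⟩ := hmem ⟨n, hn⟩ (f ^ (k : ℕ) * s) (by rw [h1, map_mul, map_pow, hf, hs])
      exact ⟨k, t, ht, Or.inr (by simpa using ht')⟩
  · rw [← Subgroup.card_mul_index (T.subgroupOf N),
      Nat.card_congr (Subgroup.subgroupOfEquivOfLe Subgroup.le_normalizer).toEquiv, S.card_eq,
      Subgroup.index_eq_card, Nat.card_congr e.toEquiv, DihedralGroup.nat_card]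

/-- Coordinates in which the normaliser is all of `Mon`. -/
theorem Setup.exists_mon [Finite G] (S : Setup P) {f s : G} (d : Dih P f s) :
    (∃ C : Chart (P : Subgroup G) monFamily, C.cls = axisCls) ∧
    ∃ F : Frame (P : Subgroup G), ∀ g : Mon, ∃ n : Subgroup.normalizer ((P : Subgroup G) : Set G),
      ∀ v, (n : G) * F.τ v * (n : G)⁻¹ = F.τ (g.lin v) := by
  obtain ⟨F, -⟩ := S.nine.frame_dihedral d.f_mem d.s_mem d.f_sq d.f_four d.s_not d.s_sq d.s_f d.gen
  refine ⟨F.exists_monChart S.self_centralizing d.card, F, fun g => ?_⟩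
  obtain ⟨e, hinj, -, hlin⟩ := F.exists_hom S.self_centralizing
  haveI := Fintype.ofFinite (Subgroup.normalizer ((P : Subgroup G) : Set G))
  obtain ⟨n, hn⟩ := ((Fintype.bijective_iff_injective_and_card e).2
    ⟨hinj, by rw [← Nat.card_eq_fintype_card, d.card]; decide +kernel⟩).2 g
  exact ⟨n, fun v => hn ▸ hlin n v⟩

theorem Setup.le_of_dih [Finite G] (S : Setup P) {f s : G} (d : Dih P f s) {K : Subgroup G}
    [K.Normal] (hK : K ≠ ⊥) : (P : Subgroup G) ≤ K :=
  S.le_of_inf_ne_bot d.f_mem d.f_sq d.f_four K fun e =>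
    hK (S.nine.toHyp.eq_bot_of_inf S.self_centralizing S.card_eq K e)

theorem Setup.sup_eq_top [Finite G] (_S : Setup P) {K : Subgroup G} [K.Normal]
    (hle : (P : Subgroup G) ≤ K) :
    Subgroup.normalizer ((P : Subgroup G) : Set G) ⊔ K = ⊤ := by
  have : Fact (Nat.Prime 3) := ⟨Nat.prime_three⟩
  have h1 := Sylow.normalizer_sup_eq_top (P.subtype hle)
  rwa [Sylow.coe_subtype, Subgroup.map_subgroupOf_eq_of_le hle] at h1

/-- The affine map `(x, y) ↦ (x, -y) + w`. -/
def aff (w : Vec) : Equiv.Perm Vec where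
  toFun v := (v.1 + w.1, -v.2 + w.2)
  invFun v := (v.1 - w.1, -(v.2 - w.2))
  left_inv v := by simp
  right_inv v := by simp

theorem sign_aff : ∀ w : Vec, Equiv.Perm.sign (aff w) = -1 := by decide +kernel

/-- With ten conjugates of the Sylow subgroup a reflection acts oddly. -/
theorem Setup.exists_index_two_of_ten [Finite G] (S : Setup P) {f s : G} (d : Dih P f s)
    (hi : (Subgroup.normalizer ((P : Subgroup G) : Set G)).index = 10) :
    ∃ H : Subgroup G, H.index = 2 := by
  classical
  set N := Subgroup.normalizer ((P : Subgroup G) : Set G) with hN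
  obtain ⟨-, F, hF⟩ := S.exists_mon d
  obtain ⟨s0, hs0⟩ := hF ⟨0, false, false, true⟩
  obtain ⟨g0, hg0⟩ : ∃ g0, g0 ∉ N := by
    by_contra hcon
    push Not at hcon
    rw [show N = ⊤ from top_le_iff.1 fun x _ => hcon x, Subgroup.index_top] at hi
    omega
  have τN : ∀ v, F.τ v ∈ N := fun v => Subgroup.le_normalizer (F.τ_mem v)
  let Φ : Option Vec → G ⧸ N := fun o => o.elim ((1 : G) : G ⧸ N) fun v => ((F.τ v * g0 : G) : G ⧸ N)
  have hΦ : Function.Injective Φ := by
    intro a b h
    rcases a with _ | v <;> rcases b with _ | w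
    · rfl
    · exfalso
      have e : (1 : G)⁻¹ * (F.τ w * g0) ∈ N := QuotientGroup.eq.1 h
      rw [inv_one, one_mul] at e
      exact hg0 ((Subgroup.mul_mem_cancel_left N (τN w)).1 e)
    · exfalso
      have e : (F.τ v * g0)⁻¹ * 1 ∈ N := QuotientGroup.eq.1 h
      rw [mul_one, inv_mem_iff] at e
      exact hg0 ((Subgroup.mul_mem_cancel_left N (τN v)).1 e)
    · refine congrArg some (F.τ_inj (inv_mul_eq_one.1 ?_))
      have e : (F.τ v * g0)⁻¹ * (F.τ w * g0) ∈ N := QuotientGroup.eq.1 h
      refine S.nine.toHyp.eq_one_of_smul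
        ((P : Subgroup G).mul_mem ((P : Subgroup G).inv_mem (F.τ_mem v)) (F.τ_mem w)) hg0 ?_
      simp only [mul_inv_rev, mul_assoc] at e ⊢
      exact e
  haveI := Fintype.ofFinite (G ⧸ N)
  have hbij : Function.Bijective Φ := (Fintype.bijective_iff_injective_and_card Φ).2
    ⟨hΦ, by rw [← Nat.card_eq_fintype_card (α := G ⧸ N), ← Subgroup.index_eq_card, hi]; rfl⟩
  obtain ⟨w, hw⟩ : ∃ w, Φ (some w) = (((s0 : G) * g0 : G) : G ⧸ N) := by
    obtain ⟨o, ho⟩ := hbij.2 (((s0 : G) * g0 : G) : G ⧸ N)
    rcases o with _ | w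
    · exfalso
      have e : (1 : G)⁻¹ * ((s0 : G) * g0) ∈ N := QuotientGroup.eq.1 ho
      rw [inv_one, one_mul] at e
      exact hg0 ((Subgroup.mul_mem_cancel_left N s0.2).1 e)
    · exact ⟨w, ho⟩
  have hw' : (F.τ w * g0)⁻¹ * ((s0 : G) * g0) ∈ N := QuotientGroup.eq.1 hw
  let σ := MulAction.toPermHom G (G ⧸ N)
  have hconj : (Equiv.ofBijective Φ hbij).permCongr (Equiv.optionCongr (aff w)) = σ (s0 : G) := by
    refine Equiv.ext fun x => ?_
    obtain ⟨o, rfl⟩ := hbij.2 x
    rw [Equiv.permCongr_apply]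
    rw [show (Equiv.ofBijective Φ hbij).symm (Φ o) = o from
      (Equiv.ofBijective Φ hbij).symm_apply_apply o]
    rcases o with _ | v
    · show ((1 : G) : G ⧸ N) = (s0 : G) • ((1 : G) : G ⧸ N)
      rw [MulAction.Quotient.smul_coe]
      exact QuotientGroup.eq.2 (by simp)
    · show ((F.τ (v.1 + w.1, -v.2 + w.2) * g0 : G) : G ⧸ N) =
        (s0 : G) • ((F.τ v * g0 : G) : G ⧸ N)
      rw [MulAction.Quotient.smul_coe]
      refine QuotientGroup.eq.2 ?_
      have hl : ((v.1 + w.1, -v.2 + w.2) : Vec) = (⟨0, false, false, true⟩ : Mon).lin v + w := by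
        simp [Mon.lin, Mon.sgn, Prod.ext_iff]
      rw [hl, F.τ_add, ← hs0 v, smul_eq_mul]
      have e : ((s0 : G) * F.τ v * (s0 : G)⁻¹ * F.τ w * g0)⁻¹ * ((s0 : G) * (F.τ v * g0)) =
          (F.τ w * g0)⁻¹ * ((s0 : G) * g0) := by group
      rw [e]
      exact hw'
  refine ⟨(Equiv.Perm.sign.comp σ).ker, ?_⟩
  have hs : Equiv.Perm.sign.comp σ (s0 : G) = -1 := by
    rw [MonoidHom.comp_apply, ← hconj, Equiv.Perm.sign_permCongr, Equiv.optionCongr_sign, sign_aff]
  have hsurj : Function.Surjective (Equiv.Perm.sign.comp σ) := fun u => by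
    rcases Int.units_eq_one_or u with rfl | rfl
    · exact ⟨1, map_one _⟩
    · exact ⟨_, hs⟩
  rw [Subgroup.index_ker, MonoidHom.range_eq_top.2 hsurj, Subgroup.card_top, Nat.card_eq_fintype_card]
  rfl

/-- Either the Sylow subgroup is normal or there is a subgroup of index two. -/
theorem Setup.exists_index_two [Finite G] (S : Setup P) {f s : G} (d : Dih P f s)
    (hN : Subgroup.normalizer ((P : Subgroup G) : Set G) ≠ ⊤) :
    ∃ H : Subgroup G, H.index = 2 := by
  set T := (P : Subgroup G) with hT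
  set N := Subgroup.normalizer (T : Set G) with hNdef
  by_cases hlin : ∀ χ : G → ℂ, Cfsg.IsIrrCharacter G χ → χ 1 = 1 → χ = fun _ => 1
  · have hfaith : ∀ χ : G → ℂ, Cfsg.IsIrrCharacter G χ → χ ≠ (fun _ => 1) →
        ∀ g, g ≠ 1 → χ g ≠ χ 1 := by
      intro χ hχ hne g hg1 hg
      set K := CfsgLib.BlockB.GaloisDegree.ker (⟨χ, hχ⟩ : Cfsg.IrrCharacter G)
      have hKne : K ≠ ⊥ := fun e => hg1 (Subgroup.mem_bot.1
        (e ▸ CfsgLib.BlockB.GaloisDegree.mem_ker.2 hg))
      have hle := S.le_of_dih d hKne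
      have h2 : IsPGroup 2 (G ⧸ K) := by
        intro x
        obtain ⟨x, rfl⟩ := QuotientGroup.mk'_surjective K x
        have hx : x ∈ N ⊔ K := (S.sup_eq_top hle).symm ▸ Subgroup.mem_top x
        obtain ⟨n, hn, k, hk, rfl⟩ := Subgroup.mem_sup_of_normal_right.1 hx
        refine ⟨3, ?_⟩
        rw [map_mul, show QuotientGroup.mk' K k = 1 from (QuotientGroup.eq_one_iff k).2 hk,
          mul_one, ← map_pow]
        exact (QuotientGroup.eq_one_iff _).2 (hle (S.pow_mem (k := 8) d.card hn))
      by_cases htriv : K = ⊤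
      · have hconst : χ = fun _ => χ 1 := funext fun x =>
          CfsgLib.BlockB.GaloisDegree.mem_ker.1 (htriv ▸ Subgroup.mem_top x : x ∈ K)
        haveI := Fintype.ofFinite G
        have h11 := CfsgLib.Char.irr_classInner_self hχ
        obtain ⟨dd, hdd0, hdd⟩ := CfsgLib.Char.irr_apply_one_pos hχ
        rw [CfsgLib.Char.classInner_def, hconst, hdd] at h11
        simp only [map_natCast, Finset.sum_const, Finset.card_univ, nsmul_eq_mul] at h11
        rw [← Nat.card_eq_fintype_card, inv_mul_cancel_left₀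
          (Nat.cast_ne_zero.2 Nat.card_pos.ne')] at h11
        have hd1 : dd = 1 := by
          have : dd * dd = 1 := by exact_mod_cast h11
          exact (mul_eq_one.1 this).1
        exact hne (hlin χ hχ (by rw [hdd, hd1, Nat.cast_one]))
      · haveI : Fact (Nat.Prime 2) := ⟨Nat.prime_two⟩
        haveI : Nontrivial (G ⧸ K) := by
          obtain ⟨x, hx⟩ : ∃ x, x ∉ K := by
            by_contra hcon
            push Not at hcon
            exact htriv (top_le_iff.1 fun x _ => hcon x)
          exact ⟨QuotientGroup.mk' K x, 1, fun e => hx ((QuotientGroup.eq_one_iff x).1 e)⟩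
        haveI : Group.IsNilpotent (G ⧸ K) := h2.isNilpotent
        obtain ⟨y, hy⟩ : ∃ y, y ∉ commutator (G ⧸ K) := by
          by_contra hcon
          push Not at hcon
          exact (IsSolvable.commutator_lt_top_of_nontrivial (G ⧸ K)).ne
            (top_le_iff.1 fun x _ => hcon x)
        obtain ⟨y, rfl⟩ := QuotientGroup.mk'_surjective K y
        obtain ⟨ψ, hψ, hψ1, hψne⟩ := exists_linear_of_not_mem (g := y) fun hy' => hy (by
          rw [commutator_def] at hy' ⊢
          have := Subgroup.mem_map_of_mem (QuotientGroup.mk' K) hy'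
          rw [Subgroup.map_commutator] at this
          exact Subgroup.commutator_mono le_top le_top this)
        exact hψne (hlin ψ hψ hψ1)
    obtain ⟨⟨C, hC⟩, -⟩ := S.exists_mon d
    have h720 := S.nine.card_of_dihedral C hC d.card hN hlin hfaith
    refine S.exists_index_two_of_ten d ?_
    have := Subgroup.card_mul_index N
    rw [d.card, h720] at this
    show N.index = 10
    omega
  · push Not at hlin
    obtain ⟨χ, hχ, h1, hne⟩ := hlin
    set K := CfsgLib.BlockB.GaloisDegree.ker (⟨χ, hχ⟩ : Cfsg.IrrCharacter G)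
    have hcK : commutator G ≤ K := CfsgLib.BlockB.GaloisDegree.commutator_le_ker
      (χ := ⟨χ, hχ⟩) h1
    have hKtop : K ≠ ⊤ := fun e => hne (funext fun x =>
      (CfsgLib.BlockB.GaloisDegree.mem_ker.1 (e ▸ Subgroup.mem_top x : x ∈ K)).trans h1)
    have hKbot : K ≠ ⊥ := fun e => by
      obtain ⟨a, b, hab⟩ := S.noncomm hN
      refine hab ?_
      have := hcK (Subgroup.commutator_mem_commutator (Subgroup.mem_top a) (Subgroup.mem_top b))
      rwa [e, Subgroup.mem_bot, commutatorElement_eq_one_iff_mul_comm] at this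
    have hle := S.le_of_dih d hKbot
    obtain ⟨n, hn, hnK⟩ : ∃ n ∈ N, n ∉ K := by
      by_contra hcon
      push Not at hcon
      have := S.sup_eq_top hle
      rw [sup_of_le_right hcon] at this
      exact hKtop this
    have hcomm : ∀ a b : G ⧸ K, a * b = b * a := fun a b => by
      obtain ⟨a, rfl⟩ := QuotientGroup.mk'_surjective K a
      obtain ⟨b, rfl⟩ := QuotientGroup.mk'_surjective K b
      rw [← map_mul, ← map_mul]
      refine QuotientGroup.eq.2 ?_
      rw [show (a * b)⁻¹ * (b * a) = ⁅b⁻¹, a⁻¹⁆ by rw [commutatorElement_def]; group]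
      exact hcK (Subgroup.commutator_mem_commutator (Subgroup.mem_top _) (Subgroup.mem_top _))
    set q := QuotientGroup.mk' K with hq
    have hT1 : ∀ t ∈ T, q t = 1 := fun t ht => (QuotientGroup.eq_one_iff t).2 (hle ht)
    have hff : q f * q f = 1 := by
      have := hT1 _ d.s_f
      rw [map_mul, map_mul, map_mul, map_inv, hcomm (q s) (q f), mul_inv_cancel_right] at this
      exact this
    have hss : q s * q s = 1 := by rw [← map_mul]; exact hT1 _ d.s_sq
    have hn2 : q n * q n = 1 := by
      obtain ⟨k, t, ht, h | h⟩ := d.gen n hn <;> rw [h]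
      · rw [map_mul, hT1 t ht, mul_one, map_pow, ← (show Commute (q f) (q f) from rfl).mul_pow, hff,
          one_pow]
      · rw [map_mul, map_mul, hT1 t ht, mul_one, map_pow,
          show q f ^ k * q s * (q f ^ k * q s) = q f ^ k * q f ^ k * (q s * q s) by
            rw [mul_assoc, ← mul_assoc (q s), hcomm (q s) (q f ^ k)]; group,
          hss, mul_one, ← (show Commute (q f) (q f) from rfl).mul_pow, hff, one_pow]
    have h2dvd : 2 ∣ K.index := by
      have hord : orderOf (q n) = 2 := orderOf_eq_prime (by rw [pow_two, hn2])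
        (fun e => hnK ((QuotientGroup.eq_one_iff n).1 e))
      rw [Subgroup.index_eq_card, ← hord]
      exact orderOf_dvd_natCard _
    exact CfsgLib.InvChar.DihedralSylow.exists_index_two_of_even
      (h2dvd.trans (Subgroup.index_dvd_of_le hcK))

/-- Automizer dihedral of order eight: normal, or a simple subgroup of index two of order 360
missing a reflection. -/
theorem Setup.dihedral [Finite G] (S : Setup P) {f s : G} (d : Dih P f s)
    (hN : Subgroup.normalizer ((P : Subgroup G) : Set G) ≠ ⊤) :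
    ∃ H : Subgroup G, H.index = 2 ∧ IsSimpleGroup H ∧ Nat.card H = 360 ∧
      ∃ r a : G, r ∉ H ∧ a ∈ H ∧ a ^ 3 = 1 ∧ a ≠ 1 ∧ r * a * r⁻¹ = a := by
  obtain ⟨H, hH⟩ := S.exists_index_two d hN
  haveI := Subgroup.normal_of_index_eq_two hH
  set T := (P : Subgroup G) with hT
  set N := Subgroup.normalizer (T : Set G) with hNdef
  have hle : T ≤ H := fun x hx => index_two_cube_mem hH (S.cube x hx)
  have hnle : ¬ N ≤ H := fun hle' => by
    have := S.sup_eq_top (K := H) hle
    rw [sup_of_le_right hle'] at this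
    rw [this, Subgroup.index_top] at hH
    omega
  have hidx : (H.subgroupOf N).index = 2 := by
    obtain ⟨n, hn, hnH⟩ := SetLike.not_le_iff_exists.1 hnle
    refine Subgroup.index_eq_two_iff.2 ⟨⟨n, hn⟩, fun b => ?_⟩
    simp only [Subgroup.mem_subgroupOf, Subgroup.coe_mul]
    by_cases hb : (b : G) ∈ H
    · exact Or.inr ⟨hb, fun h => hnH ((mul_mem_cancel_left hb).1 h)⟩
    · exact Or.inl ⟨(Subgroup.mul_mem_iff_of_index_two hH).2 (iff_of_false hb hnH), hb⟩
  have h36 : Nat.card (N ⊓ H : Subgroup G) = 36 := by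
    have := Subgroup.card_mul_index (H.subgroupOf N)
    rw [hidx, d.card, ← Subgroup.inf_subgroupOf_left,
      Nat.card_congr (Subgroup.subgroupOfEquivOfLe inf_le_left).toEquiv] at this
    omega
  have SH := S.subtype hle
  have hcard : Nat.card (Subgroup.normalizer (((P.subtype hle : Sylow 3 H) : Subgroup H) : Set H)) =
      36 := (S.card_normalizer_subtype hle).trans h36
  have hHtop : Subgroup.normalizer (((P.subtype hle : Sylow 3 H) : Subgroup H) : Set H) ≠ ⊤ := by
    intro e
    rw [Sylow.coe_subtype, ← Subgroup.subgroupOf_normalizer_eq hle] at e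
    exact S.not_le_of_normalizer_ne_top (K := H) hle hN (Subgroup.subgroupOf_eq_top.1 e)
  by_cases hsq : ∀ n ∈ Subgroup.normalizer (((P.subtype hle : Sylow 3 H) : Subgroup H) : Set H),
      n * n ∈ ((P.subtype hle : Sylow 3 H) : Subgroup H)
  · exact absurd (SH.eq_top_klein hcard hsq) hHtop
  push Not at hsq
  obtain ⟨g, hg, hg2⟩ := hsq
  obtain ⟨hsimple, h360⟩ := SH.four hcard hg hg2 hHtop
  refine ⟨H, hH, hsimple, h360, ?_⟩
  obtain ⟨-, F, hF⟩ := S.exists_mon d
  obtain ⟨n1, hn1⟩ := hF ⟨0, false, false, true⟩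
  obtain ⟨n2, hn2⟩ := hF ⟨0, true, false, false⟩
  have hone : ∀ v : Vec, v ≠ 0 → F.τ v ≠ 1 := fun v hv e => hv (F.τ_inj (e.trans (by
    have h0 := F.τ_add 0 0
    rw [add_zero] at h0
    exact (left_eq_mul.1 h0).symm)))
  by_cases h1 : (n1 : G) ∈ H
  · by_cases h2 : (n2 : G) ∈ H
    · exfalso
      refine hnle fun x hx => ?_
      obtain ⟨e, -, -, hlin⟩ := F.exists_hom S.self_centralizing
      have hwords : ∀ g : Mon, ∃ l : Fin 8, ∀ v, g.lin v =
          ((List.map (fun b : Bool => (⟨0, b, false, !b⟩ : Mon)) (![[], [false], [true],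
            [false, true], [true, false], [false, true, false], [true, false, true],
            [false, true, false, true]] l)).prod).lin v := by decide +kernel
      obtain ⟨l, hl⟩ := hwords (e ⟨x, hx⟩)
      have hw : ∀ L : List Bool, ∃ y ∈ H ⊓ N, ∀ v, y * F.τ v * y⁻¹ =
          F.τ ((List.map (fun b : Bool => (⟨0, b, false, !b⟩ : Mon)) L).prod.lin v) := by
        intro L
        induction L with
        | nil => exact ⟨1, one_mem _, fun v => by
            rw [List.map_nil, List.prod_nil, show (1 : Mon).lin v = v from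
              (show ∀ v : Vec, (1 : Mon).lin v = v by decide +kernel) v]; simp⟩
        | cons b L ih =>
          obtain ⟨y, hy, hyv⟩ := ih
          refine ⟨(if b then (n2 : G) else n1) * y, mul_mem ?_ hy, fun v => ?_⟩
          · cases b
            · exact ⟨h1, n1.2⟩
            · exact ⟨h2, n2.2⟩
          · rw [List.map_cons, List.prod_cons, Mon.lin_mul]
            cases b
            · rw [show (⟨0, false, false, !false⟩ : Mon) = ⟨0, false, false, true⟩ from rfl, ← hn1,
                ← hyv]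
              simp [mul_assoc]
            · rw [show (⟨0, true, false, !true⟩ : Mon) = ⟨0, true, false, false⟩ from rfl, ← hn2,
                ← hyv]
              simp [mul_assoc]
      obtain ⟨y, hy, hyv⟩ := hw _
      have hfix : y⁻¹ * x ∈ T := by
        refine S.nine.mem_of_fix_all fun t ht => ?_
        obtain ⟨v, rfl⟩ := F.τ_surj t ht
        rw [show y⁻¹ * x * F.τ v * (y⁻¹ * x)⁻¹ = y⁻¹ * (x * F.τ v * x⁻¹) * y by group,
          show x * F.τ v * x⁻¹ = _ from hlin ⟨x, hx⟩ v, hl v, ← hyv v]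
        group
      have := H.mul_mem hy.1 (hle hfix)
      rwa [mul_inv_cancel_left] at this
    · refine ⟨n2, F.τ (1, 1), h2, hle (F.τ_mem _), S.cube _ (F.τ_mem _), hone _ (by decide), ?_⟩
      rw [hn2]
      congr 1
  · refine ⟨n1, F.τ (1, 0), h1, hle (F.τ_mem _), S.cube _ (F.τ_mem _), hone _ (by decide), ?_⟩
    rw [hn1]
    congr 1

/-- A group with a simple subgroup of order 360 and index two, missing an element centralising an
element of order three, and with trivial centraliser of that subgroup, is `S₆`. -/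
theorem nonempty_equiv_perm_six [Finite G] (H : Subgroup G) (hH : H.index = 2)
    [IsSimpleGroup H] (h360 : Nat.card H = 360) (hC : Subgroup.centralizer (H : Set G) = ⊥)
    {r a : G} (hr : r ∉ H) (haH : a ∈ H) (ha3 : a ^ 3 = 1) (ha1 : a ≠ 1)
    (hra : r * a * r⁻¹ = a) : Nonempty (G ≃* Equiv.Perm (Fin 6)) := by
  classical
  haveI := Subgroup.normal_of_index_eq_two hH
  obtain ⟨φ⟩ := Cfsg.Agent.S0497.result h360
  let θ : G →* MulAut ↥(alternatingGroup (Fin 6)) :=
    (MulAut.congr φ).toMonoidHom.comp MulAut.conjNormal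
  have hθ : ∀ (g : G) (n : H), θ g (φ n) = φ (MulAut.conjNormal g n) := fun g n => by
    simp [θ, MulAut.congr]
  let Q : Equiv.Perm (Fin 6) →* MulAut ↥(alternatingGroup (Fin 6)) := MulAut.conjNormal
  have hQinj : Function.Injective Q := CfsgLib.InvChar.conjNormal_injective (by norm_num)
  have hθH : ∀ n : H, θ (n : G) = Q (φ n : Equiv.Perm (Fin 6)) := fun n => by
    refine MulEquiv.ext fun x => ?_
    obtain ⟨k, rfl⟩ := φ.surjective x
    rw [hθ]
    refine Subtype.ext ?_
    have hk : MulAut.conjNormal (n : G) k = n * k * n⁻¹ := Subtype.ext (by simp)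
    rw [hk, map_mul, map_mul, map_inv]
    simp [Q]
  have hθinj : Function.Injective θ := by
    rw [injective_iff_map_eq_one]
    intro g hg
    have h1 : g ∈ Subgroup.centralizer (H : Set G) := by
      refine Subgroup.mem_centralizer_iff.2 fun x hx => ?_
      have := congrArg (fun τ : MulAut _ => τ (φ ⟨x, hx⟩)) hg
      simp only [hθ, MulAut.one_apply, EmbeddingLike.apply_eq_iff_eq] at this
      have h2 := congrArg Subtype.val this
      rw [MulAut.conjNormal_apply] at h2
      exact (mul_inv_eq_iff_eq_mul.1 h2).symm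
    rwa [hC, Subgroup.mem_bot] at h1
  obtain ⟨σ, hσ⟩ : ∃ σ, Q σ = θ r := by
    refine CfsgLib.InvChar.exists_perm_of_preserves_threeCycles (by norm_num) _ fun x hx => ?_
    set c₀ := φ ⟨a, haH⟩ with hc₀
    have hfix : θ r c₀ = c₀ := by
      rw [hc₀, hθ]
      congr 1
      exact Subtype.ext (by rw [MulAut.conjNormal_apply]; exact hra)
    have hc3 : orderOf c₀ = 3 := by
      haveI := Fact.mk Nat.prime_three
      rw [hc₀, MulEquiv.orderOf_eq, ← Subgroup.orderOf_coe]
      exact orderOf_eq_prime ha3 ha1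
    have hτx : orderOf (θ r x) = 3 := by
      rw [MulEquiv.orderOf_eq, ← Subgroup.orderOf_coe, hx.orderOf]
    rcases CfsgLib.InvChar.SymSix.three_cases hc3 with hc | hc
    · obtain ⟨b, hb⟩ := isConj_iff.1 (alternatingGroup.isThreeCycle_isConj (by simp) hc hx)
      have h1 : θ r x = θ r b * c₀ * (θ r b)⁻¹ := by rw [← hb, map_mul, map_mul, map_inv, hfix]
      rw [h1, Equiv.Perm.IsThreeCycle]
      show ((θ r b : Equiv.Perm (Fin 6)) * (c₀ : Equiv.Perm (Fin 6)) *
        (θ r b : Equiv.Perm (Fin 6))⁻¹).cycleType = {3}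
      rw [Equiv.Perm.cycleType_conj]
      exact hc
    · rcases CfsgLib.InvChar.SymSix.three_cases hτx with h | h
      · exact h
      · exfalso
        obtain ⟨b, hb⟩ := isConj_iff.1 (CfsgLib.InvChar.SymSix.double_isConj hc h)
        have h1 : x = (θ r).symm b * c₀ * ((θ r).symm b)⁻¹ := by
          have h2 := congrArg (θ r).symm hb
          rw [MulEquiv.symm_apply_apply, map_mul, map_mul, map_inv] at h2
          rw [← h2]
          congr 2
          exact (θ r).injective (by rw [MulEquiv.apply_symm_apply, hfix])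
        have hx' : (x : Equiv.Perm (Fin 6)).cycleType = {3, 3} := by
          rw [h1]
          show (((θ r).symm b : Equiv.Perm (Fin 6)) * (c₀ : Equiv.Perm (Fin 6)) *
            ((θ r).symm b : Equiv.Perm (Fin 6))⁻¹).cycleType = _
          rw [Equiv.Perm.cycleType_conj]
          exact hc
        rw [hx.cycleType] at hx'
        exact absurd hx' (by decide)
  have hrange : ∀ g : G, θ g ∈ Q.range := by
    intro g
    by_cases hg : g ∈ H
    · exact ⟨_, (hθH ⟨g, hg⟩).symm⟩
    · have hgt : g * r ∈ H := (Subgroup.mul_mem_iff_of_index_two hH).2 (iff_of_false hg hr)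
      refine ⟨(φ ⟨_, hgt⟩ : Equiv.Perm (Fin 6)) * σ⁻¹, ?_⟩
      rw [map_mul, map_inv, hσ, ← hθH ⟨_, hgt⟩, map_mul, mul_inv_cancel_right]
  let ψ : G →* Equiv.Perm (Fin 6) := (MonoidHom.ofInjective hQinj).symm.toMonoidHom.comp
    (θ.codRestrict Q.range hrange)
  have hψ : Function.Injective ψ := (MonoidHom.ofInjective hQinj).symm.injective.comp
    fun x y h => hθinj (congrArg Subtype.val h)
  haveI := Fintype.ofFinite G
  have hG : Nat.card G = 720 := by
    have := Subgroup.card_mul_index H
    rw [h360, hH] at this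
    omega
  exact ⟨MulEquiv.ofBijective ψ ((Fintype.bijective_iff_injective_and_card ψ).2
    ⟨hψ, by rw [← Nat.card_eq_fintype_card, hG, Fintype.card_perm, Fintype.card_fin]; rfl⟩)⟩

theorem Setup.centralizer_eq_bot [Finite G] (S : Setup P) (H : Subgroup G) [H.Normal]
    [IsSimpleGroup H] (hle : (P : Subgroup G) ≤ H) (h360 : Nat.card H = 360) :
    Subgroup.centralizer (H : Set G) = ⊥ := by
  refine (Subgroup.eq_bot_iff_forall _).2 fun g hg => ?_
  have hgT : g ∈ (P : Subgroup G) :=
    S.self_centralizing (Subgroup.centralizer_le hle hg)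
  have hcen : (⟨g, hle hgT⟩ : H) ∈ Subgroup.center H := Subgroup.mem_center_iff.2 fun x =>
    Subtype.ext (Subgroup.mem_centralizer_iff.1 hg x x.2)
  rcases (inferInstance : (Subgroup.center H).Normal).eq_bot_or_eq_top with e | e
  · rw [e, Subgroup.mem_bot] at hcen
    exact congrArg Subtype.val hcen
  · exfalso
    exact CfsgLib.ClassK.nonabelian_360 h360
      ⟨⟨fun a b => Subgroup.mem_center_iff.1 (e ▸ Subgroup.mem_top b : b ∈ Subgroup.center H) a⟩⟩

end CfsgLib.TISylow
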