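import Cfsg.Agent.Lib.TISylow.CasesSmall
import Cfsg.Agent.Lib.TISylow.Rational

/-!
# The arithmetic for the dihedral automizer of order eight
-/

namespace CfsgLib.TISylow

/-- The integers congruent to `r` modulo 9 of absolute value at most `B`, some removed. -/
def residues (r : ℤ) (B : ℕ) (ex : List ℤ) : List ℤ :=
  ((List.range (2 * B + 1)).map fun i : ℕ => (i : ℤ) - B).filter fun x : ℤ =>
    decide (x % 9 = r) && !ex.contains x

theorem mem_residues {r x : ℤ} {B : ℕ} {ex : List ℤ} (hm : x % 9 = r) (hb : x * x ≤ (B : ℤ) * B)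
    (hex : x ∉ ex) : x ∈ residues r B ex := by
  have h1 : -(B : ℤ) ≤ x := by nlinarith
  have h2 : x ≤ B := by nlinarith
  simp only [residues, List.mem_filter, List.mem_map, List.mem_range, Bool.and_eq_true,
    decide_eq_true_eq]
  refine ⟨⟨(x + B).toNat, by omega, by omega⟩, hm, ?_⟩
  simp [hex]

theorem search_first : ∀ b ∈ residues 1 54 [1], ∀ c ∈ residues 1 38 [1],
    ∀ G ∈ ([720, 1368, 2016, 2664] : List ℤ),
      G * (b * c * (2 + 2 * b + c) + c * (2 + 2 * b + c) + 2 * b * (2 + 2 * b + c) - 2 * b * c) =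
        648 * (b * c * (2 + 2 * b + c)) →
      ¬ 1 + (2 * ((-1 - b - c) * (-1 - b - c)) + b * b + 2 * (c * c) +
          2 * ((2 + 2 * b + c) * (2 + 2 * b + c))) ≤ G := by decide +kernel

theorem search_two : ∀ K ∈ residues 2 37 [2, -7], ∀ b ∈ residues 1 37 [1],
    ∀ G ∈ ([720, 1368] : List ℤ), G * (K * b + 8 * b + K) ≠ 648 * (K * b) := by decide +kernel

/-- The product of the five signed degrees of the natural configuration. -/
def natDen (K a b : ℤ) : ℤ := a * b * K * (-(K + a + b)) * (-(1 + K + b))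

/-- `natDen` times the linear form of the natural configuration. -/
def natNum (K a b : ℤ) : ℤ :=
  natDen K a b + b * K * (-(K + a + b)) * (-(1 + K + b)) +
    2 * a * K * (-(K + a + b)) * (-(1 + K + b)) + 8 * a * b * (-(K + a + b)) * (-(1 + K + b)) -
    2 * a * b * K * (-(1 + K + b)) - 2 * a * b * K * (-(K + a + b))

/-- The sum of squares of the degrees of the natural configuration. -/
def natSq (K a b : ℤ) : ℤ :=
  1 + (K * K + a * a + 2 * (b * b) + 2 * ((K + a + b) * (K + a + b)) +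
    2 * ((1 + K + b) * (1 + K + b)))

theorem search_natural : ∀ K ∈ residues 2 114 [2, -7], ∀ a ∈ residues 1 114 [1],
    ∀ b ∈ residues 1 81 [1],
      (natNum K a b ≠ 0 ∧ 648 * natDen K a b % natNum K a b = 0 ∧
        (648 * natDen K a b / natNum K a b) % 648 = 72 ∧
        natSq K a b ≤ 648 * natDen K a b / natNum K a b) →
      -(K + a + b) = 5 ∨ -(1 + K + b) = 5 := by decide +kernel

theorem search_five : ∀ K ∈ residues 2 85 [2, -7], ∀ a ∈ residues 1 85 [1],
    ∀ b ∈ residues 1 61 [1], 7200 * natNum K a b = 648 * natDen K a b →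
      ¬ natSq K a b ≤ 7200 := by decide +kernel

theorem inv_le_of_ge {x : ℤ} {n : ℕ} (hn : 0 < n) (h : x ≤ 0 ∨ (n : ℤ) ≤ x) :
    (x : ℚ)⁻¹ ≤ 1 / n := by
  rw [one_div]
  rcases h with h | h
  · exact le_trans (inv_nonpos.2 (by exact_mod_cast h)) (by positivity)
  · exact inv_anti₀ (by exact_mod_cast hn) (by exact_mod_cast h)

theorem inv_ge_of_le {x : ℤ} {n : ℕ} (hn : 0 < n) (h : 0 ≤ x ∨ x ≤ -(n : ℤ)) :
    -(1 / (n : ℚ)) ≤ (x : ℚ)⁻¹ := by
  have := inv_le_of_ge (x := -x) hn (by omega)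
  push_cast at this
  rw [inv_neg] at this
  linarith

/-- The lower bound for the linear form of the natural configuration. -/
theorem natural_bound {K a b : ℤ} (hK : K % 9 = 2) (hK2 : K ≠ 2) (hK7 : K ≠ -7) (ha : a % 9 = 1)
    (ha1 : a ≠ 1) (hb : b % 9 = 1) (hb1 : b ≠ 1) (hu : -(K + a + b) ≠ 5) (hw : -(1 + K + b) ≠ 5)
    (hpos : 0 < 1 + (a : ℚ)⁻¹ + 2 * (b : ℚ)⁻¹ + 8 * (K : ℚ)⁻¹ -
      2 * ((-(K + a + b) : ℤ) : ℚ)⁻¹ - 2 * ((-(1 + K + b) : ℤ) : ℚ)⁻¹) :
    1 / 20 ≤ 1 + (a : ℚ)⁻¹ + 2 * (b : ℚ)⁻¹ + 8 * (K : ℚ)⁻¹ -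
      2 * ((-(K + a + b) : ℤ) : ℚ)⁻¹ - 2 * ((-(1 + K + b) : ℤ) : ℚ)⁻¹ := by
  set u := -(K + a + b) with hudef
  set w := -(1 + K + b) with hwdef
  have a8 := inv_ge_of_le (x := a) (n := 8) (by norm_num) (by omega)
  have b8 := inv_ge_of_le (x := b) (n := 8) (by norm_num) (by omega)
  have u14 := inv_le_of_ge (x := u) (n := 14) (by norm_num) (by omega)
  have w14 := inv_le_of_ge (x := w) (n := 14) (by norm_num) (by omega)
  norm_num at a8 b8 u14 w14
  rcases le_or_gt 0 K with hKp | hKn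
  · have : (0 : ℚ) ≤ (K : ℚ)⁻¹ := inv_nonneg.2 (by exact_mod_cast hKp)
    linarith
  have K16 := inv_ge_of_le (x := K) (n := 16) (by norm_num) (by omega)
  norm_num at K16
  rcases le_or_gt 0 b with hbp | hbn
  · have : (0 : ℚ) ≤ (b : ℚ)⁻¹ := inv_nonneg.2 (by exact_mod_cast hbp)
    linarith
  have w23 := inv_le_of_ge (x := w) (n := 23) (by norm_num) (by omega)
  norm_num at w23
  rcases le_or_gt K (-25) with hK25 | hK25
  · have := inv_ge_of_le (x := K) (n := 25) (by norm_num) (by omega)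
    have h32 := inv_le_of_ge (x := w) (n := 32) (by norm_num) (by omega)
    norm_num at this h32
    rcases le_or_gt 0 a with hap | han
    · have : (0 : ℚ) ≤ (a : ℚ)⁻¹ := inv_nonneg.2 (by exact_mod_cast hap)
      linarith
    · have h41 := inv_le_of_ge (x := u) (n := 41) (by norm_num) (by omega)
      norm_num at h41
      linarith
  rcases le_or_gt b (-17) with hb17 | hb17
  · have := inv_ge_of_le (x := b) (n := 17) (by norm_num) (by omega)
    have h32 := inv_le_of_ge (x := w) (n := 32) (by norm_num) (by omega)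
    norm_num at this h32
    rcases le_or_gt 0 a with hap | han
    · have : (0 : ℚ) ≤ (a : ℚ)⁻¹ := inv_nonneg.2 (by exact_mod_cast hap)
      linarith
    · have h41 := inv_le_of_ge (x := u) (n := 41) (by norm_num) (by omega)
      norm_num at h41
      linarith
  obtain rfl : K = -16 := by omega
  obtain rfl : b = -8 := by omega
  rcases le_or_gt 0 a with hap | han
  · rcases le_or_gt u 0 with hun | hup
    · have : (u : ℚ)⁻¹ ≤ 0 := inv_nonpos.2 (by exact_mod_cast hun)
      have : (0 : ℚ) ≤ (a : ℚ)⁻¹ := inv_nonneg.2 (by exact_mod_cast hap)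
      linarith
    · obtain rfl : a = 10 := by omega
      norm_num [hudef, hwdef] at hpos ⊢
  · rcases le_or_gt a (-17) with ha17 | ha17
    · have := inv_ge_of_le (x := a) (n := 17) (by norm_num) (by omega)
      have h41 := inv_le_of_ge (x := u) (n := 41) (by norm_num) (by omega)
      norm_num at this h41
      linarith
    · obtain rfl : a = -8 := by omega
      norm_num [hudef, hwdef] at hpos

variable {G : Type*} [Group G] {T : Subgroup G}

theorem monFamily_mult {C : Chart T monFamily} (hC : C.cls = axisCls) (p : Col 4 × ℤ) :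
    C.mult p = p.2 + 4 * (monFamily.val 0 p.1 + monFamily.val 1 p.1) := by
  have hsum : ∑ v ∈ (Finset.univ : Finset Vec).filter (fun v => v ≠ 0),
      monFamily.val (axisCls v) p.1 = 4 * (monFamily.val 0 p.1 + monFamily.val 1 p.1) := by
    rw [show (Finset.univ : Finset Vec).filter (fun v => v ≠ 0) =
      {(1, 0), (2, 0), (0, 1), (0, 2), (1, 1), (1, 2), (2, 1), (2, 2)} by decide +kernel]
    repeat rw [Finset.sum_insert (by decide)]
    rw [Finset.sum_singleton]
    simp [axisCls, onAxis, show ¬ ((2 : ZMod 3) = 0) by decide]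
    ring
  simp only [Chart.mult, hC, show monFamily.D = 1 from rfl, one_mul, hsum]

theorem ediv_eq_of_mul_eq {N P G : ℤ} (hN : N ≠ 0) (h : G * N = 648 * P) :
    648 * P % N = 0 ∧ 648 * P / N = G := by
  rw [← h]
  exact ⟨Int.mul_emod_left G N, Int.mul_ediv_cancel G hN⟩

set_option maxHeartbeats 1000000 in
/-- The dihedral case without nontrivial linear characters: the order is 720. -/
theorem Nine.card_of_dihedral [Finite G] (h : Nine T) (C : Chart T monFamily)
    (hC : C.cls = axisCls) (hcard : Nat.card (Subgroup.normalizer (T : Set G)) = 72)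
    (hN : Subgroup.normalizer (T : Set G) ≠ ⊤)
    (hlin : ∀ χ : G → ℂ, Cfsg.IsIrrCharacter G χ → χ 1 = 1 → χ = fun _ => 1)
    (hfaith : ∀ χ : G → ℂ, Cfsg.IsIrrCharacter G χ → χ ≠ (fun _ => 1) →
      ∀ g, g ≠ 1 → χ g ≠ χ 1) :
    Nat.card G = 720 := by
  obtain ⟨k, hk, hG⟩ := h.card_ge hN
  rw [hcard] at hG
  obtain ⟨L, hL, xs, s⟩ := h.toHyp.exists_sol C (by decide +kernel)
  have hncj : ¬ IsConj (monFamily.rep 0) (monFamily.rep 1) := fun hc => by
    obtain ⟨g, hg⟩ := isConj_iff.1 hc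
    exact (show ∀ g, g * monRep 0 * g⁻¹ ≠ monRep 1 by decide +kernel) g hg
  have cnt : ∀ t ∈ [(0 : Fin 2), 1],
      pairCount Mon (monFamily.rep 0) (monFamily.rep 1) (monFamily.rep t) = 648 := by
    simp only [pairCount_eq_card]
    decide +kernel
  have t1 := fun ws hv => s.tri' 0 1 0 hncj (ws := ws) (w := 1) hv (by decide +kernel) rfl
    (cnt 0 (by simp))
  have t2 := fun ws hv => s.tri' 0 1 1 hncj (ws := ws) (w := 1) hv (by decide +kernel) rfl
    (cnt 1 (by simp))
  have hGQ : (0 : ℚ) < (Nat.card G : ℚ) := Nat.cast_pos.2 Nat.card_pos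
  have hpos : (0 : ℚ) < 648 * (Nat.card G : ℚ)⁻¹ := by positivity
  have hGinv : (Nat.card G : ℚ) * (Nat.card G : ℚ)⁻¹ = 1 := mul_inv_cancel₀ hGQ.ne'
  have hm : ∀ p ∈ L.zip xs, 9 ∣ p.2 + 4 * (monFamily.val 0 p.1 + monFamily.val 1 p.1) ∧
      0 ≤ p.2 * (p.2 + 4 * (monFamily.val 0 p.1 + monFamily.val 1 p.1)) := by
    intro p hp
    have h1 := s.mult_dvd p hp
    have h2 := s.mult_nonneg p hp
    rw [monFamily_mult hC] at h1 h2
    simp only [show monFamily.D = 1 from rfl, mul_one] at h1 h2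
    exact ⟨h1, h2⟩
  have hnl : ∀ p ∈ L.zip xs, p.2 ≠ 1 := fun p hp e => by
    obtain ⟨χ, hχ, hne, h1⟩ := s.linear p hp (by rw [e]; rfl)
    exact hne (hlin χ hχ h1)
  have hsq := s.sq
  have hlen := s.len
  rw [show leaves (fun i j => monFamily.gram i j - monFamily.one i * monFamily.one j) =
    [[![1, 1, 0, 1], ![1, 0, 1, 0], ![1, 0, 0, 1], ![0, 1, 1, 1], ![0, 1, 1, 0], ![0, 1, 0, 0],
        ![0, 0, 0, 1]],
      [![1, 1, 0, 1], ![1, 0, 1, 1], ![1, 0, 0, 0], ![0, 1, 1, 0], ![0, 1, 1, 0], ![0, 1, 0, 1],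
        ![0, 0, 0, 1]],
      [![1, 1, 1, 0], ![1, 0, 0, 1], ![1, 0, 0, 1], ![0, 1, 1, 1], ![0, 1, 0, 1], ![0, 1, 0, 0],
        ![0, 0, 1, 0]],
      [![1, 1, 1, 1], ![1, 0, 0, 1], ![1, 0, 0, 0], ![0, 1, 1, 0], ![0, 1, 0, 1], ![0, 1, 0, 0],
        ![0, 0, 1, 0], ![0, 0, 0, 1]],
      [![1, 1, 1, 1], ![1, 0, 0, 1], ![1, 0, 0, 0], ![0, 1, 1, 1], ![0, 1, 0, 0], ![0, 1, 0, 0],
        ![0, 0, 1, -1]],
      [![1, 1, 1, 1], ![1, 1, 0, 1], ![1, -1, 0, 0], ![0, 1, 1, 0], ![0, 0, 1, 0], ![0, 0, 0, 1],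
        ![0, 0, 0, 1]]] by decide +kernel] at hL
  simp only [List.mem_cons, List.not_mem_nil, or_false] at hL
  have rr := fun k ws z hv hz => s.rel' k (ws := ws) (z := z) hv hz
  rcases hL with rfl | rfl | rfl | rfl | rfl | rfl
  · rcases xs with _ | ⟨a, _ | ⟨b, _ | ⟨c, _ | ⟨d, _ | ⟨e, _ | ⟨f, _ | ⟨g, _ | ⟨o, xs⟩⟩⟩⟩⟩⟩⟩⟩ <;>
      simp at hlen
    exfalso
    have e1 := t1 [0, 1, 1, 0, 1, 2, -4] (by decide +kernel)
    have e2 := t2 [0, 1, 1, 0, 1, -4, 2] (by decide +kernel)
    have r0 := rr 0 [1, 1, 1, 0, 0, 0, 0] (-1) (by decide +kernel) (by decide +kernel)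
    have r1 := rr 1 [1, 0, 0, 1, 1, 1, 0] 0 (by decide +kernel) (by decide +kernel)
    have r2 := rr 2 [0, 1, 0, 1, 1, 0, 0] (-1) (by decide +kernel) (by decide +kernel)
    have r3 := rr 3 [1, 0, 1, 1, 0, 0, 1] 0 (by decide +kernel) (by decide +kernel)
    simp only [List.zip_cons_cons, List.zip_nil_left, List.map_cons, List.map_nil, List.sum_cons,
      List.sum_nil, div_eq_mul_inv, Int.cast_ofNat, Int.cast_one, Int.cast_neg, Int.cast_zero,
      Nat.cast_ofNat, zero_mul, one_mul, zero_add, add_zero] at e1 e2 r0 r1 r2 r3 hsq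
    have hfg : f = g := by
      have : (f : ℚ)⁻¹ = (g : ℚ)⁻¹ := by linarith
      exact_mod_cast inv_inj.1 this
    subst hfg
    have hce : c = e := by omega
    subst c
    have hda : d = a := by omega
    subst d
    have ha : a = -1 - b - e := by omega
    subst a
    have hf' : f = 2 + 2 * b + e := by omega
    subst f
    have mb : b % 9 = 1 ∧ b ≠ 1 := by
      have := (hm (![1, 0, 1, 0], b) (by simp)).1
      have := hnl (![1, 0, 1, 0], b) (by simp)
      rw [show monFamily.val 0 ![1, 0, 1, 0] = 1 by decide +kernel,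
        show monFamily.val 1 ![1, 0, 1, 0] = 1 by decide +kernel] at *
      simp only at *
      omega
    have me : e % 9 = 1 ∧ e ≠ 1 := by
      have := (hm (![1, 0, 0, 1], e) (by simp)).1
      have := hnl (![1, 0, 0, 1], e) (by simp)
      rw [show monFamily.val 0 ![1, 0, 0, 1] = 1 by decide +kernel,
        show monFamily.val 1 ![1, 0, 0, 1] = 1 by decide +kernel] at *
      simp only at *
      omega
    set f := 2 + 2 * b + e with hf
    have mf : f % 9 = 5 := by
      have := (hm (![0, 1, 0, 0], f) (by simp)).1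
      rw [show monFamily.val 0 ![0, 1, 0, 0] = -1 by decide +kernel,
        show monFamily.val 1 ![0, 1, 0, 0] = 2 by decide +kernel] at this
      simp only at this
      omega
    have b8 := inv_ge_of_le (x := b) (n := 8) (by norm_num) (by omega)
    have e8 := inv_ge_of_le (x := e) (n := 8) (by norm_num) (by omega)
    have f5 := inv_le_of_ge (x := f) (n := 5) (by norm_num) (by omega)
    norm_num at b8 e8 f5
    have hS : 648 * (Nat.card G : ℚ)⁻¹ =
        1 + (b : ℚ)⁻¹ + 2 * (e : ℚ)⁻¹ - 2 * (f : ℚ)⁻¹ := by linarith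
    have hG2 : (Nat.card G : ℚ) ≤ 2880 := by
      have h3 : (9 / 40 : ℚ) ≤ 648 * (Nat.card G : ℚ)⁻¹ := by linarith
      have h4 := mul_le_mul_of_nonneg_left h3 hGQ.le
      rw [mul_left_comm, hGinv] at h4
      linarith
    have hG2' : Nat.card G ≤ 2880 := by exact_mod_cast hG2
    have hk4 : k ≤ 4 := by omega
    have hmemG : ((Nat.card G : ℕ) : ℤ) ∈ ([720, 1368, 2016, 2664] : List ℤ) := by
      rw [hG]; interval_cases k <;> simp
    have hG2'' : ((Nat.card G : ℕ) : ℤ) ≤ 2880 := by exact_mod_cast hG2'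
    refine search_first b (mem_residues mb.1 ?_ (by simp [mb.2])) e
      (mem_residues me.1 ?_ (by simp [me.2])) _ hmemG ?_ ?_
    · push_cast
      nlinarith [mul_self_nonneg (-1 - b - e), mul_self_nonneg e, mul_self_nonneg f]
    · push_cast
      nlinarith [mul_self_nonneg (-1 - b - e), mul_self_nonneg b, mul_self_nonneg f]
    · have hb0 : (b : ℚ) ≠ 0 := Int.cast_ne_zero.2 (by omega)
      have he0 : (e : ℚ) ≠ 0 := Int.cast_ne_zero.2 (by omega)
      have hf0 : (f : ℚ) ≠ 0 := Int.cast_ne_zero.2 (by omega)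
      rw [← hf]
      field_simp at hS
      have : ((Nat.card G : ℤ) : ℚ) * (b * e * f + e * f + 2 * b * f - 2 * b * e) =
          648 * (b * e * f) := by push_cast; linear_combination -hS
      exact_mod_cast this
    · rw [← hf]
      nlinarith
  · rcases xs with _ | ⟨a, _ | ⟨b, _ | ⟨c, _ | ⟨d, _ | ⟨e, _ | ⟨f, _ | ⟨g, _ | ⟨o, xs⟩⟩⟩⟩⟩⟩⟩⟩ <;>
      simp at hlen
    exfalso
    have e1 := t1 [0, 0, 2, 1, 1, 1, -4] (by decide +kernel)
    have e2 := t2 [0, 0, -4, 1, 1, 1, 2] (by decide +kernel)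
    have r0 := rr 0 [1, 1, 1, 0, 0, 0, 0] (-1) (by decide +kernel) (by decide +kernel)
    have r1 := rr 1 [1, 0, 0, 1, 1, 1, 0] 0 (by decide +kernel) (by decide +kernel)
    have r2 := rr 2 [0, 1, 0, 1, 1, 0, 0] (-1) (by decide +kernel) (by decide +kernel)
    have r3 := rr 3 [1, 1, 0, 0, 0, 1, 1] 0 (by decide +kernel) (by decide +kernel)
    simp only [List.zip_cons_cons, List.zip_nil_left, List.map_cons, List.map_nil, List.sum_cons,
      List.sum_nil, div_eq_mul_inv, Int.cast_ofNat, Int.cast_one, Int.cast_neg, Int.cast_zero,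
      Nat.cast_ofNat, zero_mul, one_mul, zero_add, add_zero] at e1 e2 r0 r1 r2 r3
    have hcg : c = g := by
      have : (c : ℚ)⁻¹ = (g : ℚ)⁻¹ := by linarith
      exact_mod_cast inv_inj.1 this
    exact hnl (![0, 1, 0, 1], f) (by simp) (by simp only; omega)
  · rcases xs with _ | ⟨a, _ | ⟨b, _ | ⟨c, _ | ⟨d, _ | ⟨e, _ | ⟨f, _ | ⟨g, _ | ⟨o, xs⟩⟩⟩⟩⟩⟩⟩⟩ <;>
      simp at hlen
    exfalso
    have e1 := t1 [0, 1, 1, 0, 1, 2, -4] (by decide +kernel)
    have e2 := t2 [0, 1, 1, 0, 1, -4, 2] (by decide +kernel)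
    have r1 := rr 1 [1, 0, 0, 1, 1, 1, 0] 0 (by decide +kernel) (by decide +kernel)
    have r2 := rr 2 [1, 0, 0, 1, 0, 0, 1] (-1) (by decide +kernel) (by decide +kernel)
    simp only [List.zip_cons_cons, List.zip_nil_left, List.map_cons, List.map_nil, List.sum_cons,
      List.sum_nil, div_eq_mul_inv, Int.cast_ofNat, Int.cast_one, Int.cast_neg, Int.cast_zero,
      Nat.cast_ofNat, zero_mul, one_mul, zero_add, add_zero] at e1 e2 r1 r2
    have hfg : f = g := by
      have : (f : ℚ)⁻¹ = (g : ℚ)⁻¹ := by linarith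
      exact_mod_cast inv_inj.1 this
    exact hnl (![0, 1, 0, 1], e) (by simp) (by simp only; omega)
  · rcases xs with _ | ⟨K, _ | ⟨p, _ | ⟨q, _ | ⟨r, _ | ⟨t, _ | ⟨u, _ | ⟨v, _ | ⟨w, _ | ⟨o, xs⟩⟩⟩⟩⟩⟩⟩⟩⟩ <;>
      simp at hlen
    have e1 := t1 [8, 1, 2, 1, 1, 2, -4, -4] (by decide +kernel)
    have e2 := t2 [8, 1, -4, 1, 1, -4, 2, 2] (by decide +kernel)
    have r0 := rr 0 [1, 1, 1, 0, 0, 0, 0, 0] (-1) (by decide +kernel) (by decide +kernel)
    have r1 := rr 1 [1, 0, 0, 1, 1, 1, 0, 0] 0 (by decide +kernel) (by decide +kernel)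
    have r2 := rr 2 [1, 0, 0, 1, 0, 0, 1, 0] (-1) (by decide +kernel) (by decide +kernel)
    have r3 := rr 3 [1, 1, 0, 0, 1, 0, 0, 1] 0 (by decide +kernel) (by decide +kernel)
    simp only [List.zip_cons_cons, List.zip_nil_left, List.map_cons, List.map_nil, List.sum_cons,
      List.sum_nil, div_eq_mul_inv, Int.cast_ofNat, Int.cast_one, Int.cast_neg, Int.cast_zero,
      Nat.cast_ofNat, zero_mul, one_mul, zero_add, add_zero] at e1 e2 r0 r1 r2 r3 hsq
    have mt : t % 9 = 1 ∧ t ≠ 1 := by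
      have := (hm (![0, 1, 0, 1], t) (by simp)).1
      have := hnl (![0, 1, 0, 1], t) (by simp)
      rw [show monFamily.val 0 ![0, 1, 0, 1] = 1 by decide +kernel,
        show monFamily.val 1 ![0, 1, 0, 1] = 1 by decide +kernel] at *
      simp only at *
      omega
    have mp : p % 9 = 1 ∧ p ≠ 1 := by
      have := (hm (![1, 0, 0, 1], p) (by simp)).1
      have := hnl (![1, 0, 0, 1], p) (by simp)
      rw [show monFamily.val 0 ![1, 0, 0, 1] = 1 by decide +kernel,
        show monFamily.val 1 ![1, 0, 0, 1] = 1 by decide +kernel] at *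
      simp only at *
      omega
    have hfive : ∀ (c : Col 4) (x : ℤ), (c, x) ∈ [((![1, 0, 0, 0] : Col 4), q), (![0, 1, 0, 0], u), (![0, 0, 1, 0], v),
        (![0, 0, 0, 1], w)] → x % 9 = 5 := by
      intro c x hcx
      have h1 := (hm (c, x) (by
        simp only [List.mem_cons, List.not_mem_nil, or_false] at hcx
        rcases hcx with e | e | e | e <;> simp [e])).1
      simp only [List.mem_cons, List.not_mem_nil, or_false, Prod.mk.injEq] at hcx
      rcases hcx with ⟨rfl, rfl⟩ | ⟨rfl, rfl⟩ | ⟨rfl, rfl⟩ | ⟨rfl, rfl⟩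
      · rw [show monFamily.val 0 ![1, 0, 0, 0] = -1 by decide +kernel,
          show monFamily.val 1 ![1, 0, 0, 0] = 2 by decide +kernel] at h1
        omega
      · rw [show monFamily.val 0 ![0, 1, 0, 0] = -1 by decide +kernel,
          show monFamily.val 1 ![0, 1, 0, 0] = 2 by decide +kernel] at h1
        omega
      · rw [show monFamily.val 0 ![0, 0, 1, 0] = 2 by decide +kernel,
          show monFamily.val 1 ![0, 0, 1, 0] = -1 by decide +kernel] at h1
        omega
      · rw [show monFamily.val 0 ![0, 0, 0, 1] = 2 by decide +kernel,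
          show monFamily.val 1 ![0, 0, 0, 1] = -1 by decide +kernel] at h1
        omega
    have mq := hfive ![1, 0, 0, 0] q (by simp)
    have mu := hfive ![0, 1, 0, 0] u (by simp)
    have mv := hfive ![0, 0, 1, 0] v (by simp)
    have mw := hfive ![0, 0, 0, 1] w (by simp)
    have mK : K % 9 = 2 ∧ K ≠ 2 ∧ K ≠ -7 := by
      have h1 := hm (![1, 1, 1, 1], K) (by simp)
      rw [show monFamily.val 0 ![1, 1, 1, 1] = 2 by decide +kernel,
        show monFamily.val 1 ![1, 1, 1, 1] = 2 by decide +kernel] at h1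
      simp only at h1
      obtain ⟨h1, h1'⟩ := h1
      refine ⟨by omega, fun e => ?_, fun e => by rw [e] at h1'; norm_num at h1'⟩
      subst e
      obtain ⟨χ, hχ, hdeg, -, hval⟩ := s.rational (![1, 1, 1, 1], 2) (by simp) (by decide +kernel)
      have hv := hval (1, 0) (by decide)
      rw [show monFamily.D = 1 from rfl, hC, show axisCls ((1, 0) : Vec) = 0 by decide +kernel,
        show monFamily.val 0 ![1, 1, 1, 1] = 2 by decide +kernel] at hv
      norm_num at hv hdeg
      refine hfaith χ hχ (fun e => ?_) (C.el (1, 0)) (C.el_ne_one (by decide)) (by rw [hv, hdeg])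
      rw [e] at hdeg
      norm_num at hdeg
    have hqv : (q : ℚ)⁻¹ + (u : ℚ)⁻¹ = (v : ℚ)⁻¹ + (w : ℚ)⁻¹ := by linarith
    have hpr : p = r := by
      have q0 : (q : ℚ) ≠ 0 := Int.cast_ne_zero.2 (by omega)
      have u0 : (u : ℚ) ≠ 0 := Int.cast_ne_zero.2 (by omega)
      have v0 : (v : ℚ) ≠ 0 := Int.cast_ne_zero.2 (by omega)
      have w0 : (w : ℚ) ≠ 0 := Int.cast_ne_zero.2 (by omega)
      field_simp at hqv
      have h2 : (u + q) * (v * w) = q * u * (w + v) := by
        have : (((u + q) * (v * w) : ℤ) : ℚ) = ((q * u * (w + v) : ℤ) : ℚ) := by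
          push_cast; linear_combination hqv
        exact_mod_cast this
      have eq' : q = -1 - K - p := by omega
      have eu' : u = -K - r - t := by omega
      have ev' : v = -1 - K - r := by omega
      have ew' : w = -K - p - t := by omega
      have h3 : (q * w - u * v) * (1 - t) = 0 := by
        subst eq' eu' ev' ew'
        linear_combination -h2
      have h4 : q * w - u * v = 0 := (mul_eq_zero.1 h3).resolve_right (by omega)
      have h5 : (p - r) * (1 + 2 * K + p + r + t) = 0 := by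
        subst eq' eu' ev' ew'
        linear_combination h4
      rcases mul_eq_zero.1 h5 with e | e <;> omega
    subst r
    have hvq : v = q := by omega
    subst v
    have hwu : w = u := by omega
    subst w
    have hq' : q = -(1 + K + p) := by omega
    subst q
    have hu' : u = -(K + t + p) := by omega
    subst u
    have hS : 648 * (Nat.card G : ℚ)⁻¹ = 1 + (t : ℚ)⁻¹ + 2 * (p : ℚ)⁻¹ + 8 * (K : ℚ)⁻¹ -
        2 * ((-(K + t + p) : ℤ) : ℚ)⁻¹ - 2 * ((-(1 + K + p) : ℤ) : ℚ)⁻¹ := by linarith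
    have hnum : (Nat.card G : ℤ) * natNum K t p = 648 * natDen K t p := by
      have k0 : (K : ℚ) ≠ 0 := Int.cast_ne_zero.2 (by omega)
      have t0 : (t : ℚ) ≠ 0 := Int.cast_ne_zero.2 (by omega)
      have p0 : (p : ℚ) ≠ 0 := Int.cast_ne_zero.2 (by omega)
      have u0 : ((-(K + t + p) : ℤ) : ℚ) ≠ 0 := Int.cast_ne_zero.2 (by omega)
      have q0 : ((-(1 + K + p) : ℤ) : ℚ) ≠ 0 := Int.cast_ne_zero.2 (by omega)
      have key : (natNum K t p : ℚ) = (natDen K t p : ℚ) * (648 * (Nat.card G : ℚ)⁻¹) := by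
        rw [hS]
        have hKK := mul_inv_cancel₀ k0
        have htt := mul_inv_cancel₀ t0
        have hpp := mul_inv_cancel₀ p0
        have huu := mul_inv_cancel₀ u0
        have hqq := mul_inv_cancel₀ q0
        simp only [natNum, natDen]
        push_cast at huu hqq ⊢
        linear_combination (-((p : ℚ) * K * (-(K + t + p)) * (-(1 + K + p)))) * htt +
          (-2 * ((t : ℚ) * K * (-(K + t + p)) * (-(1 + K + p)))) * hpp +
          (-8 * ((t : ℚ) * p * (-(K + t + p)) * (-(1 + K + p)))) * hKK +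
          (2 * ((t : ℚ) * p * K * (-(1 + K + p)))) * huu +
          (2 * ((t : ℚ) * p * K * (-(K + t + p)))) * hqq
      have : ((Nat.card G : ℤ) : ℚ) * (natNum K t p : ℚ) = 648 * (natDen K t p : ℚ) := by
        push_cast
        rw [key]
        linear_combination (648 * (natDen K t p : ℚ)) * hGinv
      exact_mod_cast this
    have hnatsq : natSq K t p ≤ (Nat.card G : ℤ) := le_trans (le_of_eq (by simp [natSq]; ring)) hsq
    by_cases hfive5 : -(K + t + p) = 5 ∨ -(1 + K + p) = 5
    · have hdiv : Nat.card G ∣ Nat.factorial 10 ∧ ∀ ℓ, ℓ.Prime → ℓ ∣ Nat.card G → ℓ ≤ 6 := by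
        have hex : ∃ c, (c, (5 : ℤ)) ∈ List.zip [(![1, 1, 1, 1] : Col 4), ![1, 0, 0, 1], ![1, 0, 0, 0],
            ![0, 1, 1, 0], ![0, 1, 0, 1], ![0, 1, 0, 0], ![0, 0, 1, 0], ![0, 0, 0, 1]]
            [K, p, -(1 + K + p), p, t, -(K + t + p), -(1 + K + p), -(K + t + p)] := by
          rcases hfive5 with e | e
          · exact ⟨![0, 0, 0, 1], by simp only [List.zip_cons_cons, List.zip_nil_left]; rw [← e]; simp⟩
          · exact ⟨![1, 0, 0, 0], by simp only [List.zip_cons_cons, List.zip_nil_left]; rw [← e]; simp⟩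
        obtain ⟨c, hc⟩ := hex
        obtain ⟨χ, hχ, hdeg, hrat, -⟩ := s.rational (c, 5) hc (by
          have hcL := (List.of_mem_zip hc).1
          have : ∀ c ∈ [(![1, 1, 1, 1] : Col 4), ![1, 0, 0, 1], ![1, 0, 0, 0],
              ![0, 1, 1, 0], ![0, 1, 0, 1], ![0, 1, 0, 0], ![0, 0, 1, 0], ![0, 0, 0, 1]],
              List.count c [(![1, 1, 1, 1] : Col 4), ![1, 0, 0, 1], ![1, 0, 0, 0],
              ![0, 1, 1, 0], ![0, 1, 0, 1], ![0, 1, 0, 0], ![0, 0, 1, 0], ![0, 0, 0, 1]] = 1 := by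
            decide +kernel
          exact this c hcL)
        have hdeg' : χ 1 = ((5 : ℕ) : ℂ) := hdeg
        have hne : χ ≠ fun _ => 1 := fun e => by rw [e] at hdeg'; norm_num at hdeg'
        exact ⟨card_dvd_factorial (CfsgLib.Char.irr_isCharacter hχ) hdeg' hrat (hfaith χ hχ hne),
          fun ℓ hℓ hd => prime_le_degree (CfsgLib.Char.irr_isCharacter hχ) hdeg' hrat
            (hfaith χ hχ hne) hℓ hd⟩
      have hG' : Nat.card G = 720 ∨ Nat.card G = 7200 := by
        obtain ⟨hd, hp⟩ := hdiv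
        have h50 : (1 + 9 * k) ∣ 50400 := by
          rw [hG, show Nat.factorial 10 = 72 * 50400 by decide] at hd
          exact (Nat.mul_dvd_mul_iff_left (by norm_num : 0 < 72)).1 hd
        have h7 : ¬ 7 ∣ 1 + 9 * k := fun e => by
          have := hp 7 (by norm_num) (hG ▸ Dvd.dvd.mul_left e 72)
          omega
        have hco : (1 + 9 * k).Coprime 63 := by
          rw [show (63 : ℕ) = 3 ^ 2 * 7 by norm_num]
          exact Nat.Coprime.mul_right (Nat.Coprime.pow_right 2
            (Nat.coprime_comm.1 (Nat.prime_three.coprime_iff_not_dvd.2 (by omega))))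
            (Nat.coprime_comm.1 ((by norm_num : Nat.Prime 7).coprime_iff_not_dvd.2 h7))
        have h800 : (1 + 9 * k) ∣ 800 := hco.dvd_of_dvd_mul_right (by norm_num; exact h50)
        have hmem : 1 + 9 * k ∈ Nat.divisors 800 := Nat.mem_divisors.2 ⟨h800, by norm_num⟩
        have hall : ∀ m ∈ Nat.divisors 800, m % 9 = 1 → 1 < m → m = 10 ∨ m = 100 := by
          decide +kernel
        rcases hall _ hmem (by omega) (by omega) with e | e
        · exact Or.inl (by rw [hG, e])
        · exact Or.inr (by rw [hG, e])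
      rcases hG' with e | e
      · exact e
      · exfalso
        rw [e] at hnum hnatsq
        push_cast at hnum hnatsq
        have hb := hnatsq
        simp only [natSq] at hb
        refine search_five K (mem_residues mK.1 ?_ (by simp [mK.2.1, mK.2.2])) t
          (mem_residues mt.1 ?_ (by simp [mt.2])) p (mem_residues mp.1 ?_ (by simp [mp.2])) hnum
          hnatsq
        all_goals push_cast
        all_goals nlinarith [mul_self_nonneg K, mul_self_nonneg t, mul_self_nonneg p,
          mul_self_nonneg (K + t + p), mul_self_nonneg (1 + K + p)]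
    · exfalso
      simp only [not_or] at hfive5
      have hlb := natural_bound mK.1 mK.2.1 mK.2.2 mt.1 mt.2 mp.1 mp.2 hfive5.1 hfive5.2
        (hS ▸ hpos)
      rw [← hS] at hlb
      have hG2 : (Nat.card G : ℚ) ≤ 12960 := by
        have h4 := mul_le_mul_of_nonneg_left hlb hGQ.le
        rw [mul_left_comm, hGinv] at h4
        linarith
      have hG2' : (Nat.card G : ℤ) ≤ 12960 := by exact_mod_cast hG2
      have hG72 : (Nat.card G : ℤ) % 648 = 72 := by rw [hG]; push_cast; omega
      have hN0 : natNum K t p ≠ 0 := fun e0 => by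
        rw [e0, mul_zero] at hnum
        simp only [natDen] at hnum
        have : t * p * K * (-(K + t + p)) * (-(1 + K + p)) ≠ 0 :=
          mul_ne_zero (mul_ne_zero (mul_ne_zero (mul_ne_zero (by omega) (by omega)) (by omega))
            (by omega)) (by omega)
        omega
      obtain ⟨hm0, hq0⟩ := ediv_eq_of_mul_eq hN0 hnum
      have hb := hnatsq
      simp only [natSq] at hb
      have hKb : K * K ≤ (114 : ℕ) * (114 : ℕ) := by
        push_cast
        nlinarith [mul_self_nonneg t, mul_self_nonneg p, mul_self_nonneg (K + t + p),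
          mul_self_nonneg (1 + K + p)]
      have htb : t * t ≤ (114 : ℕ) * (114 : ℕ) := by
        push_cast
        nlinarith [mul_self_nonneg K, mul_self_nonneg p, mul_self_nonneg (K + t + p),
          mul_self_nonneg (1 + K + p)]
      have hpb : p * p ≤ (81 : ℕ) * (81 : ℕ) := by
        push_cast
        nlinarith [mul_self_nonneg t, mul_self_nonneg K, mul_self_nonneg (K + t + p),
          mul_self_nonneg (1 + K + p)]
      rcases search_natural K (mem_residues mK.1 hKb (by simp [mK.2.1, mK.2.2])) t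
        (mem_residues mt.1 htb (by simp [mt.2])) p (mem_residues mp.1 hpb (by simp [mp.2]))
        ⟨hN0, hm0, by rw [hq0]; exact hG72, by rw [hq0]; exact hnatsq⟩ with e | e
      exacts [hfive5.1 e, hfive5.2 e]
  all_goals
    rcases xs with _ | ⟨K, _ | ⟨b, _ | ⟨c, _ | ⟨d, _ | ⟨e, _ | ⟨f, _ | ⟨g, _ | ⟨o, xs⟩⟩⟩⟩⟩⟩⟩⟩ <;>
      simp at hlen
    exfalso
    simp only [List.map_cons, List.map_nil, List.sum_cons, List.sum_nil, add_zero] at hsq
    have mK : K % 9 = 2 ∧ K ≠ 2 ∧ K ≠ -7 := by
      have h1 := hm (![1, 1, 1, 1], K) (by simp)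
      rw [show monFamily.val 0 ![1, 1, 1, 1] = 2 by decide +kernel,
        show monFamily.val 1 ![1, 1, 1, 1] = 2 by decide +kernel] at h1
      simp only at h1
      obtain ⟨h1, h1'⟩ := h1
      refine ⟨by omega, fun e => ?_, fun e => by rw [e] at h1'; norm_num at h1'⟩
      subst e
      obtain ⟨χ, hχ, hdeg, -, hval⟩ := s.rational (![1, 1, 1, 1], 2) (by simp) (by decide +kernel)
      have hv := hval (1, 0) (by decide)
      rw [show monFamily.D = 1 from rfl, hC, show axisCls ((1, 0) : Vec) = 0 by decide +kernel,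
        show monFamily.val 0 ![1, 1, 1, 1] = 2 by decide +kernel] at hv
      norm_num at hv hdeg
      refine hfaith χ hχ (fun e => ?_) (C.el (1, 0)) (C.el_ne_one (by decide)) (by rw [hv, hdeg])
      rw [e] at hdeg
      norm_num at hdeg
    obtain ⟨x, hx, hS⟩ : ∃ x : ℤ, (x % 9 = 1 ∧ x ≠ 1 ∧ K * K + x * x ≤ (Nat.card G : ℤ)) ∧
        648 * (Nat.card G : ℚ)⁻¹ = 1 + 8 * (K : ℚ)⁻¹ + (x : ℚ)⁻¹ := by
      first
      | (have e1 := t1 [8, 1, 2, 0, 2, 2, 0] (by decide +kernel)
         have e2 := t2 [8, 1, -4, 0, -4, -4, 0] (by decide +kernel)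
         simp only [List.zip_cons_cons, List.zip_nil_left, List.map_cons, List.map_nil,
           List.sum_cons, List.sum_nil, div_eq_mul_inv, Int.cast_ofNat, Int.cast_one, Int.cast_neg,
           Int.cast_zero, Nat.cast_ofNat, zero_mul, one_mul, zero_add, add_zero] at e1 e2
         have h1 := (hm (![1, 0, 0, 1], b) (by simp)).1
         have h2 := hnl (![1, 0, 0, 1], b) (by simp)
         rw [show monFamily.val 0 ![1, 0, 0, 1] = 1 by decide +kernel,
           show monFamily.val 1 ![1, 0, 0, 1] = 1 by decide +kernel] at h1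
         simp only at h1 h2
         exact ⟨b, ⟨by omega, h2, by nlinarith⟩, by linarith⟩)
      | (have e1 := t1 [8, 0, 0, 1, -4, -4, -4] (by decide +kernel)
         have e2 := t2 [8, 0, 0, 1, 2, 2, 2] (by decide +kernel)
         simp only [List.zip_cons_cons, List.zip_nil_left, List.map_cons, List.map_nil,
           List.sum_cons, List.sum_nil, div_eq_mul_inv, Int.cast_ofNat, Int.cast_one, Int.cast_neg,
           Int.cast_zero, Nat.cast_ofNat, zero_mul, one_mul, zero_add, add_zero] at e1 e2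
         have h1 := (hm (![0, 1, 1, 0], d) (by simp)).1
         have h2 := hnl (![0, 1, 1, 0], d) (by simp)
         rw [show monFamily.val 0 ![0, 1, 1, 0] = 1 by decide +kernel,
           show monFamily.val 1 ![0, 1, 1, 0] = 1 by decide +kernel] at h1
         simp only at h1 h2
         exact ⟨d, ⟨by omega, h2, by nlinarith⟩, by linarith⟩)
    have K16 := inv_ge_of_le (x := K) (n := 16) (by norm_num) (by omega)
    have x8 := inv_ge_of_le (x := x) (n := 8) (by norm_num) (by omega)
    norm_num at K16 x8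
    have hG2 : (Nat.card G : ℚ) ≤ 1728 := by
      have h3 : (3 / 8 : ℚ) ≤ 648 * (Nat.card G : ℚ)⁻¹ := by linarith
      have h4 := mul_le_mul_of_nonneg_left h3 hGQ.le
      rw [mul_left_comm, hGinv] at h4
      linarith
    have hG2' : Nat.card G ≤ 1728 := by exact_mod_cast hG2
    have hk2 : k ≤ 2 := by omega
    have hmemG : ((Nat.card G : ℕ) : ℤ) ∈ ([720, 1368] : List ℤ) := by
      rw [hG]; interval_cases k <;> simp
    have hG1368 : ((Nat.card G : ℕ) : ℤ) ≤ 1368 := by
      rw [hG]; interval_cases k <;> norm_num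
    refine search_two K (mem_residues mK.1 (by push_cast; nlinarith [mul_self_nonneg x]) (by simp [mK.2.1, mK.2.2]))
      x (mem_residues hx.1 (by push_cast; nlinarith [mul_self_nonneg K]) (by simp [hx.2.1])) _ hmemG ?_
    have hK0 : (K : ℚ) ≠ 0 := Int.cast_ne_zero.2 (by omega)
    have hx0 : (x : ℚ) ≠ 0 := Int.cast_ne_zero.2 (by omega)
    field_simp at hS
    have : ((Nat.card G : ℤ) : ℚ) * (K * x + 8 * x + K) = 648 * (K * x) := by
      push_cast; linear_combination -hS
    exact_mod_cast this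

end CfsgLib.TISylow
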