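import Cfsg.Agent.Lib.TISylow.Setting
import Cfsg.Agent.Lib.Comp.Signalizer

/-!
# Group theoretic consequences of the trivial intersection hypothesis
-/

namespace CfsgLib.TISylow

variable {G : Type*} [Group G] {T : Subgroup G}

/-- Outside its normaliser, the cosets are moved freely by `T`. -/
theorem Hyp.eq_one_of_smul (h : Hyp T) {g t : G} (ht : t ∈ T)
    (hg : g ∉ Subgroup.normalizer (T : Set G))
    (hfix : g⁻¹ * t * g ∈ Subgroup.normalizer (T : Set G)) : t = 1 := by
  by_contra ht1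
  have h3 : (g⁻¹ * t * g) ^ 3 = 1 := by
    have := conj_pow (a := g⁻¹) (b := t) (i := 3)
    rw [inv_inv] at this
    rw [this, h.cube t ht, mul_one, inv_mul_cancel]
  have h1 := h.mem_of_mem _ hfix h3
  have h2 := h.mem_normalizer (g := g⁻¹) ht ht1 (by rwa [inv_inv])
  exact hg (by simpa using inv_mem h2)

/-- The index of the normaliser is congruent to one modulo the order of `T`. -/
theorem Hyp.index_mod [Finite G] (h : Hyp T) :
    ∃ k, (Subgroup.normalizer (T : Set G)).index = 1 + Nat.card T * k := by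
  classical
  set N := Subgroup.normalizer (T : Set G)
  let X : SubMulAction T (G ⧸ N) :=
    { carrier := {x | x ≠ ((1 : G) : G ⧸ N)}
      smul_mem' := fun t x hx e => hx (by
        rw [← inv_smul_smul t x, e]
        show ((((t⁻¹ : T) : G) * (1 : G) : G) : G ⧸ N) = _
        exact QuotientGroup.eq.2 (by simpa using Subgroup.le_normalizer t.2)) }
  have hfree : ∀ x : X, MulAction.stabilizer T x = ⊥ := by
    rintro ⟨x, hx⟩
    refine (Subgroup.eq_bot_iff_forall _).2 fun t ht => Subtype.ext ?_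
    obtain ⟨g, rfl⟩ := QuotientGroup.mk_surjective x
    have e := congrArg Subtype.val (MulAction.mem_stabilizer_iff.1 ht)
    have e' : (((t : G) * g : G) : G ⧸ N) = (g : G ⧸ N) := e
    have e2 := N.inv_mem (QuotientGroup.eq.1 e')
    refine h.eq_one_of_smul t.2 (fun hg => hx (QuotientGroup.eq.2 (by simpa using hg))) ?_
    simpa [mul_assoc] using e2
  have h1 := Nat.card_congr (MulAction.selfEquivOrbitsQuotientProd hfree)
  rw [Nat.card_prod] at h1
  refine ⟨Nat.card (Quotient (MulAction.orbitRel T X)), ?_⟩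
  rw [mul_comm, ← h1]
  haveI := Fintype.ofFinite (G ⧸ N)
  show Nat.card (G ⧸ N) = 1 + Nat.card {x : G ⧸ N // x ≠ ((1 : G) : G ⧸ N)}
  rw [Nat.card_eq_fintype_card, Nat.card_eq_fintype_card, Fintype.card_subtype_compl,
    Fintype.card_subtype_eq]
  have := Fintype.card_pos (α := G ⧸ N)
  omega

theorem Hyp.normal_of_index [Finite G] (h : Hyp T)
    (hi : (Subgroup.normalizer (T : Set G)).index ≤ Nat.card T) :
    Subgroup.normalizer (T : Set G) = ⊤ := by
  obtain ⟨k, hk⟩ := h.index_mod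
  rcases Nat.eq_zero_or_pos k with rfl | hk0
  · exact Subgroup.index_eq_one.1 (by simpa using hk)
  · have := Nat.le_mul_of_pos_right (Nat.card T) hk0
    omega

/-- A normal subgroup meeting `T` trivially is trivial. -/
theorem Hyp.eq_bot_of_inf [Finite G] (h : Hyp T) (hC : Subgroup.centralizer (T : Set G) ≤ T)
    (hT : Nat.card T = 9) (K : Subgroup G) [hK : K.Normal] (hKT : K ⊓ T = ⊥) : K = ⊥ := by
  haveI : Fact (Nat.Prime 3) := ⟨Nat.prime_three⟩
  have hcent : ∀ t ∈ T, t ≠ 1 → K ⊓ Subgroup.centralizer ({t} : Set G) = ⊥ := by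
    intro t ht ht1
    refine (Subgroup.eq_bot_iff_forall _).2 fun n hn => ?_
    have hnN := h.le_normalizer t ht ht1 hn.2
    have hnC : n ∈ Subgroup.centralizer (T : Set G) := by
      refine Subgroup.mem_centralizer_iff.2 fun u hu => ?_
      have h1 : n * u * n⁻¹ * u⁻¹ ∈ K ⊓ T := by
        refine ⟨?_, T.mul_mem ((Subgroup.mem_normalizer_iff.1 hnN u).1 hu) (T.inv_mem hu)⟩
        rw [show n * u * n⁻¹ * u⁻¹ = n * (u * n⁻¹ * u⁻¹) by group]
        exact K.mul_mem hn.1 (hK.conj_mem _ (K.inv_mem hn.1) u)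
      rw [hKT, Subgroup.mem_bot, mul_inv_eq_one, mul_inv_eq_iff_eq_mul] at h1
      exact h1.symm
    exact Subgroup.mem_bot.1 (hKT.le ⟨hn.1, hC hnC⟩)
  have hEA : Cfsg.IsElementaryAbelian 3 T :=
    ⟨⟨⟨fun a b => Subtype.ext (h.comm _ a.2 _ b.2)⟩⟩, h.cube⟩
  have hne : T ≠ ⊥ := fun e => by rw [e, Subgroup.card_bot] at hT; omega
  have hX : ¬ 3 ∣ Nat.card K := by
    intro hd
    obtain ⟨x, hx⟩ := exists_prime_orderOf_dvd_card' 3 hd
    have hx3 : (x : G) ^ 3 = 1 := by
      have := congrArg Subtype.val (orderOf_dvd_iff_pow_eq_one.1 (hx.dvd))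
      simpa using this
    obtain ⟨g, hg⟩ := h.conj_mem _ hx3
    have h1 : g * (x : G) * g⁻¹ ∈ K ⊓ T := ⟨hK.conj_mem _ x.2 g, hg⟩
    rw [hKT, Subgroup.mem_bot, conj_eq_one_iff, OneMemClass.coe_eq_one] at h1
    rw [h1, orderOf_one] at hx
    omega
  have hTK : T ≤ Subgroup.normalizer (K : Set G) := by
    rw [Subgroup.normalizer_eq_top]; exact le_top
  rw [CfsgLib.Comp.eq_iSup_centralizer_hyperplane hEA hne hX hTK]
  refine iSup_eq_bot.2 fun B => ?_
  obtain ⟨B, hBT, hB⟩ := B
  obtain ⟨t, ht, ht1⟩ : ∃ t ∈ B, t ≠ 1 := by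
    by_contra hcon
    push Not at hcon
    rw [(Subgroup.eq_bot_iff_forall B).2 hcon, Subgroup.relIndex_bot_left, hT] at hB
    omega
  exact eq_bot_iff.2 fun n hn => (hcent t (hBT ht) ht1).le
    ⟨hn.1, Subgroup.centralizer_le (Set.singleton_subset_iff.2 ht) hn.2⟩

end CfsgLib.TISylow
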