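import Cfsg.Agent.Lib.TISylow.Charts
import Cfsg.Agent.Lib.TISylow.Group

/-!
# The arithmetic for the automizers `⟨-1⟩`, four-group and cyclic of order four
-/

namespace CfsgLib.TISylow

theorem pairCount_eq_card {M : Type*} [Group M] [Fintype M] [DecidableEq M] (a b c : M) :
    pairCount M a b c = ((Finset.univ : Finset (M × M)).filter
      fun p => p.1 * a * p.1⁻¹ * (p.2 * b * p.2⁻¹) = c).card := by
  simp [pairCount, Nat.card_eq_fintype_card, Fintype.card_subtype]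

variable {M : Type*} [Group M] [Fintype M] [DecidableEq M] {m r q : ℕ}
variable {G : Type*} [Group G] {T : Subgroup G} {P : Family M m r q} {C : Chart T P}
variable {L : List (Col m)} {xs : List ℤ}

theorem IsSol.rel' (s : IsSol C L xs) (k : Fin m) {ws : List ℤ} {z : ℤ}
    (hv : L.map (fun c => c k) = ws) (hz : -P.one k = z) :
    ((ws.zip xs).map fun p => p.1 * p.2).sum = z := by
  rw [← hz, ← s.rel k, ← hv, List.zip_map_left, List.map_map]
  rfl

theorem IsSol.tri' [Finite G] (s : IsSol C L xs) (i j l : Fin q)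
    (hij : ¬ IsConj (P.rep i) (P.rep j)) {ws : List ℤ} {w : ℤ} {n : ℕ}
    (hv : L.map (fun c => P.val i c * P.val j c * P.val l c) = ws)
    (hw : P.val i P.one * P.val j P.one * P.val l P.one = w) (hD : P.D = 1)
    (hn : pairCount M (P.rep i) (P.rep j) (P.rep l) = n) :
    (w : ℚ) + ((ws.zip xs).map fun p => (p.1 : ℚ) / p.2).sum =
      (n : ℚ) * (Nat.card G : ℚ)⁻¹ := by
  have h1 := s.tri i j l hij
  rw [hD, hn, Int.cast_one, one_pow, one_mul] at h1
  rw [← hw, ← hv, List.zip_map_left, List.map_map, eq_mul_inv_iff_mul_eq₀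
    (Nat.cast_ne_zero.2 Nat.card_pos.ne'), mul_comm, ← h1]
  congr 2
  · push_cast; ring
  · refine congrArg List.sum (List.map_congr_left fun p _ => ?_)
    simp only [Function.comp_apply, Prod.map, id_eq]
    push_cast
    ring

theorem Nine.card_ge [Finite G] (h : Nine T) (hN : Subgroup.normalizer (T : Set G) ≠ ⊤) :
    ∃ k, 0 < k ∧ Nat.card G = Nat.card (Subgroup.normalizer (T : Set G)) * (1 + 9 * k) := by
  obtain ⟨k, hk⟩ := h.toHyp.index_mod
  rw [h.card_eq] at hk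
  refine ⟨k, Nat.pos_of_ne_zero fun e => hN (Subgroup.index_eq_one.1 (by omega)), ?_⟩
  rw [← hk, Subgroup.card_mul_index]

theorem inv_mul_eq {x : ℤ} {g a : ℚ} (ha : a ≠ 0) (h : (x : ℚ)⁻¹ = a * g⁻¹) : (x : ℚ) * a = g := by
  rw [← inv_inv (x : ℚ), h, mul_inv, inv_inv]
  field_simp

/-- A Sylow subgroup of order nine with automizer `⟨-1⟩` is normal. -/
theorem Nine.eq_top_of_two [Finite G] (h : Nine T) (C : Chart T twoFamily)
    (hcard : Nat.card (Subgroup.normalizer (T : Set G)) = 18) :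
    Subgroup.normalizer (T : Set G) = ⊤ := by
  by_contra hN
  obtain ⟨k, hk, hG⟩ := h.card_ge hN
  rw [hcard] at hG
  obtain ⟨L, hL, xs, s⟩ := h.toHyp.exists_sol C (by decide +kernel)
  rw [show leaves (fun i j => twoFamily.gram i j - twoFamily.one i * twoFamily.one j) =
    [[![1, 1, 1, 1], ![1, 0, 0, 0], ![0, 1, 0, 0], ![0, 0, 1, 0], ![0, 0, 0, 1]]] by
      decide +kernel, List.mem_singleton] at hL
  subst hL
  have hlen := s.len
  rcases xs with _ | ⟨a, _ | ⟨b, _ | ⟨c, _ | ⟨d, _ | ⟨e, _ | ⟨o, xs⟩⟩⟩⟩⟩⟩ <;> simp at hlen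
  have hncj : ∀ i j : Fin 4, i ≠ j → ¬ IsConj (twoRep i) (twoRep j) := by
    intro i j hij hc
    obtain ⟨g, hg⟩ := isConj_iff.1 hc
    exact (show ∀ i j : Fin 4, i ≠ j → ∀ g, g * twoRep i * g⁻¹ ≠ twoRep j by decide +kernel)
      i j hij g hg
  have cnt : ∀ t ∈ [((0 : Fin 4), (1 : Fin 4), (2 : Fin 4)), (0, 1, 3), (0, 2, 3), (1, 2, 3)],
      pairCount monTwo (twoRep t.1) (twoRep t.2.1) (twoRep t.2.2) = 81 := by
    simp only [pairCount_eq_card]
    decide +kernel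
  have h1 := s.tri' 0 1 2 (hncj _ _ (by decide)) (ws := [1, -2, -2, -2, 1]) (w := 1)
    (by decide +kernel) (by decide +kernel) rfl (cnt (0, 1, 2) (by simp))
  have h2 := s.tri' 0 1 3 (hncj _ _ (by decide)) (ws := [1, -2, -2, 1, -2]) (w := 1)
    (by decide +kernel) (by decide +kernel) rfl (cnt (0, 1, 3) (by simp))
  have h3 := s.tri' 0 2 3 (hncj _ _ (by decide)) (ws := [1, -2, 1, -2, -2]) (w := 1)
    (by decide +kernel) (by decide +kernel) rfl (cnt (0, 2, 3) (by simp))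
  have h4 := s.tri' 1 2 3 (hncj _ _ (by decide)) (ws := [1, 1, -2, -2, -2]) (w := 1)
    (by decide +kernel) (by decide +kernel) rfl (cnt (1, 2, 3) (by simp))
  have h5 := s.tri' 0 1 0 (hncj _ _ (by decide)) (ws := [1, 4, -2, 1, 1]) (w := 1) (n := 0)
    (by decide +kernel) (by decide +kernel) rfl (by
      rw [pairCount_eq_card]; decide +kernel)
  simp only [List.zip_cons_cons, List.zip_nil_left, List.map_cons, List.map_nil, List.sum_cons,
    List.sum_nil, div_eq_mul_inv, Int.cast_ofNat, Int.cast_one, Int.cast_neg, Nat.cast_ofNat,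
    Nat.cast_zero, zero_mul] at h1 h2 h3 h4 h5
  have hb : (b : ℚ)⁻¹ = -9 * (Nat.card G : ℚ)⁻¹ := by linarith
  have hb' := inv_mul_eq (by norm_num) hb
  have hb'' : b * (-9) = (Nat.card G : ℤ) := by exact_mod_cast hb'
  have hsq := s.sq
  simp only [List.map_cons, List.map_nil, List.sum_cons, List.sum_nil] at hsq
  have hG' : (180 : ℤ) ≤ Nat.card G := by
    have : 180 ≤ Nat.card G := by rw [hG]; omega
    exact_mod_cast this
  nlinarith [mul_self_nonneg a, mul_self_nonneg c, mul_self_nonneg d, mul_self_nonneg e]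

set_option maxHeartbeats 1000000 in
/-- A Sylow subgroup of order nine with a four-group as automizer is normal. -/
theorem Nine.eq_top_of_klein [Finite G] (h : Nine T) (C : Chart T kleinFamily)
    (hcard : Nat.card (Subgroup.normalizer (T : Set G)) = 36) :
    Subgroup.normalizer (T : Set G) = ⊤ := by
  by_contra hN
  obtain ⟨k, hk, hG⟩ := h.card_ge hN
  rw [hcard] at hG
  obtain ⟨L, hL, xs, s⟩ := h.toHyp.exists_sol C (by decide +kernel)
  have hncj : ∀ i j : Fin 3, i ≠ j → ¬ IsConj (kleinRep i) (kleinRep j) := by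
    intro i j hij hc
    obtain ⟨g, hg⟩ := isConj_iff.1 hc
    exact (show ∀ i j : Fin 3, i ≠ j → ∀ g, g * kleinRep i * g⁻¹ ≠ kleinRep j by decide +kernel)
      i j hij g hg
  have cnt : ∀ t ∈ [((0 : Fin 3), (1 : Fin 3), (0 : Fin 3), 0), (0, 1, 1, 0), (0, 1, 2, 324),
      (0, 2, 0, 0), (0, 2, 2, 162), (1, 2, 1, 0), (1, 2, 2, 162)],
      pairCount monKlein (kleinRep t.1) (kleinRep t.2.1) (kleinRep t.2.2.1) = t.2.2.2 := by
    simp only [pairCount_eq_card]
    decide +kernel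
  have hG' : (360 : ℤ) ≤ Nat.card G := by
    have : 360 ≤ Nat.card G := by rw [hG]; omega
    exact_mod_cast this
  have hpos : (0 : ℚ) < (Nat.card G : ℚ)⁻¹ := inv_pos.2 (Nat.cast_pos.2 Nat.card_pos)
  have t1 := fun ws hv => s.tri' 0 1 0 (hncj _ _ (by decide)) (ws := ws) (w := 1) hv
    (by decide +kernel) rfl (cnt (0, 1, 0, 0) (by simp))
  have t2 := fun ws hv => s.tri' 0 1 1 (hncj _ _ (by decide)) (ws := ws) (w := 1) hv
    (by decide +kernel) rfl (cnt (0, 1, 1, 0) (by simp))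
  have t3 := fun ws hv => s.tri' 0 1 2 (hncj _ _ (by decide)) (ws := ws) (w := 1) hv
    (by decide +kernel) rfl (cnt (0, 1, 2, 324) (by simp))
  have t4 := fun ws hv => s.tri' 0 2 0 (hncj _ _ (by decide)) (ws := ws) (w := 1) hv
    (by decide +kernel) rfl (cnt (0, 2, 0, 0) (by simp))
  have t5 := fun ws hv => s.tri' 0 2 2 (hncj _ _ (by decide)) (ws := ws) (w := 1) hv
    (by decide +kernel) rfl (cnt (0, 2, 2, 162) (by simp))
  have t6 := fun ws hv => s.tri' 1 2 1 (hncj _ _ (by decide)) (ws := ws) (w := 1) hv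
    (by decide +kernel) rfl (cnt (1, 2, 1, 0) (by simp))
  have t7 := fun ws hv => s.tri' 1 2 2 (hncj _ _ (by decide)) (ws := ws) (w := 1) hv
    (by decide +kernel) rfl (cnt (1, 2, 2, 162) (by simp))
  have hsq := s.sq
  rw [show leaves (fun i j => kleinFamily.gram i j - kleinFamily.one i * kleinFamily.one j) =
    [[![1, 0, 0, 1, -1], ![1, 0, 0, 0, 1], ![0, 1, 1, 0, 0], ![0, 1, 0, 0, -1], ![0, 0, 1, 1, 0],
        ![0, 0, 1, 0, 0], ![0, 0, 0, 1, 0]],
      [![1, 0, 0, 1, 0], ![1, 0, 0, 0, 0], ![0, 1, 1, 0, -1], ![0, 1, 0, 0, 0], ![0, 0, 1, 1, 0],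
        ![0, 0, 1, 0, 1], ![0, 0, 0, 1, -1]],
      [![1, 0, 0, 1, 0], ![1, 0, 0, 0, 0], ![0, 1, 1, 0, 0], ![0, 1, 0, 0, -1], ![0, 0, 1, 1, -1],
        ![0, 0, 1, 0, 1], ![0, 0, 0, 1, 0]],
      [![1, 0, 0, 1, 0], ![1, 0, 0, 0, 0], ![0, 1, 1, 0, 0], ![0, 1, 0, 0, -1], ![0, 0, 1, 1, 0],
        ![0, 0, 1, 0, 0], ![0, 0, 0, 1, -1], ![0, 0, 0, 0, 1]],
      [![1, 0, 0, 1, 0], ![1, 0, 0, 0, 0], ![0, 1, 1, 1, -1], ![0, 1, 0, -1, 0], ![0, 0, 1, 0, 1],
        ![0, 0, 1, 0, 0], ![0, 0, 0, 0, 1]],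
      [![1, 0, 1, 1, 0], ![1, 0, -1, 0, 0], ![0, 1, 1, 0, 0], ![0, 1, 0, 0, -1], ![0, 0, 0, 1, 0],
        ![0, 0, 0, 1, -1], ![0, 0, 0, 0, 1]]] by decide +kernel] at hL
  simp only [List.mem_cons, List.not_mem_nil, or_false] at hL
  have hlen := s.len
  rcases hL with rfl | rfl | rfl | rfl | rfl | rfl
  · rcases xs with _ | ⟨a, _ | ⟨b, _ | ⟨c, _ | ⟨d, _ | ⟨e, _ | ⟨f, _ | ⟨g, _ | ⟨o, xs⟩⟩⟩⟩⟩⟩⟩⟩ <;>
      simp at hlen
    have e1 := t1 [-1, 0, 1, 4, 1, -2, 0] (by decide +kernel)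
    have e2 := t2 [-1, 0, 1, -2, 1, 4, 0] (by decide +kernel)
    have e3 := t3 [2, 0, 1, -2, 1, -2, 0] (by decide +kernel)
    have e4 := t4 [2, 0, 1, 4, 1, 1, 0] (by decide +kernel)
    have e5 := t5 [-4, 0, 1, -2, 1, 1, 0] (by decide +kernel)
    have e6 := t6 [2, 0, 1, 1, 1, 4, 0] (by decide +kernel)
    have e7 := t7 [-4, 0, 1, 1, 1, -2, 0] (by decide +kernel)
    simp only [List.zip_cons_cons, List.zip_nil_left, List.map_cons, List.map_nil, List.sum_cons,
      List.sum_nil, div_eq_mul_inv, Int.cast_ofNat, Int.cast_one, Int.cast_neg, Int.cast_zero,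
      Nat.cast_ofNat, Nat.cast_zero, zero_mul] at e1 e2 e3 e4 e5 e6 e7
    linarith
  · rcases xs with _ | ⟨a, _ | ⟨b, _ | ⟨c, _ | ⟨d, _ | ⟨e, _ | ⟨f, _ | ⟨g, _ | ⟨o, xs⟩⟩⟩⟩⟩⟩⟩⟩ <;>
      simp at hlen
    have e1 := t1 [1, -2, -1, 0, 1, 0, 4] (by decide +kernel)
    have e2 := t2 [1, 4, -1, 0, 1, 0, -2] (by decide +kernel)
    have e3 := t3 [1, -2, 2, 0, 1, 0, -2] (by decide +kernel)
    have e4 := t4 [1, 1, 2, 0, 1, 0, 4] (by decide +kernel)
    have e5 := t5 [1, 1, -4, 0, 1, 0, -2] (by decide +kernel)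
    have e6 := t6 [1, 4, 2, 0, 1, 0, 1] (by decide +kernel)
    have e7 := t7 [1, -2, -4, 0, 1, 0, 1] (by decide +kernel)
    simp only [List.zip_cons_cons, List.zip_nil_left, List.map_cons, List.map_nil, List.sum_cons,
      List.sum_nil, div_eq_mul_inv, Int.cast_ofNat, Int.cast_one, Int.cast_neg, Int.cast_zero,
      Nat.cast_ofNat, Nat.cast_zero, zero_mul] at e1 e2 e3 e4 e5 e6 e7
    linarith
  · rcases xs with _ | ⟨a, _ | ⟨b, _ | ⟨c, _ | ⟨d, _ | ⟨e, _ | ⟨f, _ | ⟨g, _ | ⟨o, xs⟩⟩⟩⟩⟩⟩⟩⟩ <;>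
      simp at hlen
    have e1 := t1 [1, -2, 1, 4, -1, 0, 0] (by decide +kernel)
    have e2 := t2 [1, 4, 1, -2, -1, 0, 0] (by decide +kernel)
    have e3 := t3 [1, -2, 1, -2, 2, 0, 0] (by decide +kernel)
    have e4 := t4 [1, 1, 1, 4, 2, 0, 0] (by decide +kernel)
    have e5 := t5 [1, 1, 1, -2, -4, 0, 0] (by decide +kernel)
    have e6 := t6 [1, 4, 1, 1, 2, 0, 0] (by decide +kernel)
    have e7 := t7 [1, -2, 1, 1, -4, 0, 0] (by decide +kernel)
    simp only [List.zip_cons_cons, List.zip_nil_left, List.map_cons, List.map_nil, List.sum_cons,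
      List.sum_nil, div_eq_mul_inv, Int.cast_ofNat, Int.cast_one, Int.cast_neg, Int.cast_zero,
      Nat.cast_ofNat, Nat.cast_zero, zero_mul] at e1 e2 e3 e4 e5 e6 e7
    linarith
  · rcases xs with _ | ⟨a, _ | ⟨b, _ | ⟨c, _ | ⟨d, _ | ⟨e, _ | ⟨f, _ | ⟨g, _ | ⟨o, _ | ⟨o', xs⟩⟩⟩⟩⟩⟩⟩⟩⟩ <;>
      simp at hlen
    have e1 := t1 [1, -2, 1, 4, 1, -2, 4, 8] (by decide +kernel)
    have e2 := t2 [1, 4, 1, -2, 1, 4, -2, 8] (by decide +kernel)
    have e3 := t3 [1, -2, 1, -2, 1, -2, -2, -4] (by decide +kernel)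
    have e4 := t4 [1, 1, 1, 4, 1, 1, 4, -4] (by decide +kernel)
    have e5 := t5 [1, 1, 1, -2, 1, 1, -2, 2] (by decide +kernel)
    have e6 := t6 [1, 4, 1, 1, 1, 4, 1, -4] (by decide +kernel)
    have e7 := t7 [1, -2, 1, 1, 1, -2, 1, 2] (by decide +kernel)
    simp only [List.zip_cons_cons, List.zip_nil_left, List.map_cons, List.map_nil, List.sum_cons,
      List.sum_nil, div_eq_mul_inv, Int.cast_ofNat, Int.cast_one, Int.cast_neg, Int.cast_zero,
      Nat.cast_ofNat, Nat.cast_zero, zero_mul] at e1 e2 e3 e4 e5 e6 e7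
    have ho : (o : ℚ)⁻¹ = -9 * (Nat.card G : ℚ)⁻¹ := by linarith
    have ho' := inv_mul_eq (by norm_num) ho
    have ho'' : o * (-9) = (Nat.card G : ℤ) := by exact_mod_cast ho'
    simp only [List.map_cons, List.map_nil, List.sum_cons, List.sum_nil] at hsq
    nlinarith [mul_self_nonneg a, mul_self_nonneg b, mul_self_nonneg c, mul_self_nonneg d,
      mul_self_nonneg e, mul_self_nonneg f, mul_self_nonneg g]
  · rcases xs with _ | ⟨a, _ | ⟨b, _ | ⟨c, _ | ⟨d, _ | ⟨e, _ | ⟨f, _ | ⟨g, _ | ⟨o, xs⟩⟩⟩⟩⟩⟩⟩⟩ <;>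
      simp at hlen
    have e1 := t1 [1, -2, 2, 0, 0, -2, 8] (by decide +kernel)
    have e2 := t2 [1, 4, -4, 0, 0, 4, 8] (by decide +kernel)
    have e3 := t3 [1, -2, -4, 0, 0, -2, -4] (by decide +kernel)
    have e4 := t4 [1, 1, 2, 0, 0, 1, -4] (by decide +kernel)
    have e5 := t5 [1, 1, -4, 0, 0, 1, 2] (by decide +kernel)
    have e6 := t6 [1, 4, 8, 0, 0, 4, -4] (by decide +kernel)
    have e7 := t7 [1, -2, 8, 0, 0, -2, 2] (by decide +kernel)
    simp only [List.zip_cons_cons, List.zip_nil_left, List.map_cons, List.map_nil, List.sum_cons,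
      List.sum_nil, div_eq_mul_inv, Int.cast_ofNat, Int.cast_one, Int.cast_neg, Int.cast_zero,
      Nat.cast_ofNat, Nat.cast_zero, zero_mul] at e1 e2 e3 e4 e5 e6 e7
    linarith
  · rcases xs with _ | ⟨a, _ | ⟨b, _ | ⟨c, _ | ⟨d, _ | ⟨e, _ | ⟨f, _ | ⟨g, _ | ⟨o, xs⟩⟩⟩⟩⟩⟩⟩⟩ <;>
      simp at hlen
    have e1 := t1 [-4, 0, 1, 4, 0, 4, 8] (by decide +kernel)
    have e2 := t2 [2, 0, 1, -2, 0, -2, 8] (by decide +kernel)
    have e3 := t3 [-4, 0, 1, -2, 0, -2, -4] (by decide +kernel)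
    have e4 := t4 [8, 0, 1, 4, 0, 4, -4] (by decide +kernel)
    have e5 := t5 [8, 0, 1, -2, 0, -2, 2] (by decide +kernel)
    have e6 := t6 [2, 0, 1, 1, 0, 1, -4] (by decide +kernel)
    have e7 := t7 [-4, 0, 1, 1, 0, 1, 2] (by decide +kernel)
    simp only [List.zip_cons_cons, List.zip_nil_left, List.map_cons, List.map_nil, List.sum_cons,
      List.sum_nil, div_eq_mul_inv, Int.cast_ofNat, Int.cast_one, Int.cast_neg, Int.cast_zero,
      Nat.cast_ofNat, Nat.cast_zero, zero_mul] at e1 e2 e3 e4 e5 e6 e7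
    linarith

theorem mem_list_of_mod_nine {x : ℤ} (hm : x % 9 = 1) (hB : x * x ≤ 728) :
    x ∈ ([-26, -17, -8, 1, 10, 19] : List ℤ) := by
  have h1 : -27 < x := by nlinarith
  have h2 : x < 27 := by nlinarith
  simp only [List.mem_cons, List.not_mem_nil, or_false]
  omega

theorem inv_ge_neg_eighth {x : ℤ} (hm : x % 9 = 1) : -(1 / 8 : ℚ) ≤ (x : ℚ)⁻¹ := by
  rcases le_or_gt 0 x with h | h
  · have : (0 : ℚ) ≤ (x : ℚ)⁻¹ := inv_nonneg.2 (by exact_mod_cast h)
    linarith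
  · have h8 : (x : ℚ) ≤ -8 := by exact_mod_cast (show x ≤ -8 by omega)
    have := inv_le_inv_of_neg (show (-8 : ℚ) < 0 by norm_num) (show (x : ℚ) < 0 by linarith) |>.2 h8
    norm_num at this ⊢
    linarith

/-- A Sylow subgroup of order nine with cyclic automizer of order four: the order is 360. -/
theorem Nine.card_of_four [Finite G] (h : Nine T) (C : Chart T fourFamily) (hC : C.cls = axisCls)
    (hcard : Nat.card (Subgroup.normalizer (T : Set G)) = 36)
    (hN : Subgroup.normalizer (T : Set G) ≠ ⊤)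
    (hlin : ∀ χ : G → ℂ, Cfsg.IsIrrCharacter G χ → χ 1 = 1 → χ = fun _ => 1) :
    Nat.card G = 360 := by
  obtain ⟨k, hk, hG⟩ := h.card_ge hN
  rw [hcard] at hG
  obtain ⟨L, hL, xs, s⟩ := h.toHyp.exists_sol C (by decide +kernel)
  rw [show leaves (fun i j => fourFamily.gram i j - fourFamily.one i * fourFamily.one j) =
    [[![1, 1], ![1, 1], ![1, 1], ![1, 0], ![0, 1]]] by decide +kernel, List.mem_singleton] at hL
  subst hL
  have hlen := s.len
  rcases xs with _ | ⟨a, _ | ⟨b, _ | ⟨c, _ | ⟨e, _ | ⟨f, _ | ⟨o, xs⟩⟩⟩⟩⟩⟩ <;> simp at hlen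
  have hncj : ¬ IsConj (fourRep 0) (fourRep 1) := fun hc => by
    obtain ⟨g, hg⟩ := isConj_iff.1 hc
    exact (show ∀ g, g * fourRep 0 * g⁻¹ ≠ fourRep 1 by decide +kernel) g hg
  have cnt : ∀ t ∈ [(0 : Fin 2), 1], pairCount monFour (fourRep 0) (fourRep 1) (fourRep t) = 162 := by
    simp only [pairCount_eq_card]
    decide +kernel
  have h1 := s.tri' 0 1 0 hncj (ws := [1, 1, 1, 2, -4]) (w := 1)
    (by decide +kernel) (by decide +kernel) rfl (cnt 0 (by simp))
  have h2 := s.tri' 0 1 1 hncj (ws := [1, 1, 1, -4, 2]) (w := 1)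
    (by decide +kernel) (by decide +kernel) rfl (cnt 1 (by simp))
  have r0 := s.rel' 0 (ws := [1, 1, 1, 1, 0]) (z := -1) (by decide +kernel) (by decide +kernel)
  simp only [List.zip_cons_cons, List.zip_nil_left, List.map_cons, List.map_nil, List.sum_cons,
    List.sum_nil, div_eq_mul_inv, Int.cast_ofNat, Int.cast_one, Int.cast_neg, Nat.cast_ofNat] at h1 h2
  simp only [List.zip_cons_cons, List.zip_nil_left, List.map_cons, List.map_nil, List.sum_cons,
    List.sum_nil] at r0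
  have hm : ∀ p ∈ ([![1, 1], ![1, 1], ![1, 1], ![1, 0], ![0, 1]] : List (Col 2)).zip [a, b, c, e, f],
      9 ∣ p.2 + 4 * (fourFamily.val 0 p.1 + fourFamily.val 1 p.1) := by
    intro p hp
    obtain ⟨q, hq⟩ := s.mult_dvd p hp
    refine ⟨q, ?_⟩
    have hsum : ∑ v ∈ (Finset.univ : Finset Vec).filter (fun v => v ≠ 0),
        fourFamily.val (axisCls v) p.1 = 4 * (fourFamily.val 0 p.1 + fourFamily.val 1 p.1) := by
      rw [show (Finset.univ : Finset Vec).filter (fun v => v ≠ 0) =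
        {(1, 0), (2, 0), (0, 1), (0, 2), (1, 1), (1, 2), (2, 1), (2, 2)} by decide +kernel]
      repeat rw [Finset.sum_insert (by decide)]
      rw [Finset.sum_singleton]
      simp [axisCls, onAxis, show ¬ ((2 : ZMod 3) = 0) by decide]
      ring
    simp only [Chart.mult, hC, show fourFamily.D = 1 from rfl, one_mul, mul_one, hsum] at hq
    exact hq
  have hval : ∀ j : Fin 2, fourFamily.val j ![1, 1] = 1 := by decide +kernel
  have hval10 : fourFamily.val 0 ![1, 0] + fourFamily.val 1 ![1, 0] = 1 := by decide +kernel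
  have ma := hm (![1, 1], a) (by simp)
  have mb := hm (![1, 1], b) (by simp)
  have mc := hm (![1, 1], c) (by simp)
  have me := hm (![1, 0], e) (by simp)
  simp only [hval, hval10] at ma mb mc me
  have hne1 : ∀ x, x = a ∨ x = b ∨ x = c → x ≠ 1 := by
    intro x hx e1
    obtain ⟨χ, hχ, hne, h1⟩ := s.linear (![1, 1], x) (by rcases hx with rfl | rfl | rfl <;> simp)
      (by simp [e1])
    exact hne (hlin χ hχ h1)
  have a8 := inv_ge_neg_eighth (x := a) (by omega)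
  have b8 := inv_ge_neg_eighth (x := b) (by omega)
  have c8 := inv_ge_neg_eighth (x := c) (by omega)
  have hGge : 360 ≤ Nat.card G := by rw [hG]; omega
  have hginv : (Nat.card G : ℚ)⁻¹ ≤ 1 / 360 := by
    rw [one_div]; exact inv_anti₀ (by norm_num) (by exact_mod_cast hGge)
  have hepos : (1 / 12 : ℚ) < (e : ℚ)⁻¹ := by linarith
  have he0 : 0 < e := by
    have : (0 : ℚ) < (e : ℚ)⁻¹ := by linarith
    exact_mod_cast inv_pos.1 this
  have he12 : e < 12 := by
    rw [one_div] at hepos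
    exact_mod_cast (inv_lt_inv₀ (by norm_num) (by exact_mod_cast he0)).1 hepos
  obtain rfl : e = 5 := by omega
  have hG720 : Nat.card G ≤ 720 := by
    have h3 : (1 / 720 : ℚ) ≤ (Nat.card G : ℚ)⁻¹ := by push_cast at h1 h2; linarith
    rw [one_div] at h3
    exact_mod_cast (inv_le_inv₀ (by norm_num) (by exact_mod_cast Nat.card_pos)).1 h3
  have hk2 : k = 1 ∨ k = 2 := by
    have : 36 * (1 + 9 * k) ≤ 720 := hG ▸ hG720
    omega
  rcases hk2 with rfl | rfl
  · exact hG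
  exfalso
  have hsq := s.sq
  simp only [List.map_cons, List.map_nil, List.sum_cons, List.sum_nil] at hsq
  rw [hG] at hsq
  push_cast at hsq
  have la := mem_list_of_mod_nine (x := a) (by omega)
    (by nlinarith [mul_self_nonneg b, mul_self_nonneg c])
  have lb := mem_list_of_mod_nine (x := b) (by omega)
    (by nlinarith [mul_self_nonneg a, mul_self_nonneg c])
  obtain rfl : c = -6 - a - b := by omega
  have hne : ∀ x ∈ [a, b], x ≠ 1 := fun x hx => hne1 x (by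
    simp only [List.mem_cons, List.not_mem_nil, or_false] at hx
    rcases hx with rfl | rfl <;> simp)
  rw [hG] at h1 h2
  push_cast at h1 h2
  have hbad : 1 + (a : ℚ)⁻¹ + (b : ℚ)⁻¹ + ((-6 - a - b : ℤ) : ℚ)⁻¹ - 2 / 5 = 162 / 684 := by
    push_cast
    linarith
  simp only [List.mem_cons, List.not_mem_nil, or_false] at la lb
  rcases la with rfl | rfl | rfl | rfl | rfl | rfl <;>
    rcases lb with rfl | rfl | rfl | rfl | rfl | rfl <;> norm_num at hbad

end CfsgLib.TISylow
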