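import Mathlib

/-!
# The monomial affine group of the plane over `ZMod 3`, of order 72, and embeddings into it
-/

namespace CfsgLib.TISylow

/-- The plane over `ZMod 3`. -/
abbrev Vec := ZMod 3 × ZMod 3

/-- `v ↦ (x, y) + (±w₁, ±w₂)`, `w` being `v`, swapped when `sw`. -/
@[ext]
structure Mon where
  vec : Vec
  sw : Bool
  n1 : Bool
  n2 : Bool
  deriving DecidableEq

namespace Mon

/-- The sign attached to a Boolean. -/
def sgn (b : Bool) : ZMod 3 := cond b (-1) 1

theorem sgn_xor (a b : Bool) : sgn (xor a b) = sgn a * sgn b := by cases a <;> cases b <;> decide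

/-- The linear part. -/
def lin (g : Mon) (v : Vec) : Vec :=
  (sgn g.n1 * cond g.sw v.2 v.1, sgn g.n2 * cond g.sw v.1 v.2)

/-- Composition of affine maps. -/
def comp (g h : Mon) : Mon where
  vec := g.vec + g.lin h.vec
  sw := xor g.sw h.sw
  n1 := xor g.n1 (cond g.sw h.n2 h.n1)
  n2 := xor g.n2 (cond g.sw h.n1 h.n2)

/-- The inverse affine map. -/
def invMap (g : Mon) : Mon :=
  let h : Mon := ⟨0, g.sw, cond g.sw g.n2 g.n1, cond g.sw g.n1 g.n2⟩
  ⟨-h.lin g.vec, h.sw, h.n1, h.n2⟩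

/-- Enumeration of `Mon`. -/
def equivProd : Mon ≃ Vec × Bool × Bool × Bool where
  toFun g := (g.vec, g.sw, g.n1, g.n2)
  invFun p := ⟨p.1, p.2.1, p.2.2.1, p.2.2.2⟩
  left_inv _ := rfl
  right_inv _ := rfl

instance instFintypeMon : Fintype Mon := Fintype.ofEquiv _ equivProd.symm

theorem lin_comp (g h : Mon) (v : Vec) : (g.comp h).lin v = g.lin (h.lin v) := by
  obtain ⟨gv, gs, a, b⟩ := g
  obtain ⟨hv, hs, c, d⟩ := h
  cases gs <;> cases hs <;> simp [lin, comp, sgn_xor, mul_assoc]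

theorem lin_add (g : Mon) (v w : Vec) : g.lin (v + w) = g.lin v + g.lin w := by
  obtain ⟨gv, gs, a, b⟩ := g
  cases gs <;> simp [lin, mul_add]

instance instGroupMon : Group Mon where
  mul := comp
  one := ⟨0, false, false, false⟩
  inv := invMap
  mul_assoc g h k := by
    change (g.comp h).comp k = g.comp (h.comp k)
    have hv : ((g.comp h).comp k).vec = (g.comp (h.comp k)).vec := by
      show g.vec + g.lin h.vec + (g.comp h).lin k.vec = g.vec + g.lin (h.vec + h.lin k.vec)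
      rw [lin_comp, lin_add, add_assoc]
    obtain ⟨gv, gs, a, b⟩ := g
    obtain ⟨hw, hs, c, d⟩ := h
    obtain ⟨kv, ks, e, f⟩ := k
    refine Mon.ext hv ?_ ?_ ?_ <;> cases gs <;> cases hs <;> simp [comp]
  one_mul := by decide +kernel
  mul_one := by decide +kernel
  inv_mul_cancel := by decide +kernel

@[simp] theorem mul_vec (g h : Mon) : (g * h).vec = g.vec + g.lin h.vec := rfl
theorem lin_mul (g h : Mon) (v : Vec) : (g * h).lin v = g.lin (h.lin v) := lin_comp g h v

/-- Translation by `v`. -/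
def trans (v : Vec) : Mon := ⟨v, false, false, false⟩

theorem lin_inj : ∀ g h : Mon, g.vec = h.vec → (∀ v, g.lin v = h.lin v) → g = h := by
  have key : ∀ a b : Bool × Bool × Bool,
      (∀ v : Vec, (⟨0, a.1, a.2.1, a.2.2⟩ : Mon).lin v = (⟨0, b.1, b.2.1, b.2.2⟩ : Mon).lin v) →
        a = b := by decide +kernel
  intro g h hv hl
  have := key (g.sw, g.n1, g.n2) (h.sw, h.n1, h.n2) hl
  simp only [Prod.mk.injEq] at this
  exact Mon.ext hv this.1 this.2.1 this.2.2

end Mon

/-- A coordinate system for `T` in which its normaliser acts monomially, with an element inverting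
`T`. -/
structure Frame {G : Type*} [Group G] (T : Subgroup G) where
  τ : Vec → G
  τ_add : ∀ v w, τ (v + w) = τ v * τ w
  τ_inj : Function.Injective τ
  τ_mem : ∀ v, τ v ∈ T
  τ_surj : ∀ t ∈ T, ∃ v, τ v = t
  inv : G
  inv_mem : inv ∈ Subgroup.normalizer (T : Set G)
  inv_conj : ∀ t ∈ T, inv * t * inv⁻¹ = t⁻¹
  mono : ∀ n ∈ Subgroup.normalizer (T : Set G), ∃ g : Mon, ∀ v, n * τ v * n⁻¹ = τ (g.lin v)

variable {G : Type*} [Group G] {T : Subgroup G}

/-- The normaliser of `T` embeds in `Mon`, compatibly with the coordinates. -/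
theorem Frame.exists_hom (F : Frame T) (hC : Subgroup.centralizer (T : Set G) ≤ T) :
    ∃ e : Subgroup.normalizer (T : Set G) →* Mon, Function.Injective e ∧
      (∀ v, ∀ h : F.τ v ∈ Subgroup.normalizer (T : Set G), e ⟨F.τ v, h⟩ = Mon.trans v) ∧
      ∀ n : Subgroup.normalizer (T : Set G), ∀ v,
        (n : G) * F.τ v * (n : G)⁻¹ = F.τ ((e n).lin v) := by
  have τ0 : F.τ 0 = 1 := by
    have := F.τ_add 0 0
    rw [add_zero] at this
    exact left_eq_mul.1 this
  have τneg : ∀ v, F.τ (-v) = (F.τ v)⁻¹ := fun v => eq_inv_of_mul_eq_one_left (by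
    rw [← F.τ_add, neg_add_cancel, τ0])
  have comm : ∀ s ∈ T, ∀ t ∈ T, s * t = t * s := fun s hs t ht => by
    obtain ⟨v, rfl⟩ := F.τ_surj s hs
    obtain ⟨w, rfl⟩ := F.τ_surj t ht
    rw [← F.τ_add, ← F.τ_add, add_comm]
  have mono : ∀ n : Subgroup.normalizer (T : Set G), ∃ g : Mon,
      ∀ v, (n : G) * F.τ v * (n : G)⁻¹ = F.τ (g.lin v) := fun n => F.mono n n.2
  choose L hL using mono
  have hmemN : ∀ n : Subgroup.normalizer (T : Set G), ∀ t ∈ T, (n : G) * t * (n : G)⁻¹ ∈ T :=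
    fun n t ht => (Subgroup.mem_normalizer_iff.1 n.2 t).1 ht
  have hz : ∀ n : Subgroup.normalizer (T : Set G), (n : G) * F.inv * (n : G)⁻¹ * F.inv⁻¹ ∈ T := by
    intro n
    refine hC (Subgroup.mem_centralizer_iff.2 fun t ht => ?_)
    have hn' : (n : G)⁻¹ * t * (n : G) ∈ T := by
      simpa using hmemN n⁻¹ t ht
    have key : ∀ u ∈ T, (n : G) * F.inv * (n : G)⁻¹ * F.inv⁻¹ * u *
        ((n : G) * F.inv * (n : G)⁻¹ * F.inv⁻¹)⁻¹ = u := by
      intro u hu
      have e1 : F.inv⁻¹ * u * F.inv = u⁻¹ := by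
        have := F.inv_conj u⁻¹ (T.inv_mem hu)
        rw [inv_inv] at this
        conv_lhs => rw [← this]
        group
      have hn2 : (n : G)⁻¹ * u⁻¹ * (n : G) ∈ T := by
        simpa using hmemN n⁻¹ u⁻¹ (T.inv_mem hu)
      calc _ = (n : G) * (F.inv * ((n : G)⁻¹ * (F.inv⁻¹ * u * F.inv) * (n : G)) * F.inv⁻¹) *
            (n : G)⁻¹ := by group
        _ = u := by rw [e1, F.inv_conj _ hn2]; group
    exact (mul_inv_eq_iff_eq_mul.1 (key t ht)).symm
  choose w hw using fun n : Subgroup.normalizer (T : Set G) => F.τ_surj _ (hz n)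
  let φ : Subgroup.normalizer (T : Set G) → Mon := fun n =>
    ⟨-w n, (L n).sw, (L n).n1, (L n).n2⟩
  have hlin : ∀ n v, (φ n).lin v = (L n).lin v := fun n v => rfl
  have hmul : ∀ a b, φ (a * b) = φ a * φ b := by
    intro a b
    refine Mon.lin_inj _ _ (neg_injective (F.τ_inj ?_)) fun v => F.τ_inj ?_
    · rw [Mon.mul_vec, hlin, neg_add, show -(φ a).vec = w a from neg_neg _,
        show -(φ (a * b)).vec = w (a * b) from neg_neg _, F.τ_add, hw a,
        τneg, ← hL a, show (φ b).vec = -w b from rfl, τneg, hw b, hw (a * b)]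
      rw [comm _ (hz a) _ (T.inv_mem (hmemN a _ (T.inv_mem (hz b))))]
      simp only [Subgroup.coe_mul]
      group
    · rw [hlin, Mon.lin_mul, hlin, hlin, ← hL, ← hL, ← hL]
      simp only [Subgroup.coe_mul]
      group
  refine ⟨MonoidHom.mk' φ hmul, ?_, ?_, fun n v => hL n v⟩
  · rw [injective_iff_map_eq_one]
    intro n hn
    have h1 : ∀ t ∈ T, (n : G) * t * (n : G)⁻¹ = t := fun t ht => by
      obtain ⟨v, rfl⟩ := F.τ_surj t ht
      rw [hL n v, ← hlin, show φ n = 1 from hn]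
      congr 1
      exact (show ∀ v : Vec, (1 : Mon).lin v = v by decide +kernel) v
    have hnT : (n : G) ∈ T := hC (Subgroup.mem_centralizer_iff.2 fun t ht =>
      (mul_inv_eq_iff_eq_mul.1 (h1 t ht)).symm)
    have hw0 : w n = 0 := neg_eq_zero.1 (congrArg Mon.vec hn)
    have e := hw n
    rw [hw0, τ0] at e
    refine Subtype.ext ?_
    show (n : G) = 1
    have e2 : F.inv * (n : G)⁻¹ * F.inv⁻¹ = n := by rw [F.inv_conj _ (T.inv_mem hnT), inv_inv]
    have e3 : (n : G) * (n : G) = 1 := by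
      conv_lhs => arg 2; rw [← e2]
      rw [← mul_assoc, ← mul_assoc]
      exact e.symm
    obtain ⟨v, hv⟩ := F.τ_surj _ hnT
    rw [← hv, ← F.τ_add, ← τ0] at e3
    rw [← hv, (show ∀ v : Vec, v + v = 0 → v = 0 by decide +kernel) v (F.τ_inj e3), τ0]
  · intro v hv
    set n : Subgroup.normalizer (T : Set G) := ⟨F.τ v, hv⟩
    refine Mon.lin_inj _ _ (neg_injective (F.τ_inj ?_)) fun u => F.τ_inj ?_
    · show F.τ (- -w n) = F.τ (-v)
      rw [neg_neg, hw n, τneg]
      show F.τ v * F.inv * (F.τ v)⁻¹ * F.inv⁻¹ = _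
      rw [show F.τ v * F.inv * (F.τ v)⁻¹ * F.inv⁻¹ = F.τ v * (F.inv * (F.τ v)⁻¹ * F.inv⁻¹) by group,
        F.inv_conj _ (T.inv_mem (F.τ_mem v)), inv_inv, ← F.τ_add, ← τneg,
        (show ∀ v : Vec, v + v = -v by decide +kernel) v]
    · show F.τ ((L n).lin u) = _
      rw [← hL n u, show (Mon.trans v).lin u = u from
        (show ∀ v u : Vec, (Mon.trans v).lin u = u by decide +kernel) v u]
      show F.τ v * F.τ u * (F.τ v)⁻¹ = F.τ u
      rw [comm _ (F.τ_mem v) _ (F.τ_mem u), mul_inv_cancel_right]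

end CfsgLib.TISylow
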