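import Cfsg.Agent.Lib.TISylow.Core
import Cfsg.Agent.Lib.TISylow.Mon
import Cfsg.Agent.Lib.Char.Invariants
import Cfsg.Agent.Lib.Char.Column

/-!
# From the columns to the Diophantine system of a leaf
-/

namespace CfsgLib.TISylow

open scoped ComplexConjugate

variable {M : Type*} [Group M] [Fintype M] [DecidableEq M] {m r q : ℕ}
variable {G : Type*} [Group G] {T : Subgroup G}

/-- The value at the `j`-th representative (times `D`) read off from a column. -/
def Family.val (P : Family M m r q) (j : Fin q) (c : Col m) : ℤ := ∑ k, P.W j k * c k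

/-- A chart: the normaliser as the model, with `T` as the image of the plane. -/
structure Chart (T : Subgroup G) (P : Family M m r q) where
  e : Subgroup.normalizer (T : Set G) ≃* M
  ι : Vec → M
  ι_zero : ι 0 = 1
  ι_inj : Function.Injective ι
  mem_iff : ∀ n : Subgroup.normalizer (T : Set G), (n : G) ∈ T ↔ ∃ v, e n = ι v
  cls : Vec → Fin q
  cls_spec : ∀ v, v ≠ 0 → IsConj (P.rep (cls v)) (ι v)
  rep_spec : ∀ j, ∃ v, v ≠ 0 ∧ ι v = P.rep j

namespace Chart

variable {P : Family M m r q}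

/-- The element of `T` with given coordinates. -/
def el (C : Chart T P) (v : Vec) : G := ((C.e.symm (C.ι v) : Subgroup.normalizer (T : Set G)) : G)

theorem el_mem (C : Chart T P) (v : Vec) : C.el v ∈ T :=
  (C.mem_iff _).2 ⟨v, MulEquiv.apply_symm_apply _ _⟩

/-- The plane as `T`. -/
noncomputable def equiv (C : Chart T P) : Vec ≃ T :=
  Equiv.ofBijective (fun v => ⟨C.el v, C.el_mem v⟩) ⟨fun v w e => C.ι_inj (C.e.symm.injective
    (Subtype.ext (Subtype.mk.inj e))), fun t => by
      obtain ⟨v, hv⟩ := (C.mem_iff ⟨t, Subgroup.le_normalizer t.2⟩).1 t.2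
      refine ⟨v, Subtype.ext ?_⟩
      show C.el v = t
      rw [el, ← hv, MulEquiv.symm_apply_apply]⟩

theorem el_ne_one (C : Chart T P) {v : Vec} (hv : v ≠ 0) : C.el v ≠ 1 := fun e => hv <| C.ι_inj <| by
  rw [C.ι_zero]
  have h1 : C.e.symm (C.ι v) = 1 := Subtype.ext e
  simpa using congrArg C.e h1

end Chart

/-- `9 D` times the multiplicity of the trivial character in the restriction to `T`, signed. -/
def Chart.mult {P : Family M m r q} (C : Chart T P) (p : Col m × ℤ) : ℤ :=
  P.D * p.2 + ∑ v ∈ (Finset.univ : Finset Vec).filter (fun v => v ≠ 0), P.val (C.cls v) p.1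

/-- The system satisfied by the signed degrees `xs` of the nontrivial characters with nonzero
column in a leaf `L`. -/
structure IsSol {P : Family M m r q} (C : Chart T P) (L : List (Col m)) (xs : List ℤ) : Prop where
  len : xs.length = L.length
  rel : ∀ k, ((L.zip xs).map fun p => p.1 k * p.2).sum = - P.one k
  tri : ∀ i j l, ¬ IsConj (P.rep i) (P.rep j) →
    (Nat.card G : ℚ) * ((P.val i P.one : ℚ) * P.val j P.one * P.val l P.one +
      ((L.zip xs).map fun p => (P.val i p.1 : ℚ) * P.val j p.1 * P.val l p.1 / p.2).sum) =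
      (P.D : ℚ) ^ 3 * (pairCount M (P.rep i) (P.rep j) (P.rep l) : ℚ)
  sq : 1 + (xs.map fun x => x * x).sum ≤ (Nat.card G : ℤ)
  ne : ∀ p ∈ L.zip xs, p.2 ≠ 0
  mult_dvd : ∀ p ∈ L.zip xs, 9 * P.D ∣ C.mult p
  mult_nonneg : ∀ p ∈ L.zip xs, 0 ≤ p.2 * P.D * C.mult p
  linear : ∀ p ∈ L.zip xs, p.2.natAbs = 1 →
    ∃ χ : G → ℂ, Cfsg.IsIrrCharacter G χ ∧ χ ≠ (fun _ => 1) ∧ χ 1 = 1
  rational : ∀ p ∈ L.zip xs, L.count p.1 = 1 →
    ∃ χ : G → ℂ, Cfsg.IsIrrCharacter G χ ∧ χ 1 = (p.2.natAbs : ℂ) ∧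
      (∀ n : ℕ, n.Coprime (Nat.card G) → ∀ g, χ (g ^ n) = χ g) ∧
      ∀ v, v ≠ 0 → (P.D : ℂ) * χ (C.el v) = (p.2.sign * P.val (C.cls v) p.1 : ℤ)

theorem list_count_two {α : Type*} [DecidableEq α] {ι : Type*} {l : List ι} (hl : l.Nodup)
    {f : ι → α} {a b : ι} (ha : a ∈ l) (hb : b ∈ l) (hab : f a = f b)
    (hc : (l.map f).count (f a) = 1) : a = b := by
  classical
  have hnd := hl
  rw [List.count_eq_countP, List.countP_map, List.countP_eq_length_filter] at hc
  obtain ⟨c, hc'⟩ := List.length_eq_one_iff.1 hc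
  have h1 : ∀ x ∈ l, f x = f a → x = c := fun x hx hfx => by
    have : x ∈ l.filter ((fun y => y == f a) ∘ f) := List.mem_filter.2 ⟨hx, by simp [hfx]⟩
    rw [hc'] at this
    exact List.mem_singleton.1 this
  rw [h1 a ha rfl, h1 b hb hab.symm]

/-- The system of some leaf of the residual Gram matrix is solvable. -/
theorem Hyp.exists_sol [Finite G] (h : Hyp T) {P : Family M m r q} (C : Chart T P)
    (hM : ∀ x : M, x ^ 12 = 1) :
    ∃ L ∈ leaves (fun i j => P.gram i j - P.one i * P.one j), ∃ xs : List ℤ, IsSol C L xs := by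
  classical
  haveI := Fintype.ofFinite G
  haveI := Fintype.ofFinite (Cfsg.IrrCharacter G)
  obtain ⟨K⟩ := h.exists_columns P rfl C.e hM
  let triv : Cfsg.IrrCharacter G := ⟨fun _ => 1, by
    simpa using CfsgLib.Char.isIrrCharacter_linear (1 : G →* ℂˣ)⟩
  set s : Finset (Cfsg.IrrCharacter G) := Finset.univ.filter fun χ => K.c χ ≠ 0 ∧ χ ≠ triv with hs
  have hd1 : K.d triv = 1 := by
    have h1 := K.d_eq triv
    simp only [triv] at h1
    exact_mod_cast h1.symm
  have hc1 : K.c triv = P.one := K.c_one triv rfl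
  have hsplit : ∀ {β : Type} [AddCommMonoid β] (f : Cfsg.IrrCharacter G → β),
      (∀ χ, K.c χ = 0 → f χ = 0) → ∑ χ, f χ = f triv + ∑ χ ∈ s, f χ := by
    intro β _ f hf
    rw [← Finset.add_sum_erase _ _ (Finset.mem_univ triv)]
    congr 1
    refine (Finset.sum_subset (fun x hx => ?_) fun x hx hxs => ?_).symm
    · exact Finset.mem_erase.2 ⟨(Finset.mem_filter.1 hx).2.2, Finset.mem_univ _⟩
    · exact hf x (by
        by_contra hne
        exact hxs (Finset.mem_filter.2 ⟨Finset.mem_univ _, hne, (Finset.mem_erase.1 hx).1⟩))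
  obtain ⟨l, hl1, hl2, hl3⟩ := exists_mem_leaves K.c s (fun i j => P.gram i j - P.one i * P.one j)
    (fun x hx => (Finset.mem_filter.1 hx).2.1) (fun i j => by
      have h1 := hsplit (fun χ => K.c χ i * K.c χ j) (fun χ h0 => by simp [h0])
      rw [K.c_gram, hc1] at h1
      linarith)
  let nc : Cfsg.IrrCharacter G → Col m := fun χ j => colSign (K.c χ) * K.c χ j
  let x : Cfsg.IrrCharacter G → ℤ := fun χ => colSign (K.c χ) * (K.d χ : ℤ)
  have hmem : ∀ χ, χ ∈ l ↔ χ ∈ s := fun χ => by rw [← hl2, List.mem_toFinset]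
  refine ⟨l.map nc, hl3, l.map x, ?_⟩
  have hzip : (l.map nc).zip (l.map x) = l.map fun χ => (nc χ, x χ) := List.zip_map'
  have hsum : ∀ {β : Type} [AddCommMonoid β] (f : Cfsg.IrrCharacter G → β),
      (l.map f).sum = ∑ χ ∈ s, f χ := fun f => by rw [← hl2, List.sum_toFinset _ hl1]
  have hσ : ∀ χ, colSign (K.c χ) = 1 ∨ colSign (K.c χ) = -1 := fun χ => by
    unfold colSign; split_ifs <;> simp
  have hval : ∀ j χ, P.val j (nc χ) = colSign (K.c χ) * P.val j (K.c χ) := fun j χ => by
    simp only [Family.val, nc, Finset.mul_sum]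
    exact Finset.sum_congr rfl fun k _ => by ring
  have hel : ∀ χ : Cfsg.IrrCharacter G, ∀ v, v ≠ 0 →
      (P.D : ℂ) * (χ : G → ℂ) (C.el v) = (P.val (C.cls v) (K.c χ) : ℂ) := by
    intro χ v hv
    obtain ⟨g, hg⟩ := isConj_iff.1 (C.cls_spec v hv)
    rw [Chart.el, ← hg, map_mul, map_mul, map_inv, Subgroup.coe_mul, Subgroup.coe_mul,
      Subgroup.coe_inv, CfsgLib.Char.irr_isClassFunction χ.2]
    exact K.value (C.cls v) χ
  have hmult : ∀ χ : Cfsg.IrrCharacter G, ∃ n : ℕ,
      (9 * P.D * n : ℤ) = P.D * K.d χ +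
        ∑ v ∈ (Finset.univ : Finset Vec).filter (fun v => v ≠ 0), P.val (C.cls v) (K.c χ) := by
    intro χ
    obtain ⟨n, ρ, hρ, hχ⟩ := χ.2
    haveI : Fintype T := Fintype.ofEquiv Vec C.equiv
    have h1 := CfsgLib.Char.classInner_res_one ρ T
    rw [CfsgLib.Char.classInner_def] at h1
    simp only [map_one, mul_one] at h1
    rw [hχ, ← Fintype.sum_equiv C.equiv (fun v => (χ : G → ℂ) (C.el v)) (fun t => (χ : G → ℂ) t)
      (fun v => rfl), Nat.card_congr C.equiv.symm, show Nat.card Vec = 9 by simp] at h1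
    refine ⟨Module.finrank ℂ (Representation.invariants (ρ.comp T.subtype : Representation ℂ T _)),
      Int.cast_injective (α := ℂ) ?_⟩
    push_cast
    rw [mul_right_comm, mul_comm (9 : ℂ), mul_assoc, ← h1]
    rw [show (∑ v : Vec, (χ : G → ℂ) (C.el v)) = (χ : G → ℂ) (C.el 0) +
        ∑ v ∈ (Finset.univ : Finset Vec).filter (fun v => v ≠ 0), (χ : G → ℂ) (C.el v) by
      rw [← Finset.add_sum_erase _ _ (Finset.mem_univ (0 : Vec))]
      refine congrArg _ (Finset.sum_congr ?_ fun _ _ => rfl)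
      ext; simp [eq_comm]]
    rw [show C.el 0 = 1 by simp [Chart.el, C.ι_zero], K.d_eq,
      Finset.sum_congr rfl (fun v hv => (hel χ v (Finset.mem_filter.1 hv).2).symm), ← Finset.mul_sum]
    field_simp
    push_cast
    ring
  refine ⟨by simp, fun k => ?_, fun i j l' hij => ?_, ?_, ?_, ?_, ?_, ?_, ?_⟩
  · rw [hzip, List.map_map, hsum]
    have h1 := K.vanish 1 (one_pow _) k
    simp only [K.d_eq] at h1
    have h2 : ∑ χ, K.c χ k * (K.d χ : ℤ) = 0 := by exact_mod_cast h1
    rw [hsplit _ (fun χ h0 => by simp [h0]), hc1, hd1, Nat.cast_one, mul_one] at h2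
    rw [eq_neg_iff_add_eq_zero, add_comm]
    refine Eq.trans ?_ h2
    congr 1
    refine Finset.sum_congr rfl fun χ _ => ?_
    simp only [Function.comp_apply, nc, x]
    linear_combination (K.c χ k * (K.d χ : ℤ)) * colSign_sq (K.c χ)
  · have h1 := K.triple h C.e i j l' (fun t => by
        obtain ⟨v, -, hv⟩ := C.rep_spec t
        exact (C.mem_iff _).2 ⟨v, by rw [MulEquiv.apply_symm_apply]; exact hv.symm⟩) (fun t => by
        obtain ⟨v, hv0, hv⟩ := C.rep_spec t
        exact fun e => hv0 (C.ι_inj (by rw [hv, e, C.ι_zero]))) hij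
    rw [← h1, hzip, List.map_map, hsum, mul_add]
    rw [hsplit _ (fun χ h0 => by simp [h0]), hc1, hd1, mul_add]
    simp only [Family.val, Nat.cast_one, div_one]
    congr 2
    refine Finset.sum_congr rfl fun χ _ => ?_
    simp only [Function.comp_apply, x]
    have hv := fun t => hval t χ
    simp only [Family.val] at hv
    simp only [hv]
    rcases hσ χ with e | e <;> rw [e] <;> push_cast <;> ring
  · rw [List.map_map, hsum]
    have h1 := CfsgLib.Char.sum_irr_sq (G := G)
    simp only [K.d_eq] at h1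
    have h2 : ∑ χ, (K.d χ : ℤ) ^ 2 = (Nat.card G : ℤ) := by exact_mod_cast h1
    rw [← h2, ← Finset.add_sum_erase _ _ (Finset.mem_univ triv), hd1]
    refine add_le_add (by norm_num) (le_trans (le_of_eq (Finset.sum_congr rfl fun χ _ => ?_))
      (Finset.sum_le_sum_of_subset_of_nonneg (fun χ hχ => Finset.mem_erase.2
        ⟨(Finset.mem_filter.1 hχ).2.2, Finset.mem_univ _⟩) fun χ _ _ => sq_nonneg _))
    simp only [Function.comp_apply, x]
    linear_combination ((K.d χ : ℤ) ^ 2) * colSign_sq (K.c χ)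
  all_goals
    intro p hp
    rw [hzip, List.mem_map] at hp
    obtain ⟨χ, hχ, rfl⟩ := hp
    have hdpos := K.d_pos χ
  · rcases hσ χ with e | e <;> simp only [x, e] <;> omega
  · obtain ⟨n, hn⟩ := hmult χ
    refine ⟨colSign (K.c χ) * n, ?_⟩
    simp only [Chart.mult, x, hval, ← Finset.mul_sum]
    linear_combination (-colSign (K.c χ)) * hn
  · obtain ⟨n, hn⟩ := hmult χ
    have e : Chart.mult C (nc χ, x χ) = colSign (K.c χ) * (9 * P.D * n) := by
      simp only [Chart.mult, x, hval, ← Finset.mul_sum, hn]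
      ring
    simp only [e, x]
    have e2 : colSign (K.c χ) * (K.d χ : ℤ) * P.D * (colSign (K.c χ) * (9 * P.D * n)) =
        9 * (P.D * P.D) * ((K.d χ : ℤ) * n) := by
      linear_combination (9 * (P.D * P.D) * ((K.d χ : ℤ) * n)) * colSign_sq (K.c χ)
    rw [e2]
    have := mul_self_nonneg P.D
    positivity
  · intro h1
    refine ⟨χ, χ.2, fun e => ((Finset.mem_filter.1 ((hmem χ).1 hχ)).2.2) (Subtype.ext e), ?_⟩
    rw [K.d_eq]
    have : K.d χ = 1 := by rcases hσ χ with e | e <;> simp [x, e] at h1 <;> omega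
    rw [this, Nat.cast_one]
  · intro hcount
    have hnat : (x χ).natAbs = K.d χ := by rcases hσ χ with e | e <;> simp [x, e]
    refine ⟨χ, χ.2, by rw [hnat]; exact K.d_eq χ, fun n hn => ?_, fun v hv => ?_⟩
    · let χ' : Cfsg.IrrCharacter G := ⟨_, CfsgLib.BlockA.isIrrCharacter_comp_pow hn χ.2⟩
      have hc' : K.c χ' = K.c χ := by
        funext k
        have h1 : (fun g => ∑ ψ : Cfsg.IrrCharacter G, (K.c ψ k : ℂ) * (ψ : G → ℂ) (g ^ n)) =
            fun g => ∑ ψ : Cfsg.IrrCharacter G, (K.c ψ k : ℂ) * (ψ : G → ℂ) g :=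
          funext fun g => K.galois n hn g k
        have h2 := CfsgLib.BlockA.classInner_comp_pow (G := G) hn
          (fun g => ∑ ψ : Cfsg.IrrCharacter G, (K.c ψ k : ℂ) * (ψ : G → ℂ) g) (χ : G → ℂ)
        rw [h1, show (fun g => ∑ ψ : Cfsg.IrrCharacter G, (K.c ψ k : ℂ) * (ψ : G → ℂ) g) =
          ∑ ψ : Cfsg.IrrCharacter G, (K.c ψ k : ℂ) • (ψ : G → ℂ) by funext g; simp] at h2
        simp only [CfsgLib.Char.classInner_sum_left, CfsgLib.Char.classInner_smul_left] at h2
        rw [Finset.sum_eq_single χ', Finset.sum_eq_single χ] at h2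
        · rw [CfsgLib.Char.irr_classInner_self χ'.2, CfsgLib.Char.irr_classInner_self χ.2,
            mul_one, mul_one] at h2
          exact_mod_cast h2
        · intro ψ _ hψ
          rw [CfsgLib.Char.irr_classInner_ne ψ.2 χ.2 fun e => hψ (Subtype.ext e), mul_zero]
        · exact fun h' => absurd (Finset.mem_univ _) h'
        · intro ψ _ hψ
          rw [CfsgLib.Char.irr_classInner_ne ψ.2 χ'.2 fun e => hψ (Subtype.ext e), mul_zero]
        · exact fun h' => absurd (Finset.mem_univ _) h'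
      have hne : χ' ≠ triv := fun e => (Finset.mem_filter.1 ((hmem χ).1 hχ)).2.2 (Subtype.ext
        (funext fun g => by
          obtain ⟨n', hn'⟩ := exists_pow_eq_self_of_coprime
            ((hn.coprime_dvd_right (orderOf_dvd_natCard g)) : n.Coprime (orderOf g))
          have h5 := congrFun (congrArg Subtype.val e) (g ^ n')
          simp only [χ', triv] at h5
          rw [← pow_mul, mul_comm, pow_mul, hn'] at h5
          exact h5))
      have heq : χ = χ' := list_count_two hl1 hχ ((hmem χ').2 (Finset.mem_filter.2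
        ⟨Finset.mem_univ _, by rw [hc']; exact (Finset.mem_filter.1 ((hmem χ).1 hχ)).2.1, hne⟩))
        (f := nc) (by simp only [nc, hc']) hcount
      intro g
      exact (congrFun (congrArg Subtype.val heq) g).symm
    · rw [hel χ v hv, hval]
      rcases hσ χ with e | e <;> simp only [x, e] <;>
        simp [Int.sign_eq_one_of_pos, Int.sign_neg, hdpos]

end CfsgLib.TISylow
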