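import Cfsg.Agent.Lib.TISylow.Core
import Cfsg.Agent.Lib.TISylow.Mon

/-!
# The four models of the normaliser and their families of supported generalized characters

The automizer of the plane is `⟨-1⟩`, cyclic of order four, the diagonal four-group, or the
monomial group of order eight.
-/

namespace CfsgLib.TISylow

/-- A finite subset closed under the operations, as a subgroup. -/
def ofPred {M : Type*} [Group M] (p : M → Prop)
    (h : p 1 ∧ (∀ a b, p a → p b → p (a * b)) ∧ ∀ a, p a → p a⁻¹) : Subgroup M where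
  carrier := {x | p x}
  one_mem' := h.1
  mul_mem' := fun {a b} => h.2.1 a b
  inv_mem' := fun {a} => h.2.2 a

/-- Criterion for the inversion formula of a family, by an explicit list of the classes. -/
theorem inversion_of_classes {M : Type*} [Group M] [Fintype M] [DecidableEq M] {m : ℕ}
    (F : Fin m → M → ℤ) (r : M) (cl : Finset M) (w : Fin m → ℤ) (D : ℤ)
    (h1 : r ∈ cl) (h2 : ∀ g x, x ∈ cl → g * x * g⁻¹ ∈ cl) (h3 : ∀ x ∈ cl, ∃ g, g * r * g⁻¹ = x)
    (h4 : ∀ x, (cl.card : ℤ) * ∑ k, w k * F k x = if x ∈ cl then D * Fintype.card M else 0) (x : M) :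
    (((Finset.univ : Finset M).filter fun y => ∃ g, g * r * g⁻¹ = y).card : ℤ) *
      ∑ k, w k * F k x = if (∃ g, g * r * g⁻¹ = x) then D * Fintype.card M else 0 := by
  have hiff : ∀ y, (∃ g, g * r * g⁻¹ = y) ↔ y ∈ cl := fun y =>
    ⟨fun ⟨g, hg⟩ => hg ▸ h2 g r h1, h3 y⟩
  rw [show ((Finset.univ : Finset M).filter fun y => ∃ g, g * r * g⁻¹ = y) = cl by
    ext y; simp [hiff], h4]
  simp only [hiff]

/-- Whether the linear part is trivial. -/
def Mon.isT (g : Mon) : Bool := !g.sw && !g.n1 && !g.n2

/-- Whether the linear part is `±1`. -/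
def Mon.isScalar (g : Mon) : Bool := !g.sw && (g.n1 == g.n2)

/-- The model with automizer `⟨-1⟩`. -/
def monTwo : Subgroup Mon := ofPred (fun g => g.isScalar = true) (by decide +kernel)

/-- The model with cyclic automizer of order four. -/
def monFour : Subgroup Mon := ofPred (fun g => xor g.n1 g.n2 = g.sw) (by decide +kernel)

/-- The model with the diagonal automizer. -/
def monKlein : Subgroup Mon := ofPred (fun g => g.sw = false) (by decide +kernel)

instance decMemMonTwo : DecidablePred (· ∈ monTwo) := fun g =>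
  decidable_of_iff (g.isScalar = true) Iff.rfl
instance decMemMonFour : DecidablePred (· ∈ monFour) := fun g =>
  decidable_of_iff (xor g.n1 g.n2 = g.sw) Iff.rfl
instance decMemMonKlein : DecidablePred (· ∈ monKlein) := fun g =>
  decidable_of_iff (g.sw = false) Iff.rfl

/-- The four lines through the origin. -/
def line (i : Fin 4) (v : Vec) : Bool :=
  ![decide (v.2 = 0), decide (v.1 = 0), decide (v.1 = v.2), decide (v.1 = -v.2)] i

/-- The subgroups used for `monTwo`. -/
def twoPred (i : Fin 6) (g : monTwo) : Bool :=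
  ![g.1.isT, line 0 g.1.vec, line 1 g.1.vec, line 2 g.1.vec, line 3 g.1.vec, true] i

/-- The subgroups used for `monFour`. -/
def fourPred (i : Fin 4) (g : monFour) : Bool :=
  ![g.1.isT, g.1.isScalar && line 0 g.1.vec, g.1.isScalar && line 2 g.1.vec, g.1.isScalar] i

/-- The subgroups used for `monKlein`. -/
def kleinPred (i : Fin 9) (g : monKlein) : Bool :=
  ![!g.1.n1, decide (g.1.vec.1 = 0), true, !g.1.n2, decide (g.1.vec.2 = 0), g.1.isT,
    decide (g.1.vec.1 = 0) && !g.1.n2, !g.1.n1 && decide (g.1.vec.2 = 0),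
    decide (g.1.vec.1 = 0) && decide (g.1.vec.2 = 0)] i

/-- The subgroups used for the whole of `Mon`. -/
def monPred (i : Fin 9) (g : Mon) : Bool :=
  ![!g.sw && !g.n1, !g.sw && line 0 g.vec, !g.sw, g.isScalar && line 0 g.vec, g.isScalar,
    (g.n1 == g.n2) && !g.n1, (g.n1 == g.n2) && line 2 g.vec, g.n1 == g.n2,
    g.isScalar && line 2 g.vec] i

/-- The two kinds of nonzero vectors: on an axis or not. -/
def onAxis (v : Vec) : Bool := decide (v.1 = 0) || decide (v.2 = 0)

theorem twoPred_closed : ∀ i, twoPred i 1 = true ∧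
    (∀ a b, twoPred i a = true → twoPred i b = true → twoPred i (a * b) = true) ∧
    ∀ a, twoPred i a = true → twoPred i a⁻¹ = true := by decide +kernel

theorem fourPred_closed : ∀ i, fourPred i 1 = true ∧
    (∀ a b, fourPred i a = true → fourPred i b = true → fourPred i (a * b) = true) ∧
    ∀ a, fourPred i a = true → fourPred i a⁻¹ = true := by decide +kernel

theorem kleinPred_closed : ∀ i, kleinPred i 1 = true ∧
    (∀ a b, kleinPred i a = true → kleinPred i b = true → kleinPred i (a * b) = true) ∧
    ∀ a, kleinPred i a = true → kleinPred i a⁻¹ = true := by decide +kernel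

theorem monPred_closed : ∀ i, monPred i 1 = true ∧
    (∀ a b, monPred i a = true → monPred i b = true → monPred i (a * b) = true) ∧
    ∀ a, monPred i a = true → monPred i a⁻¹ = true := by decide +kernel

/-- The values of the family of `monTwo`. -/
def twoF (k : Fin 4) (g : monTwo) : ℤ := if g.1.isT && !line k g.1.vec then 3 else 0

/-- The values of the family of `monFour`. -/
def fourF (k : Fin 2) (g : monFour) : ℤ :=
  if g.1.isT && decide (g.1.vec ≠ 0) then (if onAxis g.1.vec then ![3, 6] k else ![6, 3] k) else 0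

/-- The values of the family of `monKlein`. -/
def kleinF (k : Fin 5) (g : monKlein) : ℤ :=
  ![if !g.1.n1 && decide (g.1.vec.1 ≠ 0) then 3 else 0,
    if !g.1.n2 && decide (g.1.vec.2 ≠ 0) then 3 else 0,
    if !g.1.n1 && decide (g.1.vec.1 ≠ 0) then (if g.1.n2 then -3 else 3) else 0,
    if !g.1.n2 && decide (g.1.vec.2 ≠ 0) then (if g.1.n1 then -3 else 3) else 0,
    if g.1.isT && decide (g.1.vec.1 ≠ 0) then (if g.1.vec.2 = 0 then 6 else -3) else 0] k

/-- The values of the family of `Mon`. -/
def monF (k : Fin 4) (g : Mon) : ℤ :=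
  if g.vec = 0 then 0 else
  if g.isT then (if onAxis g.vec then ![3, 3, 6, 6] k else ![6, 6, 3, 3] k) else
  if g.sw = false ∧ (g.n1 = true ∧ g.n2 = false ∧ g.vec.2 ≠ 0 ∨
    g.n1 = false ∧ g.n2 = true ∧ g.vec.1 ≠ 0) then ![3, -3, 0, 0] k else
  if g.sw = true ∧ (g.n1 = false ∧ g.n2 = false ∧ g.vec.1 ≠ -g.vec.2 ∨
    g.n1 = true ∧ g.n2 = true ∧ g.vec.1 ≠ g.vec.2) then ![0, 0, 3, -3] k else 0

/-- A point of `monTwo` above a vector. -/
def twoTr (v : Vec) : monTwo := ⟨Mon.trans v, (rfl : (Mon.trans v).isScalar = true)⟩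

/-- A point of `monFour` above a vector. -/
def fourTr (v : Vec) : monFour := ⟨Mon.trans v, rfl⟩

/-- A point of `monKlein` above a vector. -/
def kleinTr (v : Vec) : monKlein := ⟨Mon.trans v, rfl⟩

/-- Class representatives for `monTwo`. -/
def twoRep (j : Fin 4) : monTwo := twoTr (![(1, 0), (0, 1), (1, 1), (1, 2)] j)

/-- Class representatives for `monFour`. -/
def fourRep (j : Fin 2) : monFour := fourTr (![(1, 0), (1, 1)] j)

/-- Class representatives for `monKlein`. -/
def kleinRep (j : Fin 3) : monKlein := kleinTr (![(1, 0), (0, 1), (1, 1)] j)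

/-- Class representatives for `Mon`. -/
def monRep (j : Fin 2) : Mon := Mon.trans (![(1, 0), (1, 1)] j)

/-- The class of a vector for `monTwo`. -/
def twoCls (v : Vec) : Fin 4 :=
  if v.2 = 0 then 0 else if v.1 = 0 then 1 else if v.1 = v.2 then 2 else 3

/-- The class of a vector for `monFour` and `Mon`. -/
def axisCls (v : Vec) : Fin 2 := if onAxis v then 0 else 1

/-- The class of a vector for `monKlein`. -/
def kleinCls (v : Vec) : Fin 3 := if v.2 = 0 then 0 else if v.1 = 0 then 1 else 2

/-- The classes of `monTwo` in the plane. -/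
def twoSet (j : Fin 4) : Finset monTwo :=
  ((Finset.univ : Finset Vec).filter fun v => v ≠ 0 ∧ twoCls v = j).image twoTr

/-- The classes of `monFour` in the plane. -/
def fourSet (j : Fin 2) : Finset monFour :=
  ((Finset.univ : Finset Vec).filter fun v => v ≠ 0 ∧ axisCls v = j).image fourTr

/-- The classes of `monKlein` in the plane. -/
def kleinSet (j : Fin 3) : Finset monKlein :=
  ((Finset.univ : Finset Vec).filter fun v => v ≠ 0 ∧ kleinCls v = j).image kleinTr

/-- The classes of `Mon` in the plane. -/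
def monSet (j : Fin 2) : Finset Mon :=
  ((Finset.univ : Finset Vec).filter fun v => v ≠ 0 ∧ axisCls v = j).image Mon.trans

/-- Weights reading the values at the representatives of `monTwo`. -/
def twoW (j k : Fin 4) : ℤ := if j = k then -2 else 1

/-- Weights reading the values at the representatives of `monFour`. -/
def fourW (j k : Fin 2) : ℤ := if j = k then -1 else 2

/-- Weights reading the values at the representatives of `monKlein`. -/
def kleinW : Fin 3 → Fin 5 → ℤ := ![![1, 0, 1, 0, 2], ![-2, 3, -2, 3, 2], ![1, 0, 1, 0, -1]]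

/-- Weights reading the values at the representatives of `Mon`. -/
def monW : Fin 2 → Fin 4 → ℤ := ![![-1, -1, 2, 2], ![2, 2, -1, -1]]

theorem twoSet_spec : ∀ j, twoRep j ∈ twoSet j ∧ (∀ g x, x ∈ twoSet j → g * x * g⁻¹ ∈ twoSet j) ∧
    (∀ x ∈ twoSet j, ∃ g, g * twoRep j * g⁻¹ = x) ∧
    ∀ x, ((twoSet j).card : ℤ) * ∑ k, twoW j k * twoF k x =
      if x ∈ twoSet j then (1 : ℤ) * Fintype.card monTwo else 0 := by decide +kernel

theorem fourSet_spec : ∀ j, fourRep j ∈ fourSet j ∧
    (∀ g x, x ∈ fourSet j → g * x * g⁻¹ ∈ fourSet j) ∧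
    (∀ x ∈ fourSet j, ∃ g, g * fourRep j * g⁻¹ = x) ∧
    ∀ x, ((fourSet j).card : ℤ) * ∑ k, fourW j k * fourF k x =
      if x ∈ fourSet j then (1 : ℤ) * Fintype.card monFour else 0 := by decide +kernel

theorem kleinSet_spec : ∀ j, kleinRep j ∈ kleinSet j ∧
    (∀ g x, x ∈ kleinSet j → g * x * g⁻¹ ∈ kleinSet j) ∧
    (∀ x ∈ kleinSet j, ∃ g, g * kleinRep j * g⁻¹ = x) ∧
    ∀ x, ((kleinSet j).card : ℤ) * ∑ k, kleinW j k * kleinF k x =
      if x ∈ kleinSet j then (1 : ℤ) * Fintype.card monKlein else 0 := by decide +kernel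

theorem monSet_spec : ∀ j, monRep j ∈ monSet j ∧ (∀ g x, x ∈ monSet j → g * x * g⁻¹ ∈ monSet j) ∧
    (∀ x ∈ monSet j, ∃ g, g * monRep j * g⁻¹ = x) ∧
    ∀ x, ((monSet j).card : ℤ) * ∑ k, monW j k * monF k x =
      if x ∈ monSet j then (1 : ℤ) * Fintype.card Mon else 0 := by decide +kernel

/-- The family of `monTwo`. -/
def twoFamily : Family monTwo 4 6 4 where
  F := twoF
  coef k := ![1, if k = 0 then -1 else 0, if k = 1 then -1 else 0, if k = 2 then -1 else 0,
    if k = 3 then -1 else 0, 1]
  K i := ofPred (fun g => twoPred i g = true) (twoPred_closed i)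
  S i := (Finset.univ : Finset monTwo).filter fun g => twoPred i g = true
  hS i x := by simp [ofPred, ← SetLike.mem_coe]
  hgen := by
    intro k x
    simp only [permCount, Finset.mem_filter, Finset.mem_univ, true_and]
    revert k x
    decide +kernel
  hdvd := by decide +kernel
  hsupp := by decide +kernel
  gram j k := if j = k then 3 else 2
  hgram := by decide +kernel
  one _ := 1
  hone := by decide +kernel
  rep := twoRep
  W := twoW
  D := 1
  hD := one_ne_zero
  hW j := inversion_of_classes _ _ (twoSet j) _ _ (twoSet_spec j).1 (twoSet_spec j).2.1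
    (twoSet_spec j).2.2.1 (twoSet_spec j).2.2.2

/-- The family of `monFour`. -/
def fourFamily : Family monFour 2 4 2 where
  F := fourF
  coef := ![![1, -1, 0, 1], ![1, 0, -1, 1]]
  K i := ofPred (fun g => fourPred i g = true) (fourPred_closed i)
  S i := (Finset.univ : Finset monFour).filter fun g => fourPred i g = true
  hS i x := by simp [ofPred, ← SetLike.mem_coe]
  hgen := by
    intro k x
    simp only [permCount, Finset.mem_filter, Finset.mem_univ, true_and]
    revert k x
    decide +kernel
  hdvd := by decide +kernel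
  hsupp := by decide +kernel
  gram j k := if j = k then 5 else 4
  hgram := by decide +kernel
  one _ := 1
  hone := by decide +kernel
  rep := fourRep
  W := fourW
  D := 1
  hD := one_ne_zero
  hW j := inversion_of_classes _ _ (fourSet j) _ _ (fourSet_spec j).1 (fourSet_spec j).2.1
    (fourSet_spec j).2.2.1 (fourSet_spec j).2.2.2

/-- The family of `monKlein`. -/
def kleinFamily : Family monKlein 5 9 3 where
  F := kleinF
  coef := ![![1, -1, 1, 0, 0, 0, 0, 0, 0], ![0, 0, 1, 1, -1, 0, 0, 0, 0],
    ![-1, 1, -1, 1, 0, 1, -1, 0, 0], ![1, 0, -1, -1, 1, 1, 0, -1, 0],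
    ![-1, 1, -1, 0, 1, 0, 0, 1, -1]]
  K i := ofPred (fun g => kleinPred i g = true) (kleinPred_closed i)
  S i := (Finset.univ : Finset monKlein).filter fun g => kleinPred i g = true
  hS i x := by simp [ofPred, ← SetLike.mem_coe]
  hgen := by
    intro k x
    simp only [permCount, Finset.mem_filter, Finset.mem_univ, true_and]
    revert k x
    decide +kernel
  hdvd := by decide +kernel
  hsupp := by decide +kernel
  gram := ![![3, 1, 0, 1, 0], ![1, 3, 1, 0, -1], ![0, 1, 3, 1, 0], ![1, 0, 1, 3, -1],
    ![0, -1, 0, -1, 3]]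
  hgram := by decide +kernel
  one := ![1, 1, 0, 0, 0]
  hone := by decide +kernel
  rep := kleinRep
  W := kleinW
  D := 1
  hD := one_ne_zero
  hW j := inversion_of_classes _ _ (kleinSet j) _ _ (kleinSet_spec j).1 (kleinSet_spec j).2.1
    (kleinSet_spec j).2.2.1 (kleinSet_spec j).2.2.2

set_option maxHeartbeats 2000000 in
/-- The family of `Mon`. -/
def monFamily : Family Mon 4 9 2 where
  F := monF
  coef := ![![1, -1, 1, 0, 0, 0, 0, 0, 0], ![1, 1, -3, -1, 2, 0, 0, 0, 0],
    ![0, 0, 0, 0, 0, 1, -1, 1, 0], ![0, 0, 0, 0, 2, 1, 1, -3, -1]]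
  K i := ofPred (fun g => monPred i g = true) (monPred_closed i)
  S i := (Finset.univ : Finset Mon).filter fun g => monPred i g = true
  hS i x := by simp [ofPred, ← SetLike.mem_coe]
  hgen := by
    intro k x
    simp only [permCount, Finset.mem_filter, Finset.mem_univ, true_and]
    revert k x
    decide +kernel
  hdvd := by decide +kernel
  hsupp := by decide +kernel
  gram := ![![4, 1, 2, 2], ![1, 4, 2, 2], ![2, 2, 4, 1], ![2, 2, 1, 4]]
  hgram := by decide +kernel
  one := ![1, 0, 1, 0]
  hone := by decide +kernel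
  rep := monRep
  W := monW
  D := 1
  hD := one_ne_zero
  hW j := inversion_of_classes _ _ (monSet j) _ _ (monSet_spec j).1 (monSet_spec j).2.1
    (monSet_spec j).2.2.1 (monSet_spec j).2.2.2

end CfsgLib.TISylow
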