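import Cfsg.Agent.Lib.TISylow.Frames
import Cfsg.Agent.Lib.TISylow.Extract
import Cfsg.Agent.Lib.TISylow.Models

/-!
# Charts of the normaliser in the four models
-/

namespace CfsgLib.TISylow

variable {G : Type*} [Group G] {T : Subgroup G}

theorem Frame.exists_equiv [Finite G] (F : Frame T) (hC : Subgroup.centralizer (T : Set G) ≤ T)
    (p : Mon → Prop) (H : Subgroup Mon) (hp : ∀ g, g ∈ H ↔ p g)
    (hvec : ∀ g h : Mon, g.sw = h.sw → g.n1 = h.n1 → g.n2 = h.n2 → p g → p h)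
    (hcard : Nat.card (Subgroup.normalizer (T : Set G)) = Nat.card H)
    (hsub : ∀ n ∈ Subgroup.normalizer (T : Set G), ∃ g, p g ∧
      ∀ v, n * F.τ v * n⁻¹ = F.τ (g.lin v)) :
    ∃ e : Subgroup.normalizer (T : Set G) ≃* H,
      ∀ n : Subgroup.normalizer (T : Set G), (n : G) ∈ T ↔ ∃ v, ((e n : H) : Mon) = Mon.trans v := by
  obtain ⟨e, hinj, htr, hlin⟩ := F.exists_hom hC
  have hmem : ∀ n, e n ∈ H := by
    intro n
    obtain ⟨g, hg, hgv⟩ := hsub n n.2
    have hl : ∀ v, (⟨0, (e n).sw, (e n).n1, (e n).n2⟩ : Mon).lin v =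
        (⟨0, g.sw, g.n1, g.n2⟩ : Mon).lin v := fun v =>
      F.τ_inj ((hlin n v).symm.trans (hgv v))
    have := Mon.lin_inj ⟨0, (e n).sw, (e n).n1, (e n).n2⟩ ⟨0, g.sw, g.n1, g.n2⟩ rfl hl
    simp only [Mon.ext_iff, true_and] at this
    exact (hp _).2 (hvec g (e n) this.1.symm this.2.1.symm this.2.2.symm hg)
  haveI := Fintype.ofFinite (Subgroup.normalizer (T : Set G))
  haveI := Fintype.ofFinite H
  have hbij : Function.Bijective (e.codRestrict H hmem) :=
    (Fintype.bijective_iff_injective_and_card _).2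
      ⟨fun a b h => hinj (congrArg Subtype.val h),
        by rw [← Nat.card_eq_fintype_card, ← Nat.card_eq_fintype_card, hcard]⟩
  refine ⟨MulEquiv.ofBijective _ hbij, fun n => ⟨fun hn => ?_, fun ⟨v, hv⟩ => ?_⟩⟩
  · obtain ⟨v, hv⟩ := F.τ_surj _ hn
    refine ⟨v, ?_⟩
    show e n = _
    have e1 : n = ⟨F.τ v, Subgroup.le_normalizer (F.τ_mem v)⟩ := Subtype.ext hv.symm
    rw [e1]; exact htr v _
  · have hv' : e n = Mon.trans v := hv
    rw [hinj (hv'.trans (htr v (Subgroup.le_normalizer (F.τ_mem v))).symm)]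
    exact F.τ_mem v

variable [Finite G]

theorem Frame.exists_twoChart (F : Frame T) (hC : Subgroup.centralizer (T : Set G) ≤ T)
    (hcard : Nat.card (Subgroup.normalizer (T : Set G)) = 18)
    (hsub : ∀ n ∈ Subgroup.normalizer (T : Set G), ∃ g : Mon,
      (g.sw = false ∧ g.n1 = g.n2) ∧ ∀ v, n * F.τ v * n⁻¹ = F.τ (g.lin v)) :
    Nonempty (Chart T twoFamily) := by
  obtain ⟨e, he⟩ := F.exists_equiv hC (fun g => g.sw = false ∧ g.n1 = g.n2) monTwo
    (fun g => show g.isScalar = true ↔ _ by simp [Mon.isScalar])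
    (fun g h h1 h2 h3 hg => by rw [← h1, ← h2, ← h3]; exact hg)
    (by rw [hcard, Nat.card_eq_fintype_card]; decide +kernel) hsub
  exact ⟨⟨e, twoTr, rfl, fun v w h => congrArg Mon.vec (congrArg Subtype.val h),
    fun n => (he n).trans (exists_congr fun v => ⟨fun h => Subtype.ext h, fun h => congrArg Subtype.val h⟩),
    twoCls, fun v hv => isConj_iff.2 (show ∃ g, g * twoRep (twoCls v) * g⁻¹ = twoTr v from
      (twoSet_spec _).2.2.1 _ (Finset.mem_image_of_mem _
        (Finset.mem_filter.2 ⟨Finset.mem_univ _, hv, rfl⟩))),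
    fun j => ⟨_, (show ∀ j : Fin 4, (![(1, 0), (0, 1), (1, 1), (1, 2)] j : Vec) ≠ 0 by
      decide +kernel) j, rfl⟩⟩⟩

theorem Frame.exists_fourChart (F : Frame T) (hC : Subgroup.centralizer (T : Set G) ≤ T)
    (hcard : Nat.card (Subgroup.normalizer (T : Set G)) = 36)
    (hsub : ∀ n ∈ Subgroup.normalizer (T : Set G), ∃ g : Mon,
      xor g.n1 g.n2 = g.sw ∧ ∀ v, n * F.τ v * n⁻¹ = F.τ (g.lin v)) :
    ∃ C : Chart T fourFamily, C.cls = axisCls := by
  obtain ⟨e, he⟩ := F.exists_equiv hC (fun g => xor g.n1 g.n2 = g.sw) monFour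
    (fun g => Iff.rfl)
    (fun g h h1 h2 h3 hg => by rw [← h1, ← h2, ← h3]; exact hg)
    (by rw [hcard, Nat.card_eq_fintype_card]; decide +kernel) hsub
  exact ⟨⟨e, fourTr, rfl, fun v w h => congrArg Mon.vec (congrArg Subtype.val h),
    fun n => (he n).trans (exists_congr fun v => ⟨fun h => Subtype.ext h, fun h => congrArg Subtype.val h⟩),
    axisCls, fun v hv => isConj_iff.2 (show ∃ g, g * fourRep (axisCls v) * g⁻¹ = fourTr v from
      (fourSet_spec _).2.2.1 _ (Finset.mem_image_of_mem _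
        (Finset.mem_filter.2 ⟨Finset.mem_univ _, hv, rfl⟩))),
    fun j => ⟨_, (show ∀ j : Fin 2, (![(1, 0), (1, 1)] j : Vec) ≠ 0 by
      decide +kernel) j, rfl⟩⟩, rfl⟩

theorem Frame.exists_kleinChart (F : Frame T) (hC : Subgroup.centralizer (T : Set G) ≤ T)
    (hcard : Nat.card (Subgroup.normalizer (T : Set G)) = 36)
    (hsub : ∀ n ∈ Subgroup.normalizer (T : Set G), ∃ g : Mon,
      g.sw = false ∧ ∀ v, n * F.τ v * n⁻¹ = F.τ (g.lin v)) :
    Nonempty (Chart T kleinFamily) := by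
  obtain ⟨e, he⟩ := F.exists_equiv hC (fun g => g.sw = false) monKlein
    (fun g => Iff.rfl)
    (fun g h h1 h2 h3 hg => by rw [← h1]; exact hg)
    (by rw [hcard, Nat.card_eq_fintype_card]; decide +kernel) hsub
  exact ⟨⟨e, kleinTr, rfl, fun v w h => congrArg Mon.vec (congrArg Subtype.val h),
    fun n => (he n).trans (exists_congr fun v => ⟨fun h => Subtype.ext h, fun h => congrArg Subtype.val h⟩),
    kleinCls, fun v hv => isConj_iff.2 (show ∃ g, g * kleinRep (kleinCls v) * g⁻¹ = kleinTr v from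
      (kleinSet_spec _).2.2.1 _ (Finset.mem_image_of_mem _
        (Finset.mem_filter.2 ⟨Finset.mem_univ _, hv, rfl⟩))),
    fun j => ⟨_, (show ∀ j : Fin 3, (![(1, 0), (0, 1), (1, 1)] j : Vec) ≠ 0 by
      decide +kernel) j, rfl⟩⟩⟩

theorem Frame.exists_monChart (F : Frame T) (hC : Subgroup.centralizer (T : Set G) ≤ T)
    (hcard : Nat.card (Subgroup.normalizer (T : Set G)) = 72) :
    ∃ C : Chart T monFamily, C.cls = axisCls := by
  obtain ⟨e, he⟩ := F.exists_equiv hC (fun _ => True) ⊤ (fun g => by simp)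
    (fun _ _ _ _ _ h => h)
    (by rw [hcard, Subgroup.card_top, Nat.card_eq_fintype_card]; decide +kernel)
    (fun n hn => (F.mono n hn).imp fun g hg => ⟨trivial, hg⟩)
  exact ⟨⟨e.trans Subgroup.topEquiv, Mon.trans, rfl, fun v w h => congrArg Mon.vec h,
    fun n => he n,
    axisCls, fun v hv => isConj_iff.2 (show ∃ g, g * monRep (axisCls v) * g⁻¹ = Mon.trans v from
      (monSet_spec _).2.2.1 _ (Finset.mem_image_of_mem _
        (Finset.mem_filter.2 ⟨Finset.mem_univ _, hv, rfl⟩))),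
    fun j => ⟨_, (show ∀ j : Fin 2, (![(1, 0), (1, 1)] j : Vec) ≠ 0 by
      decide +kernel) j, rfl⟩⟩, rfl⟩

end CfsgLib.TISylow
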