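import Mathlib

/-!
# Decompositions of an integral Gram matrix as a sum of squares of integral columns

`leaves m R` lists, up to the sign of each column, all multisets of nonzero integral columns `c`
with `∑ cᵢ cⱼ = R i j`; `exists_mem_leaves` is the completeness statement used with the columns
`χ ↦ (⟨τₖ, χ⟩)ₖ` of an isometry.
-/

namespace CfsgLib.TISylow

/-- Integral columns of height `m`. -/
abbrev Col (m : ℕ) := Fin m → ℤ

/-- The integer square root, by linear search (kernel friendly). -/
def sqb (r : ℕ) : ℕ := (List.range (r + 1)).foldr (fun t a => if t * t ≤ r then max t a else a) 0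

theorem le_sqb {a r : ℕ} (h : a * a ≤ r) : a ≤ sqb r := by
  have key : ∀ l : List ℕ, a ∈ l →
      a ≤ l.foldr (fun t b => if t * t ≤ r then max t b else b) 0 := by
    intro l
    induction l with
    | nil => simp
    | cons t l ih =>
      intro ha
      simp only [List.foldr_cons]
      rcases List.mem_cons.1 ha with rfl | ha
      · rw [if_pos h]; exact le_max_left _ _
      · have := ih ha
        split_ifs <;> omega
  exact key _ (List.mem_range.2 (by nlinarith))

/-- All columns with `|c j| ≤ b j`. -/
def box : (m : ℕ) → (Fin m → ℕ) → List (Col m)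
  | 0, _ => [Fin.elim0]
  | m + 1, b => (List.range (2 * b 0 + 1)).flatMap fun t : ℕ =>
      (box m fun j => b j.succ).map fun c => Fin.cons ((t : ℤ) - b 0) c

theorem mem_box : ∀ {m : ℕ} {b : Fin m → ℕ} {c : Col m}, (∀ j, (c j).natAbs ≤ b j) → c ∈ box m b
  | 0, b, c, _ => by
      simp only [box, List.mem_singleton]
      exact funext fun j => j.elim0
  | m + 1, b, c, h => by
      simp only [box, List.mem_flatMap, List.mem_range, List.mem_map]
      have h0 := h 0
      refine ⟨((c 0) + (b 0 : ℤ)).toNat, by omega, fun j => c j.succ,
        mem_box fun j => h j.succ, ?_⟩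
      funext j
      refine Fin.cases ?_ (fun i => ?_) j
      · simp only [Fin.cons_zero]
        omega
      · simp

/-- The first nonzero entry is positive. -/
def posLead : (m : ℕ) → Col m → Bool
  | 0, _ => false
  | m + 1, c => decide (0 < c 0) || (decide (c 0 = 0) && posLead m fun j => c j.succ)

theorem posLead_or : ∀ {m : ℕ} {c : Col m}, c ≠ 0 → posLead m c = true ∨ posLead m (-c) = true
  | 0, c, h => absurd (funext fun j => j.elim0) h
  | m + 1, c, h => by
      rcases lt_trichotomy (c 0) 0 with h0 | h0 | h0
      · right; simp [posLead]; left; omega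
      · have hne : (fun j : Fin m => c j.succ) ≠ 0 := fun e => h (funext fun j =>
          Fin.cases h0 (fun i => congrFun e i) j)
        rcases posLead_or hne with h1 | h1
        · left; simp [posLead, h0, h1]
        · right
          have e : (fun j : Fin m => (-c) j.succ) = -(fun j : Fin m => c j.succ) := rfl
          simp only [posLead, e, h1]
          simp [h0]
      · left; simp [posLead, h0]

/-- The sign making the first nonzero entry positive. -/
def colSign {m : ℕ} (c : Col m) : ℤ := if posLead m c then 1 else -1

theorem colSign_sq {m : ℕ} (c : Col m) : colSign c * colSign c = 1 := by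
  unfold colSign; split_ifs <;> rfl

theorem posLead_norm {m : ℕ} {c : Col m} (h : c ≠ 0) :
    posLead m (fun j => colSign c * c j) = true := by
  unfold colSign
  split_ifs with hp
  · simpa using hp
  · rcases posLead_or h with h1 | h1
    · exact absurd h1 hp
    · simp only [neg_one_mul]; exact h1

/-- A linear preorder on columns. -/
def colKey {m : ℕ} (c : Col m) : ℤ := (List.ofFn c).foldl (fun a x => 17 * a + x) 0

/-- The first index with positive residual diagonal. -/
def pivot {m : ℕ} (R : Fin m → Fin m → ℤ) : Option (Fin m) :=
  (List.finRange m).find? fun k => decide (0 < R k k)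

/-- All sign-normalised columns inside the diagonal bounds of `R`. -/
def candidates {m : ℕ} (R : Fin m → Fin m → ℤ) : List (Col m) :=
  (box m fun j => sqb (R j j).toNat).filter fun c => posLead m c

/-- Admissible next columns among `cs`: inside the diagonal bounds, meeting the pivot, and not
above the previous column chosen at the same pivot. -/
def nextCols {m : ℕ} (cs : List (Col m)) (R : Fin m → Fin m → ℤ) (bd : Option (Fin m × ℤ))
    (k : Fin m) : List (Col m) :=
  cs.filter fun c =>
    decide (c k ≠ 0) &&
      (match bd with
      | none => true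
      | some (k', t) => decide (k' ≠ k) || decide (colKey c ≤ t)) &&
      ((List.finRange m).all (fun j => decide (c j * c j ≤ R j j))) &&
      ((List.finRange m).all fun i => (List.finRange m).all fun j => decide
        ((R i j - c i * c j) * (R i j - c i * c j) ≤ (R i i - c i * c i) * (R j j - c j * c j)))

/-- The empty decomposition, valid for the zero residual only. -/
def stop {m : ℕ} (R : Fin m → Fin m → ℤ) : List (List (Col m)) :=
  if (List.finRange m).all (fun i => (List.finRange m).all fun j => decide (R i j = 0)) then [[]]
  else []

theorem nil_mem_stop {m : ℕ} {ι : Type*} {col : ι → Col m} {R : Fin m → Fin m → ℤ}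
    (hR : ∀ i j, ∑ x ∈ (∅ : Finset ι), col x i * col x j = R i j) : [] ∈ stop R := by
  unfold stop
  rw [if_pos]
  · exact List.mem_singleton.2 rfl
  · simp only [List.all_eq_true, decide_eq_true_eq]
    exact fun i _ j _ => by simpa using (hR i j).symm

/-- All decompositions of the residual `R` with columns among `cs`. -/
def leavesAux {m : ℕ} (cs : List (Col m)) :
    ℕ → (Fin m → Fin m → ℤ) → Option (Fin m × ℤ) → List (List (Col m))
  | 0, R, _ => stop R
  | n + 1, R, bd =>
    match pivot R with
    | none => stop R
    | some k => (nextCols cs R bd k).flatMap fun c =>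
        (leavesAux cs n (fun i j => R i j - c i * c j) (some (k, colKey c))).map (c :: ·)

theorem exists_mem_leavesAux {m : ℕ} {ι : Type*} [DecidableEq ι] (cs : List (Col m))
    (col : ι → Col m) :
    ∀ (n : ℕ) (s : Finset ι) (R : Fin m → Fin m → ℤ) (bd : Option (Fin m × ℤ)), s.card ≤ n →
      (∀ x ∈ s, col x ≠ 0) → (∀ x ∈ s, (fun j => colSign (col x) * col x j) ∈ cs) → (∀ i j, ∑ x ∈ s, col x i * col x j = R i j) →
      (∀ k t, bd = some (k, t) → ∀ x ∈ s, col x k ≠ 0 →
        colKey (fun j => colSign (col x) * col x j) ≤ t) →
      ∃ l : List ι, l.Nodup ∧ l.toFinset = s ∧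
        l.map (fun x j => colSign (col x) * col x j) ∈ leavesAux cs n R bd := by
  intro n
  induction n with
  | zero =>
    intro s R bd hn _ _ hR _
    obtain rfl := Finset.card_eq_zero.1 (Nat.le_zero.1 hn)
    exact ⟨[], List.nodup_nil, by simp, by simpa [leavesAux] using nil_mem_stop hR⟩
  | succ n ih =>
    intro s R bd hn hne hcs hR hbd
    have hdiag : ∀ x ∈ s, ∀ j, col x j * col x j ≤ R j j := fun x hx j => by
      rw [← hR]
      exact Finset.single_le_sum (f := fun x => col x j * col x j)
        (fun y _ => mul_self_nonneg _) hx
    cases hp : pivot R with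
    | none =>
      have hs : s = ∅ := Finset.eq_empty_of_forall_notMem fun x hx => hne x hx (funext fun j => by
        have h1 := List.find?_eq_none.1 hp j (List.mem_finRange j)
        simp only [decide_eq_true_eq, not_lt] at h1
        have h2 := hdiag x hx j
        exact mul_self_eq_zero.1 (le_antisymm (h2.trans h1) (mul_self_nonneg _)))
      subst hs
      refine ⟨[], List.nodup_nil, by simp, ?_⟩
      simpa [leavesAux, hp] using nil_mem_stop hR
    | some k =>
      have hk : 0 < R k k := by simpa using List.find?_some hp
      let nc : ι → Col m := fun x j => colSign (col x) * col x j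
      obtain ⟨x, hx, hmax⟩ := Finset.exists_max_image (s.filter fun x => col x k ≠ 0)
        (fun x => colKey (nc x)) (by
          by_contra hcon
          rw [Finset.not_nonempty_iff_eq_empty, Finset.filter_eq_empty_iff] at hcon
          rw [← hR, Finset.sum_eq_zero] at hk
          · exact lt_irrefl _ hk
          · intro y hy
            have := hcon hy
            simp only [not_not] at this
            simp [this])
      rw [Finset.mem_filter] at hx
      have hR' : ∀ i j, ∑ y ∈ s.erase x, col y i * col y j = R i j - nc x i * nc x j := by
        intro i j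
        have h1 := Finset.add_sum_erase s (fun y => col y i * col y j) hx.1
        rw [hR] at h1
        have h2 : nc x i * nc x j = col x i * col x j := by
          simp only [nc]
          linear_combination (col x i * col x j) * colSign_sq (col x)
        rw [h2]
        linarith
      obtain ⟨l, hl1, hl2, hl3⟩ := ih (s.erase x) _ (some (k, colKey (nc x)))
        (by rw [Finset.card_erase_of_mem hx.1]; omega)
        (fun y hy => hne y (Finset.mem_of_mem_erase hy))
        (fun y hy => hcs y (Finset.mem_of_mem_erase hy)) hR'
        (fun k' t he y hy hyk => by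
          obtain ⟨rfl, rfl⟩ := Prod.mk.inj (Option.some.inj he)
          exact hmax y (Finset.mem_filter.2 ⟨Finset.mem_of_mem_erase hy, hyk⟩))
      refine ⟨x :: l, List.nodup_cons.2 ⟨fun hxl => ?_, hl1⟩, ?_, ?_⟩
      · have := List.mem_toFinset.2 hxl
        rw [hl2] at this
        exact Finset.ne_of_mem_erase this rfl
      · rw [List.toFinset_cons, hl2, Finset.insert_erase hx.1]
      · simp only [leavesAux, hp, List.map_cons, List.mem_flatMap, List.mem_map]
        refine ⟨nc x, ?_, _, hl3, rfl⟩
        simp only [nextCols, List.mem_filter, Bool.and_eq_true, decide_eq_true_eq, List.all_eq_true]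
        refine ⟨hcs x hx.1, ⟨⟨?_, ?_⟩, fun j _ => ?_⟩, fun i _ j _ => ?_⟩
        · exact mul_ne_zero (by unfold colSign; split_ifs <;> decide) hx.2
        · match bd, hbd with
          | none, _ => rfl
          | some (k', t), hbd =>
            simp only [Bool.or_eq_true, decide_eq_true_eq]
            by_cases hkk : k' = k
            · exact Or.inr (hbd k' t rfl x hx.1 (hkk ▸ hx.2))
            · exact Or.inl hkk
        · calc nc x j * nc x j = col x j * col x j := by
                simp only [nc]
                linear_combination (col x j * col x j) * colSign_sq (col x)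
            _ ≤ R j j := hdiag x hx.1 j
        · rw [← hR' i j, ← hR' i i, ← hR' j j]
          have := Finset.sum_mul_sq_le_sq_mul_sq (s.erase x) (fun y => col y i) fun y => col y j
          simpa [pow_two] using this

/-- All decompositions of `R`. -/
def leaves {m : ℕ} (R : Fin m → Fin m → ℤ) : List (List (Col m)) :=
  leavesAux (candidates R) (∑ j, (R j j).toNat) R none

theorem exists_mem_leaves {m : ℕ} {ι : Type*} [DecidableEq ι] (col : ι → Col m) (s : Finset ι)
    (R : Fin m → Fin m → ℤ) (hne : ∀ x ∈ s, col x ≠ 0)
    (hR : ∀ i j, ∑ x ∈ s, col x i * col x j = R i j) :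
    ∃ l : List ι, l.Nodup ∧ l.toFinset = s ∧
      l.map (fun x j => colSign (col x) * col x j) ∈ leaves R := by
  refine exists_mem_leavesAux (candidates R) col _ s R none ?_ hne (fun x hx => ?_) hR
    (fun k t h => by cases h)
  rotate_left
  · simp only [candidates, List.mem_filter]
    refine ⟨mem_box fun j => le_sqb ?_, posLead_norm (hne x hx)⟩
    have h2 : col x j * col x j ≤ R j j := by
      rw [← hR]
      exact Finset.single_le_sum (f := fun x => col x j * col x j)
        (fun y _ => mul_self_nonneg _) hx
    have h3 : (colSign (col x) * col x j).natAbs * (colSign (col x) * col x j).natAbs =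
        (col x j * col x j).natAbs := by
      simp only [Int.natAbs_mul, colSign]
      split_ifs <;> simp
    rw [h3]
    have := mul_self_nonneg (col x j)
    omega
  have h1 : ∀ j, (R j j).toNat = ∑ x ∈ s, (col x j * col x j).toNat := by
    intro j
    rw [← hR]
    zify
    rw [Int.toNat_of_nonneg (Finset.sum_nonneg fun x _ => mul_self_nonneg _)]
    exact Finset.sum_congr rfl fun x _ => (Int.toNat_of_nonneg (mul_self_nonneg _)).symm
  rw [Finset.sum_congr rfl fun j _ => h1 j, Finset.sum_comm, Finset.card_eq_sum_ones]
  refine Finset.sum_le_sum fun x hx => ?_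
  obtain ⟨j, hj⟩ := Function.ne_iff.1 (hne x hx)
  refine le_trans ?_ (Finset.single_le_sum (f := fun j => (col x j * col x j).toNat)
    (fun i _ => Nat.zero_le _) (Finset.mem_univ j))
  have := mul_self_pos.2 (show col x j ≠ 0 from hj)
  omega

end CfsgLib.TISylow
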