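import Cfsg.Agent.Lib.TISylow.Setting
import Cfsg.Agent.Lib.Char.Induce
import Cfsg.Agent.Lib.TISylow.GramSearch
import Cfsg.Agent.Lib.BlockA.Galois

/-!
# The isometry: columns, values and structure constants
-/

namespace CfsgLib.TISylow

open scoped ComplexConjugate

variable {M : Type*} [Group M]

/-- `#{y : y⁻¹ x y ∈ K}`, the numerator of the permutation character on the cosets of `K`. -/
def permCount [Fintype M] [DecidableEq M] (K : Finset M) (x : M) : ℕ :=
  ((Finset.univ : Finset M).filter fun y => y⁻¹ * x * y ∈ K).card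

theorem indFun_one_equiv {N : Type*} [Group N] [Fintype N] [Fintype M] (e : N ≃* M)
    (K : Subgroup M) (n : N) :
    Cfsg.indFun (K.comap e.toMonoidHom) (fun _ => (1 : ℂ)) n =
      Cfsg.indFun K (fun _ => (1 : ℂ)) (e n) := by
  have hcard : Nat.card (K.comap e.toMonoidHom) = Nat.card K := by
    refine Nat.card_congr (Equiv.subtypeEquiv e.toEquiv fun a => ?_)
    simp [Subgroup.mem_comap]
  rw [CfsgLib.Char.indFun_def, CfsgLib.Char.indFun_def, hcard]
  congr 1
  refine Fintype.sum_equiv e.toEquiv _ _ fun y => ?_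
  simp only [MulEquiv.toEquiv_eq_coe, MulEquiv.coe_toEquiv]
  rw [← map_inv, ← map_mul, ← map_mul]
  by_cases h : y⁻¹ * n * y ∈ K.comap e.toMonoidHom
  · have h' : e (y⁻¹ * n * y) ∈ K := h
    rw [CfsgLib.Char.extendByZero_of_mem _ h, CfsgLib.Char.extendByZero_of_mem _ h']
  · have h' : e (y⁻¹ * n * y) ∉ K := h
    rw [CfsgLib.Char.extendByZero_of_not_mem _ h, CfsgLib.Char.extendByZero_of_not_mem _ h']

theorem indFun_one_eq_count [Fintype M] [DecidableEq M] (K : Subgroup M) (S : Finset M)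
    (hS : ∀ x, x ∈ S ↔ x ∈ K) (x : M) :
    Cfsg.indFun K (fun _ => (1 : ℂ)) x = (S.card : ℂ)⁻¹ * (permCount S x : ℂ) := by
  classical
  have hcard : Nat.card K = S.card := by
    rw [Nat.card_eq_fintype_card]
    exact Fintype.card_of_subtype S hS
  have hterm : ∀ y : M, Cfsg.extendByZero K (fun _ => (1 : ℂ)) (y⁻¹ * x * y) =
      if y⁻¹ * x * y ∈ S then 1 else 0 := fun y => by
    split_ifs with h
    · exact CfsgLib.Char.extendByZero_of_mem _ ((hS _).1 h)
    · exact CfsgLib.Char.extendByZero_of_not_mem _ fun h' => h ((hS _).2 h')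
  rw [CfsgLib.Char.indFun_def, hcard, Finset.sum_congr rfl fun y _ => hterm y, Finset.sum_boole]
  rfl

theorem permCount_pow [Fintype M] [DecidableEq M] {K : Subgroup M} {S : Finset M}
    (hS : ∀ x, x ∈ S ↔ x ∈ K) {n : ℕ} (hn : n.Coprime (Nat.card M)) (x : M) :
    permCount S (x ^ n) = permCount S x := by
  refine congrArg Finset.card (Finset.filter_congr fun y _ => ?_)
  rw [hS, hS, show y⁻¹ * x ^ n * y = (y⁻¹ * x * y) ^ n by
    have := conj_pow (a := y⁻¹) (b := x) (i := n)
    rw [inv_inv] at this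
    exact this.symm]
  exact CfsgLib.BlockA.pow_mem_iff_of_coprime hn K _

variable (M) in
/-- A family of generalized characters of `M`, integer combinations of permutation characters,
supported on the elements `x` with `x ^ 4 ≠ 1`, with the data read off from them. -/
structure Family [Fintype M] [DecidableEq M] (m r q : ℕ) where
  F : Fin m → M → ℤ
  coef : Fin m → Fin r → ℤ
  K : Fin r → Subgroup M
  S : Fin r → Finset M
  hS : ∀ i x, x ∈ S i ↔ x ∈ K i
  hgen : ∀ k x, (Fintype.card M : ℤ) * F k x =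
    ∑ i, coef k i * ((Fintype.card M / (S i).card : ℕ) : ℤ) * (permCount (S i) x : ℤ)
  hdvd : ∀ i, (S i).card ∣ Fintype.card M
  hsupp : ∀ k x, x ^ 4 = 1 → F k x = 0
  gram : Fin m → Fin m → ℤ
  hgram : ∀ j k, ∑ x, F j x * F k x = (Fintype.card M : ℤ) * gram j k
  one : Fin m → ℤ
  hone : ∀ k, ∑ x, F k x = (Fintype.card M : ℤ) * one k
  rep : Fin q → M
  W : Fin q → Fin m → ℤ
  D : ℤ
  hD : D ≠ 0
  hW : ∀ j x, (((Finset.univ : Finset M).filter fun y => ∃ g, g * rep j * g⁻¹ = y).card : ℤ) *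
      ∑ k, W j k * F k x = if (∃ g, g * rep j * g⁻¹ = x) then D * Fintype.card M else 0

theorem Family.F_pow [Fintype M] [DecidableEq M] {m r q : ℕ} (P : Family M m r q) {n : ℕ}
    (hn : n.Coprime (Nat.card M)) (k : Fin m) (x : M) : P.F k (x ^ n) = P.F k x := by
  refine mul_left_cancel₀ (Nat.cast_ne_zero.2 (Fintype.card_ne_zero (α := M))) ?_
  rw [P.hgen, P.hgen]
  exact Finset.sum_congr rfl fun i _ => by rw [permCount_pow (P.hS i) hn]

variable {G : Type*} [Group G] {T : Subgroup G}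

/-- Elements of `N(T)` outside the kernel of the support condition are controlled by `N(T)`. -/
theorem Hyp.mem_of_conj (h : Hyp T) {a : G} (ha : a ∈ Subgroup.normalizer (T : Set G))
    (ha12 : a ^ 12 = 1) (ha4 : a ^ 4 ≠ 1) {g : G}
    (hg : g * a * g⁻¹ ∈ Subgroup.normalizer (T : Set G)) :
    g ∈ Subgroup.normalizer (T : Set G) := by
  have h1 : a ^ 4 ∈ T := h.mem_of_mem _ (Subgroup.pow_mem _ ha 4) (by rw [← pow_mul]; exact ha12)
  refine h.mem_normalizer h1 ha4 (h.mem_of_mem _ ?_ ?_)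
  · rw [← conj_pow]; exact Subgroup.pow_mem _ hg 4
  · rw [conj_pow, ← pow_mul, ha12, mul_one, mul_inv_cancel]

/-- The output of the isometry: integer columns for all irreducible characters. -/
structure Columns (G : Type*) [Group G] [Fintype G] [Fintype (Cfsg.IrrCharacter G)]
    [Fintype M] [DecidableEq M] {m r q : ℕ} (P : Family M m r q) (rep : Fin q → G) where
  c : Cfsg.IrrCharacter G → Col m
  d : Cfsg.IrrCharacter G → ℕ
  d_pos : ∀ χ, 0 < d χ
  d_eq : ∀ χ : Cfsg.IrrCharacter G, (χ : G → ℂ) 1 = d χ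
  c_gram : ∀ j k, ∑ χ, c χ j * c χ k = P.gram j k
  c_one : ∀ χ : Cfsg.IrrCharacter G, (χ : G → ℂ) = (fun _ => (1 : ℂ)) → c χ = P.one
  vanish : ∀ g : G, g ^ 4 = 1 → ∀ k, ∑ χ : Cfsg.IrrCharacter G, (c χ k : ℂ) * (χ : G → ℂ) g = 0
  galois : ∀ n : ℕ, n.Coprime (Nat.card G) → ∀ g : G, ∀ k,
    ∑ χ : Cfsg.IrrCharacter G, (c χ k : ℂ) * (χ : G → ℂ) (g ^ n) =
      ∑ χ : Cfsg.IrrCharacter G, (c χ k : ℂ) * (χ : G → ℂ) g
  value : ∀ j, ∀ χ : Cfsg.IrrCharacter G, (P.D : ℂ) * (χ : G → ℂ) (rep j) = ((∑ k, P.W j k * c χ k : ℤ) : ℂ)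

variable [Fintype G] [Fintype M] [DecidableEq M] {m r q : ℕ}

theorem Hyp.exists_columns [Fintype (Cfsg.IrrCharacter G)] (h : Hyp T) (P : Family M m r q)
    {N : Subgroup G} (hN : N = Subgroup.normalizer (T : Set G)) (e : N ≃* M)
    (hM : ∀ x : M, x ^ 12 = 1) :
    Nonempty (Columns G P fun j => ((e.symm (P.rep j) : N) : G)) := by
  classical
  haveI : Fintype N := Fintype.ofEquiv M e.symm.toEquiv
  have hcardN : Nat.card N = Fintype.card M := by
    rw [Nat.card_congr e.toEquiv, Nat.card_eq_fintype_card]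
  have hM0 : (Fintype.card M : ℂ) ≠ 0 := by exact_mod_cast Fintype.card_ne_zero
  let f : Fin m → N → ℂ := fun k n => (P.F k (e n) : ℂ)
  have hfgen : ∀ k, Cfsg.IsGeneralizedCharacter N (f k) := by
    intro k
    have heq : f k = ∑ i, (P.coef k i : ℂ) •
        Cfsg.indFun ((P.K i).comap e.toMonoidHom) (fun _ => (1 : ℂ)) := by
      funext n
      simp only [Finset.sum_apply, Pi.smul_apply, smul_eq_mul, indFun_one_equiv,
        indFun_one_eq_count _ (P.S _) (P.hS _), f]
      refine mul_left_cancel₀ hM0 ?_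
      rw [Finset.mul_sum]
      have h1 := congrArg (fun z : ℤ => (z : ℂ)) (P.hgen k (e n))
      simp only [Int.cast_mul, Int.cast_natCast, Int.cast_sum] at h1
      rw [h1]
      refine Finset.sum_congr rfl fun i _ => ?_
      have hne : ((P.S i).card : ℂ) ≠ 0 := by
        exact_mod_cast (Finset.card_pos.2 ⟨1, (P.hS i 1).2 (one_mem _)⟩).ne'
      rw [Nat.cast_div (P.hdvd i) hne]
      field_simp
    rw [heq]
    refine CfsgLib.Char.isGeneralized_sum _ fun i _ => CfsgLib.Char.isGeneralized_zsmul ?_ _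
    exact CfsgLib.Char.isGeneralized_of_isCharacter
      (CfsgLib.Char.isCharacter_indFun _ CfsgLib.Char.isCharacter_one)
  have hfcl : ∀ k, Cfsg.IsClassFunction N (f k) := fun k =>
    CfsgLib.Char.isGeneralized_isClassFunction (hfgen k)
  have hsupp : ∀ k (n : N), n ^ 4 = 1 → f k n = 0 := fun k n hn => by
    simp only [f]
    rw [P.hsupp k (e n) (by rw [← map_pow, hn, map_one]), Int.cast_zero]
  have hn12 : ∀ n : N, n ^ 12 = 1 := fun n => e.injective (by rw [map_pow, hM, map_one])
  have hN0 : (Nat.card N : ℂ) ≠ 0 := by rw [hcardN]; exact hM0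
  have hUval : ∀ k (n : N), n ^ 4 ≠ 1 → Cfsg.indFun N (f k) (n : G) = f k n := by
    intro k n hn
    have hterm : ∀ x : G, Cfsg.extendByZero N (f k) (x⁻¹ * (n : G) * x) =
        if x ∈ N then f k n else 0 := by
      intro x
      split_ifs with hx
      · rw [show x⁻¹ * (n : G) * x = ((⟨x, hx⟩⁻¹ * n * ⟨x, hx⟩ : N) : G) from rfl,
          CfsgLib.Char.extendByZero_coe]
        have h1 := hfcl k n (⟨x, hx⟩ : N)⁻¹
        rw [inv_inv] at h1
        exact h1
      · refine CfsgLib.Char.extendByZero_of_not_mem _ fun hm => hx ?_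
        have h4 : (n : G) ^ 4 ≠ 1 := fun h4 => hn (Subtype.ext h4)
        have h12 : (n : G) ^ 12 = 1 := congrArg Subtype.val (hn12 n)
        have := h.mem_of_conj (g := x⁻¹) (hN ▸ n.2) h12 h4 (by rw [inv_inv]; exact hN ▸ hm)
        rw [← hN] at this
        simpa using N.inv_mem this
    rw [CfsgLib.Char.indFun_def, Finset.sum_congr rfl fun x _ => hterm x, ← Finset.sum_filter,
      Finset.sum_const, nsmul_eq_mul, ← Fintype.card_subtype, ← Nat.card_eq_fintype_card,
      inv_mul_cancel_left₀ hN0]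
  let U : Fin m → G → ℂ := fun k => Cfsg.indFun N (f k)
  have hUgen : ∀ k, Cfsg.IsGeneralizedCharacter G (U k) := fun k =>
    CfsgLib.Char.isGeneralized_indFun _ (hfgen k)
  have hUzero : ∀ k (g : G), g ^ 4 = 1 → U k g = 0 := by
    intro k g hg
    refine mul_eq_zero_of_right _ (Finset.sum_eq_zero fun x _ => ?_)
    by_cases hm : x⁻¹ * g * x ∈ N
    · rw [CfsgLib.Char.extendByZero_of_mem _ hm]
      refine hsupp k _ (Subtype.ext ?_)
      show (x⁻¹ * g * x) ^ 4 = 1
      rw [show (x⁻¹ * g * x) ^ 4 = x⁻¹ * g ^ 4 * x by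
        have := conj_pow (a := x⁻¹) (b := g) (i := 4)
        rwa [inv_inv] at this, hg, mul_one, inv_mul_cancel]
    · exact CfsgLib.Char.extendByZero_of_not_mem _ hm
  have hUUint : ∀ j k, Cfsg.classInner (U j) (U k) = ((P.gram j k : ℤ) : ℂ) := by
    intro j k
    rw [CfsgLib.Char.frobenius_reciprocity N (f j) (U k) (CfsgLib.Char.indFun_isClassFunction _ _),
      CfsgLib.Char.classInner_def]
    have h1 : ∀ n : N, f j n * conj (U k (n : G)) = ((P.F j (e n) * P.F k (e n) : ℤ) : ℂ) := by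
      intro n
      by_cases hn : n ^ 4 = 1
      · simp [f, P.hsupp j (e n) (by rw [← map_pow, hn, map_one])]
      · simp only [U]
        rw [hUval k n hn]
        simp [f]
    rw [Finset.sum_congr rfl fun n _ => h1 n, ← Int.cast_sum,
      Fintype.sum_equiv e.toEquiv (fun n => P.F j (e n) * P.F k (e n)) (fun x => P.F j x * P.F k x)
        (fun n => rfl), P.hgram, hcardN]
    push_cast
    field_simp
  have hint : ∀ k (χ : Cfsg.IrrCharacter G), ∃ z : ℤ, Cfsg.classInner (U k) (χ : G → ℂ) = z :=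
    fun k χ => CfsgLib.Char.classInner_isGeneralized_int (hUgen k)
      (CfsgLib.Char.isGeneralized_of_isCharacter (CfsgLib.Char.irr_isCharacter χ.2))
  choose c hc using hint
  choose d hdpos hd using fun χ : Cfsg.IrrCharacter G => CfsgLib.Char.irr_apply_one_pos χ.2
  refine ⟨⟨fun χ k => c k χ, d, hdpos, hd, fun j k => ?_, fun χ hχ => ?_, fun g hg k => ?_,
    fun n hn g k => ?_, fun j χ => ?_⟩⟩
  · have h1 := CfsgLib.Char.classInner_eq_sum_mul
      (CfsgLib.Char.isGeneralized_isClassFunction (hUgen j)) (U k)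
    simp only [hc, map_intCast, hUUint] at h1
    exact_mod_cast h1.symm
  · funext k
    have h1 := hc k χ
    rw [hχ, show (fun _ => (1 : ℂ)) = fun _ : G => (1 : ℂ) from rfl] at h1
    simp only [U] at h1
    rw [CfsgLib.Char.frobenius_reciprocity N (f k) _ (fun g x => rfl),
      CfsgLib.Char.classInner_def] at h1
    simp only [map_one, mul_one, f] at h1
    rw [← Int.cast_sum, Fintype.sum_equiv e.toEquiv (fun n => P.F k (e n)) (P.F k) (fun n => rfl),
      P.hone, hcardN] at h1
    push_cast at h1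
    field_simp at h1
    exact_mod_cast h1.symm
  · have h1 := CfsgLib.Char.classFunction_apply_eq_sum
      (CfsgLib.Char.isGeneralized_isClassFunction (hUgen k)) g
    rw [hUzero k g hg] at h1
    simp only [hc] at h1
    exact h1.symm
  · have hexp : ∀ g', U k g' = ∑ χ : Cfsg.IrrCharacter G, (c k χ : ℂ) * (χ : G → ℂ) g' := fun g' => by
      rw [CfsgLib.Char.classFunction_apply_eq_sum
        (CfsgLib.Char.isGeneralized_isClassFunction (hUgen k)) g']
      simp only [hc]
    rw [← hexp, ← hexp]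
    have hnM : n.Coprime (Nat.card M) := by
      rw [Nat.card_eq_fintype_card, ← hcardN]
      exact hn.coprime_dvd_right (Subgroup.card_subgroup_dvd_card N)
    simp only [U, CfsgLib.Char.indFun_def]
    refine congrArg _ (Finset.sum_congr rfl fun x _ => ?_)
    rw [show x⁻¹ * g ^ n * x = (x⁻¹ * g * x) ^ n by
      have := conj_pow (a := x⁻¹) (b := g) (i := n)
      rw [inv_inv] at this
      exact this.symm]
    by_cases hm : x⁻¹ * g * x ∈ N
    · rw [CfsgLib.Char.extendByZero_of_mem _ hm,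
        CfsgLib.Char.extendByZero_of_mem _ (N.pow_mem hm n)]
      simp only [f]
      rw [show (⟨(x⁻¹ * g * x) ^ n, N.pow_mem hm n⟩ : N) = ⟨_, hm⟩ ^ n from rfl, map_pow,
        P.F_pow hnM]
    · rw [CfsgLib.Char.extendByZero_of_not_mem _ hm, CfsgLib.Char.extendByZero_of_not_mem _
        fun h' => hm ((CfsgLib.BlockA.pow_mem_iff_of_coprime hn N _).1 h')]
  · have hcl := CfsgLib.Char.irr_isClassFunction χ.2
    set a : N := e.symm (P.rep j) with ha
    have key : ∀ n : N, ((((Finset.univ : Finset M).filter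
        fun y => ∃ g, g * P.rep j * g⁻¹ = y).card : ℂ)) *
          ((∑ k, (P.W j k : ℂ) * f k n) * conj ((χ : G → ℂ) (n : G))) =
        if (∃ g, g * P.rep j * g⁻¹ = e n) then
          (P.D : ℂ) * (Fintype.card M : ℂ) * conj ((χ : G → ℂ) (a : G)) else 0 := by
      intro n
      have h1 := congrArg (fun z : ℤ => (z : ℂ)) (P.hW j (e n))
      simp only [Int.cast_mul, Int.cast_natCast, Int.cast_sum, apply_ite (fun z : ℤ => (z : ℂ)),
        Int.cast_zero] at h1
      rw [← mul_assoc]
      show _ * (∑ k, (P.W j k : ℂ) * (P.F k (e n) : ℂ)) * _ = _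
      rw [h1]
      split_ifs with hcj
      · obtain ⟨g, hg⟩ := hcj
        have hn : n = e.symm g * a * (e.symm g)⁻¹ := e.injective (by simp [ha, hg])
        rw [hn]
        simp only [Subgroup.coe_mul, Subgroup.coe_inv]
        rw [hcl (a : G) (e.symm g : G)]
      · rw [zero_mul]
    have hcnt : 0 < ((Finset.univ : Finset M).filter fun y => ∃ g, g * P.rep j * g⁻¹ = y).card :=
      Finset.card_pos.2 ⟨P.rep j, Finset.mem_filter.2 ⟨Finset.mem_univ _, 1, by simp⟩⟩
    have hsum := Finset.sum_congr rfl fun n (_ : n ∈ (Finset.univ : Finset N)) => key n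
    rw [← Finset.mul_sum, ← Finset.sum_filter, Finset.sum_const, nsmul_eq_mul] at hsum
    rw [Finset.card_equiv e.toEquiv (t := (Finset.univ : Finset M).filter
      fun y => ∃ g, g * P.rep j * g⁻¹ = y) (fun n => by simp)] at hsum
    have hcnt' : (((Finset.univ : Finset M).filter
        fun y => ∃ g, g * P.rep j * g⁻¹ = y).card : ℂ) ≠ 0 := by exact_mod_cast hcnt.ne'
    have hsum' := mul_left_cancel₀ hcnt' hsum
    have hlin : ∀ k, (c k χ : ℂ) = (Fintype.card M : ℂ)⁻¹ *
        ∑ n : N, f k n * conj ((χ : G → ℂ) (n : G)) := fun k => by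
      rw [← hc k χ]
      simp only [U]
      rw [CfsgLib.Char.frobenius_reciprocity N (f k) _ hcl, CfsgLib.Char.classInner_def, hcardN]
    have hfin : (((∑ k, P.W j k * c k χ : ℤ)) : ℂ) = (P.D : ℂ) * conj ((χ : G → ℂ) (a : G)) := by
      push_cast
      simp only [hlin]
      calc _ = (Fintype.card M : ℂ)⁻¹ *
            ∑ n : N, (∑ k, (P.W j k : ℂ) * f k n) * conj ((χ : G → ℂ) (n : G)) := by
            simp only [Finset.mul_sum, Finset.sum_mul]
            rw [Finset.sum_comm]
            exact Finset.sum_congr rfl fun _ _ => Finset.sum_congr rfl fun _ _ => by ring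
        _ = _ := by rw [hsum']; field_simp
    have h2 := congrArg (starRingEnd ℂ) hfin
    rw [map_intCast, map_mul, map_intCast, Complex.conj_conj] at h2
    exact h2.symm

/-- The structure-constant equation in the columns. -/
theorem Columns.triple [Fintype (Cfsg.IrrCharacter G)] (h : Hyp T) {P : Family M m r q}
    (e : Subgroup.normalizer (T : Set G) ≃* M)
    (C : Columns G P fun j => ((e.symm (P.rep j) : Subgroup.normalizer (T : Set G)) : G))
    (i j l : Fin q) (hT : ∀ s : Fin q, ((e.symm (P.rep s) : _) : G) ∈ T)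
    (h1 : ∀ s : Fin q, P.rep s ≠ 1) (hij : ¬ IsConj (P.rep i) (P.rep j)) :
    (Nat.card G : ℚ) * ∑ χ, ((∑ k, P.W i k * C.c χ k : ℤ) : ℚ) * (∑ k, P.W j k * C.c χ k : ℤ) *
        (∑ k, P.W l k * C.c χ k : ℤ) / C.d χ =
      (P.D : ℚ) ^ 3 * (pairCount M (P.rep i) (P.rep j) (P.rep l) : ℚ) := by
  classical
  haveI : Fintype (Subgroup.normalizer (T : Set G)) := Fintype.ofEquiv M e.symm.toEquiv
  have hne : ∀ s, e.symm (P.rep s) ≠ 1 := fun s hs => h1 s (by simpa using congrArg e hs)
  have hloc := h.pairCount_local rfl (e.symm (P.rep i)) (e.symm (P.rep j)) (e.symm (P.rep l))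
    (hT i) (hne i) (hT j) (hne j) (hT l) (hne l) (fun hc => hij (by
      simpa using MonoidHom.map_isConj e.toMonoidHom hc))
  have htr : pairCount (Subgroup.normalizer (T : Set G)) (e.symm (P.rep i)) (e.symm (P.rep j))
      (e.symm (P.rep l)) = pairCount M (P.rep i) (P.rep j) (P.rep l) := by
    refine Nat.card_congr (Equiv.subtypeEquiv (e.toEquiv.prodCongr e.toEquiv) fun p => ?_)
    simp only [Equiv.prodCongr_apply, Prod.map, MulEquiv.toEquiv_eq_coe, MulEquiv.coe_toEquiv]
    constructor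
    · intro hp
      simpa using congrArg e hp
    · intro hp
      exact e.injective (by simpa using hp)
  have hsum := pairCount_eq_sum ((e.symm (P.rep i) : _) : G) ((e.symm (P.rep j) : _) : G)
    ((e.symm (P.rep l) : _) : G)
  rw [hloc, htr] at hsum
  have hDC : (P.D : ℂ) ≠ 0 := Int.cast_ne_zero.2 P.hD
  apply (Rat.cast_injective (α := ℂ))
  push_cast
  rw [hsum, ← mul_assoc, mul_comm ((P.D : ℂ) ^ 3) (Nat.card G : ℂ), mul_assoc, Finset.mul_sum _ _ ((P.D : ℂ) ^ 3)]
  congr 1
  refine Finset.sum_congr rfl fun χ _ => ?_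
  have hv : ∀ s, (χ : G → ℂ) ((e.symm (P.rep s) : _) : G) =
      ((∑ k, P.W s k * C.c χ k : ℤ) : ℂ) / P.D := fun s => by
    rw [eq_div_iff hDC, mul_comm]
    exact C.value s χ
  simp only [hv, C.d_eq, map_div₀, map_mul, map_sum, map_intCast, map_natCast, Int.cast_sum,
    Int.cast_mul]
  field_simp

end CfsgLib.TISylow
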