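import Cfsg.Agent.Lib.TISylow.Mon
import Cfsg.Agent.Lib.TISylow.Setting

/-!
# Coordinates for the action of the normaliser on an elementary abelian group of order nine
-/

namespace CfsgLib.TISylow

variable {G : Type*} [Group G] {T : Subgroup G}

/-- The hypotheses on `T` used for coordinates. -/
structure Nine (T : Subgroup G) : Prop extends Hyp T where
  card_eq : Nat.card T = 9
  self_centralizing : Subgroup.centralizer (T : Set G) ≤ T

/-- `n` acts on the two elements as the linear part of `g` on the coordinate vectors. -/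
def ActsAs (a b : G) (n : G) (g : Mon) : Prop :=
  n * a * n⁻¹ = a ^ (g.lin (1, 0)).1.val * b ^ (g.lin (1, 0)).2.val ∧
    n * b * n⁻¹ = a ^ (g.lin (0, 1)).1.val * b ^ (g.lin (0, 1)).2.val

theorem pow_mod_three {a : G} (ha : a ^ 3 = 1) (k : ℕ) : a ^ (k % 3) = a ^ k := by
  conv_rhs => rw [← Nat.mod_add_div k 3, pow_add, pow_mul, ha, one_pow, mul_one]

theorem inv_eq_sq {a : G} (ha : a ^ 3 = 1) : a⁻¹ = a ^ 2 :=
  inv_eq_of_mul_eq_one_right (by rw [← pow_succ']; exact ha)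

theorem Nine.ne_inv (h : Nine T) {a : G} (ha : a ∈ T) (ha1 : a ≠ 1) : a⁻¹ ≠ a := fun e => ha1 (by
  have h3 := h.cube a ha
  rw [pow_succ, pow_two] at h3
  have h4 : a * a = 1 := by
    conv_lhs => arg 1; rw [← e]
    exact inv_mul_cancel a
  rwa [h4, one_mul] at h3)

theorem Nine.conj_mem' (h : Nine T) {n t : G} (hn : n ∈ Subgroup.normalizer (T : Set G))
    (ht : t ∈ T) : n * t * n⁻¹ ∈ T := (Subgroup.mem_normalizer_iff.1 hn t).1 ht

theorem Nine.mem_of_fix_all (h : Nine T) {n : G} (hfix : ∀ t ∈ T, n * t * n⁻¹ = t) : n ∈ T :=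
  h.self_centralizing (Subgroup.mem_centralizer_iff.2 fun t ht =>
    (mul_inv_eq_iff_eq_mul.1 (hfix t ht)).symm)

/-- The coordinate map of two elements of `T`. -/
def coord (a b : G) (v : Vec) : G := a ^ v.1.val * b ^ v.2.val

theorem Nine.coord_add (h : Nine T) {a b : G} (ha : a ∈ T) (hb : b ∈ T) (v w : Vec) :
    coord a b (v + w) = coord a b v * coord a b w := by
  have hc : Commute a b := h.comm a ha b hb
  simp only [coord, Prod.fst_add, Prod.snd_add, ZMod.val_add, pow_mod_three (h.cube a ha),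
    pow_mod_three (h.cube b hb), pow_add]
  simp only [mul_assoc]
  congr 1
  rw [← mul_assoc, ← mul_assoc, (hc.pow_pow _ _).eq]

theorem coord_zero (a b : G) : coord a b (0 : Vec) = 1 := by simp [coord]

theorem Nine.coord_mem (_h : Nine T) {a b : G} (ha : a ∈ T) (hb : b ∈ T) (v : Vec) :
    coord a b v ∈ T := T.mul_mem (T.pow_mem ha _) (T.pow_mem hb _)

theorem Nine.coord_inj (h : Nine T) {a b : G} (ha : a ∈ T) (hb : b ∈ T) (ha1 : a ≠ 1)
    (hb1 : b ∉ Subgroup.zpowers a) : Function.Injective (coord a b) := by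
  have key : ∀ v, coord a b v = 1 → v = 0 := by
    intro v hv
    have hbz : b ^ v.2.val ∈ Subgroup.zpowers a := by
      rw [coord, mul_eq_one_iff_inv_eq] at hv
      rw [← hv]
      exact inv_mem (Subgroup.pow_mem _ (Subgroup.mem_zpowers a) _)
    have h2 : v.2 = 0 := by
      rcases (show ∀ z : ZMod 3, z.val = 0 ∧ z = 0 ∨ z.val = 1 ∨ z.val = 2 by decide) v.2 with
        ⟨-, e⟩ | e | e
      · exact e
      · rw [e, pow_one] at hbz; exact absurd hbz hb1
      · rw [e, ← inv_eq_sq (h.cube b hb), inv_mem_iff] at hbz; exact absurd hbz hb1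
    rw [coord, h2, ZMod.val_zero, pow_zero, mul_one] at hv
    rcases (show ∀ z : ZMod 3, z.val = 0 ∧ z = 0 ∨ z.val = 1 ∨ z.val = 2 by decide) v.1 with
      ⟨-, e⟩ | e | e
    · exact Prod.ext e h2
    · rw [e, pow_one] at hv; exact absurd hv ha1
    · rw [e, ← inv_eq_sq (h.cube a ha), inv_eq_one] at hv; exact absurd hv ha1
  intro v w e
  have := key (v - w) (by
    have h1 := h.coord_add ha hb (v - w) w
    rw [sub_add_cancel, e] at h1
    exact right_eq_mul.1 h1)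
  exact sub_eq_zero.1 this

theorem Nine.coord_surj [Finite G] (h : Nine T) {a b : G} (ha : a ∈ T) (hb : b ∈ T) (ha1 : a ≠ 1)
    (hb1 : b ∉ Subgroup.zpowers a) {t : G} (ht : t ∈ T) : ∃ v, coord a b v = t := by
  haveI := Fintype.ofFinite T
  have hbij := (Fintype.bijective_iff_injective_and_card
    (fun v : Vec => (⟨coord a b v, h.coord_mem ha hb v⟩ : T))).2
    ⟨fun v w e => h.coord_inj ha hb ha1 hb1 (congrArg Subtype.val e),
      by rw [← Nat.card_eq_fintype_card (α := T), h.card_eq]; rfl⟩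
  obtain ⟨v, hv⟩ := hbij.2 ⟨t, ht⟩
  exact ⟨v, congrArg Subtype.val hv⟩

theorem Nine.conj_coord (h : Nine T) {a b n : G} {g : Mon} (ha : a ∈ T) (hb : b ∈ T)
    (hg : ActsAs a b n g) (v : Vec) : n * coord a b v * n⁻¹ = coord a b (g.lin v) := by
  have hpow : ∀ (u : Vec) (k : ℕ), coord a b u ^ k = coord a b (k • u) := by
    intro u k
    induction k with
    | zero => simp [coord_zero]
    | succ k ih => rw [pow_succ, ih, succ_nsmul, h.coord_add ha hb]
  have hdec : ∀ g : Mon, ∀ v : Vec, g.lin v = v.1.val • g.lin (1, 0) + v.2.val • g.lin (0, 1) := by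
    decide +kernel
  rw [hdec g v, h.coord_add ha hb, ← hpow, ← hpow]
  show n * (a ^ v.1.val * b ^ v.2.val) * n⁻¹ = _
  rw [show n * (a ^ v.1.val * b ^ v.2.val) * n⁻¹ =
    (n * a ^ v.1.val * n⁻¹) * (n * b ^ v.2.val * n⁻¹) by group, ← conj_pow, ← conj_pow, hg.1, hg.2]
  rfl

/-- Assembling a frame from a basis permuted monomially up to signs. -/
theorem Nine.exists_frame [Finite G] (h : Nine T) {a b : G} (ha : a ∈ T) (hb : b ∈ T)
    (ha1 : a ≠ 1) (hb1 : b ∉ Subgroup.zpowers a) (p : Mon → Prop)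
    (hmono : ∀ n ∈ Subgroup.normalizer (T : Set G), ∃ g, p g ∧ ActsAs a b n g)
    (hinv : ∃ n ∈ Subgroup.normalizer (T : Set G), n * a * n⁻¹ = a⁻¹ ∧ n * b * n⁻¹ = b⁻¹) :
    ∃ F : Frame T, ∀ n ∈ Subgroup.normalizer (T : Set G), ∃ g, p g ∧
      ∀ v, n * F.τ v * n⁻¹ = F.τ (g.lin v) := by
  obtain ⟨i, hi, hia, hib⟩ := hinv
  refine ⟨⟨coord a b, h.coord_add ha hb, h.coord_inj ha hb ha1 hb1, h.coord_mem ha hb,
    fun t ht => h.coord_surj ha hb ha1 hb1 ht, i, hi, ?_, ?_⟩, ?_⟩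
  · intro t ht
    obtain ⟨v, rfl⟩ := h.coord_surj ha hb ha1 hb1 ht
    rw [coord, show i * (a ^ v.1.val * b ^ v.2.val) * i⁻¹ =
      (i * a ^ v.1.val * i⁻¹) * (i * b ^ v.2.val * i⁻¹) by group, ← conj_pow, ← conj_pow, hia, hib,
      mul_inv_rev, inv_pow, inv_pow, ((show Commute a b from h.comm a ha b hb).pow_pow _ _).inv_inv.eq]
  · intro n hn
    obtain ⟨g, -, hg⟩ := hmono n hn
    exact ⟨g, h.conj_coord ha hb hg⟩
  · intro n hn
    obtain ⟨g, hp, hg⟩ := hmono n hn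
    exact ⟨g, hp, h.conj_coord ha hb hg⟩

/-- A pair of eigenvectors of an involutive action that is neither trivial nor inversion. -/
theorem Nine.exists_eigen (h : Nine T) {n : G} (hn : n ∈ Subgroup.normalizer (T : Set G))
    (hn2 : ∀ t ∈ T, n * (n * t * n⁻¹) * n⁻¹ = t) (hnT : n ∉ T)
    (hni : ∃ t ∈ T, n * t * n⁻¹ ≠ t⁻¹) :
    ∃ a ∈ T, ∃ b ∈ T, a ≠ 1 ∧ n * a * n⁻¹ = a ∧ n * b * n⁻¹ = b⁻¹ ∧
      b ∉ Subgroup.zpowers a := by
  obtain ⟨t, ht, hti⟩ := hni
  obtain ⟨u, hu, hun⟩ : ∃ u ∈ T, n * u * n⁻¹ ≠ u := by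
    by_contra hcon
    push Not at hcon
    exact hnT (h.mem_of_fix_all hcon)
  have hct := h.conj_mem' hn ht
  have hcu := h.conj_mem' hn hu
  refine ⟨t * (n * t * n⁻¹), T.mul_mem ht hct, u * (n * u * n⁻¹)⁻¹, T.mul_mem hu (T.inv_mem hcu),
    fun e => hti (eq_inv_of_mul_eq_one_right e), ?_, ?_, ?_⟩
  · rw [show n * (t * (n * t * n⁻¹)) * n⁻¹ = (n * t * n⁻¹) * (n * (n * t * n⁻¹) * n⁻¹) by group,
      hn2 t ht]
    exact h.comm _ hct _ ht
  · rw [show n * (u * (n * u * n⁻¹)⁻¹) * n⁻¹ = (n * u * n⁻¹) * (n * (n * u * n⁻¹) * n⁻¹)⁻¹ by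
      group, hn2 u hu, mul_inv_rev, inv_inv]
  · intro hmem
    set b := u * (n * u * n⁻¹)⁻¹ with hb
    have hb1 : b ≠ 1 := fun e => hun (mul_inv_eq_one.1 e).symm
    have hfix : ∀ k : ℤ, n * ((t * (n * t * n⁻¹)) ^ k) * n⁻¹ = (t * (n * t * n⁻¹)) ^ k := by
      intro k
      rw [← conj_zpow, show n * (t * (n * t * n⁻¹)) * n⁻¹ =
        (n * t * n⁻¹) * (n * (n * t * n⁻¹) * n⁻¹) by group, hn2 t ht, h.comm _ hct _ ht]
    obtain ⟨k, hk⟩ := Subgroup.mem_zpowers_iff.1 hmem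
    have h1 : n * b * n⁻¹ = b := by rw [← hk]; exact hfix k
    have h2 : n * b * n⁻¹ = b⁻¹ := by
      rw [hb, show n * (u * (n * u * n⁻¹)⁻¹) * n⁻¹ =
        (n * u * n⁻¹) * (n * (n * u * n⁻¹) * n⁻¹)⁻¹ by group, hn2 u hu, mul_inv_rev, inv_inv]
    exact h.ne_inv (T.mul_mem hu (T.inv_mem hcu)) hb1 (h2.symm.trans h1)

/-- What commutes with the eigenvector data permutes the two eigenlines trivially. -/
theorem Nine.eigen_sign [Finite G] (h : Nine T) {n a b : G} (ha : a ∈ T) (hb : b ∈ T) (ha1 : a ≠ 1)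
    (hb1 : b ∉ Subgroup.zpowers a) (hna : n * a * n⁻¹ = a) (hnb : n * b * n⁻¹ = b⁻¹) {t : G}
    (ht : t ∈ T) :
    (n * t * n⁻¹ = t → t ≠ 1 → t = a ∨ t = a⁻¹) ∧
      (n * t * n⁻¹ = t⁻¹ → t ≠ 1 → t = b ∨ t = b⁻¹) := by
  obtain ⟨v, rfl⟩ := h.coord_surj ha hb ha1 hb1 ht
  have hg : ActsAs a b n ⟨0, false, false, true⟩ := by
    constructor
    · rw [hna]; simp [Mon.lin, Mon.sgn, show (1 : ZMod 3).val = 1 from rfl]
    · rw [hnb, inv_eq_sq (h.cube b hb)]
      simp [Mon.lin, Mon.sgn, show (-1 : ZMod 3).val = 2 from rfl]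
  have hinj := h.coord_inj ha hb ha1 hb1
  have hneg : coord a b (-v) = (coord a b v)⁻¹ := eq_inv_of_mul_eq_one_left (by
    rw [← h.coord_add ha hb, neg_add_cancel, coord_zero])
  rw [h.conj_coord ha hb hg]
  constructor
  · intro e h1
    have e' := hinj e
    have hv : v = (1, 0) ∨ v = (2, 0) :=
      (show ∀ v : Vec, (⟨0, false, false, true⟩ : Mon).lin v = v → v ≠ 0 → v = (1, 0) ∨ v = (2, 0) by
        decide +kernel) v e' fun e0 => h1 (by rw [e0, coord_zero])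
    rcases hv with rfl | rfl
    · left; simp [coord, show (1 : ZMod 3).val = 1 from rfl]
    · right; simp [coord, show (2 : ZMod 3).val = 2 from rfl, inv_eq_sq (h.cube a ha)]
  · intro e h1
    rw [← hneg] at e
    have e' := hinj e
    have hv : v = (0, 1) ∨ v = (0, 2) :=
      (show ∀ v : Vec, (⟨0, false, false, true⟩ : Mon).lin v = -v → v ≠ 0 → v = (0, 1) ∨ v = (0, 2) by
        decide +kernel) v e' fun e0 => h1 (by rw [e0, coord_zero])
    rcases hv with rfl | rfl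
    · left; simp [coord, show (1 : ZMod 3).val = 1 from rfl]
    · right; simp [coord, show (2 : ZMod 3).val = 2 from rfl, inv_eq_sq (h.cube b hb)]

/-- An action of order four modulo `T` squares to inversion. -/
theorem Nine.sq_inverts [Finite G] (h : Nine T) {f : G} (hf : f ∈ Subgroup.normalizer (T : Set G))
    (hf2 : f * f ∉ T) (hf4 : f * f * (f * f) ∈ T) :
    ∀ t ∈ T, f * f * t * (f * f)⁻¹ = t⁻¹ := by
  by_contra hcon
  push Not at hcon
  have hffN := mul_mem hf hf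
  have hinv2 : ∀ t ∈ T, f * f * (f * f * t * (f * f)⁻¹) * (f * f)⁻¹ = t := by
    intro t ht
    rw [show f * f * (f * f * t * (f * f)⁻¹) * (f * f)⁻¹ =
      (f * f * (f * f)) * t * (f * f * (f * f))⁻¹ by group, h.comm _ hf4 _ ht, mul_inv_cancel_right]
  obtain ⟨a, ha, b, hb, ha1, hfa, hfb, hab⟩ := h.exists_eigen hffN hinv2 hf2 hcon
  have hb1 : b ≠ 1 := fun e => hab (e ▸ one_mem _)
  have key : ∀ t ∈ T, f * f * (f * t * f⁻¹) * (f * f)⁻¹ = f * (f * f * t * (f * f)⁻¹) * f⁻¹ :=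
    fun t _ => by group
  have ca := (h.eigen_sign ha hb ha1 hab hfa hfb (h.conj_mem' hf ha)).1 (by rw [key a ha, hfa])
    (by simpa using ha1)
  have cb := (h.eigen_sign ha hb ha1 hab hfa hfb (h.conj_mem' hf hb)).2
    (by rw [key b hb, hfb]; group) (by simpa using hb1)
  have conj_inv' : ∀ x y : G, f * x * f⁻¹ = y → f * x⁻¹ * f⁻¹ = y⁻¹ := fun x y e => by
    rw [← e]; group
  have hb2 : f * f * b * (f * f)⁻¹ = b := by
    rw [show f * f * b * (f * f)⁻¹ = f * (f * b * f⁻¹) * f⁻¹ by group]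
    rcases cb with e | e
    · rw [e, e]
    · rw [e, conj_inv' _ _ e, inv_inv]
  exact h.ne_inv hb hb1 (hfb.symm.trans hb2)

/-- Coordinates when the automizer is `⟨-1⟩`. -/
theorem Nine.frame_two [Finite G] (h : Nine T)
    (hN : ∀ n ∈ Subgroup.normalizer (T : Set G), n ∈ T ∨ ∀ t ∈ T, n * t * n⁻¹ = t⁻¹)
    (hex : ∃ n ∈ Subgroup.normalizer (T : Set G), n ∉ T) :
    ∃ F : Frame T, ∀ n ∈ Subgroup.normalizer (T : Set G), ∃ g : Mon,
      (g.sw = false ∧ g.n1 = g.n2) ∧ ∀ v, n * F.τ v * n⁻¹ = F.τ (g.lin v) := by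
  obtain ⟨a, ha, ha1⟩ : ∃ a ∈ T, a ≠ 1 := by
    by_contra hcon
    push Not at hcon
    have := h.card_eq
    rw [(Subgroup.eq_bot_iff_forall T).2 hcon, Subgroup.card_bot] at this
    omega
  obtain ⟨b, hb, hb1⟩ : ∃ b ∈ T, b ∉ Subgroup.zpowers a := by
    by_contra hcon
    push Not at hcon
    have h1 := Subgroup.card_le_of_le (show T ≤ Subgroup.zpowers a from hcon)
    have h3 : orderOf a ≤ 3 := orderOf_le_of_pow_eq_one (by norm_num) (h.cube a ha)
    rw [h.card_eq, Nat.card_zpowers] at h1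
    omega
  obtain ⟨i, hi, hiT⟩ := hex
  have hi' := (hN i hi).resolve_left hiT
  refine h.exists_frame ha hb ha1 hb1 (fun g => g.sw = false ∧ g.n1 = g.n2) (fun n hn => ?_)
    ⟨i, hi, hi' a ha, hi' b hb⟩
  rcases hN n hn with hT | hneg
  · refine ⟨1, ⟨rfl, rfl⟩, ?_, ?_⟩
    · rw [h.comm n hT a ha, mul_inv_cancel_right, show (1 : Mon).lin (1, 0) = (1, 0) from rfl]
      simp [show (1 : ZMod 3).val = 1 from rfl]
    · rw [h.comm n hT b hb, mul_inv_cancel_right, show (1 : Mon).lin (0, 1) = (0, 1) from rfl]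
      simp [show (1 : ZMod 3).val = 1 from rfl]
  · refine ⟨⟨0, false, true, true⟩, ⟨rfl, rfl⟩, ?_, ?_⟩
    · rw [hneg a ha, inv_eq_sq (h.cube a ha)]
      simp [Mon.lin, Mon.sgn, show (-1 : ZMod 3).val = 2 from rfl]
    · rw [hneg b hb, inv_eq_sq (h.cube b hb)]
      simp [Mon.lin, Mon.sgn, show (-1 : ZMod 3).val = 2 from rfl]

/-- Coordinates when the automizer is cyclic of order four, generated by `f`. -/
theorem Nine.frame_four [Finite G] (h : Nine T) {f : G}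
    (hf : f ∈ Subgroup.normalizer (T : Set G)) (hf2 : f * f ∉ T) (hf4 : f * f * (f * f) ∈ T)
    (hgen : ∀ n ∈ Subgroup.normalizer (T : Set G), ∃ k : ℕ, ∃ t ∈ T, n = f ^ k * t) :
    ∃ F : Frame T, ∀ n ∈ Subgroup.normalizer (T : Set G), ∃ g : Mon,
      xor g.n1 g.n2 = g.sw ∧ ∀ v, n * F.τ v * n⁻¹ = F.τ (g.lin v) := by
  have hinv := h.sq_inverts hf hf2 hf4
  obtain ⟨a, ha, ha1⟩ : ∃ a ∈ T, a ≠ 1 := by
    by_contra hcon
    push Not at hcon
    have := h.card_eq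
    rw [(Subgroup.eq_bot_iff_forall T).2 hcon, Subgroup.card_bot] at this
    omega
  set b := f * a * f⁻¹ with hb
  have hbT : b ∈ T := h.conj_mem' hf ha
  have hfb : f * b * f⁻¹ = a⁻¹ := by rw [← hinv a ha, hb]; group
  have hab : b ∉ Subgroup.zpowers a := by
    intro hmem
    obtain ⟨k, hk⟩ := Subgroup.mem_zpowers_iff.1 hmem
    have h1 : a ^ (k * k + 1) = 1 := by
      have h2 : f * b * f⁻¹ = b ^ k := by rw [← hk, ← conj_zpow, ← hb, hk]
      rw [zpow_add, zpow_one, zpow_mul, hk, ← h2, hfb, inv_mul_cancel]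
    have hz : ∀ z : ZMod 3, z * z + 1 ≠ 0 := by decide
    have : Fact (Nat.Prime 3) := ⟨Nat.prime_three⟩
    rw [← orderOf_dvd_iff_zpow_eq_one, orderOf_eq_prime (h.cube a ha) ha1,
      ← ZMod.intCast_zmod_eq_zero_iff_dvd] at h1
    push_cast at h1
    exact hz _ h1
  have hstep : ∀ k : ℕ, ∃ g : Mon, xor g.n1 g.n2 = g.sw ∧
      ∀ v, f ^ k * coord a b v * (f ^ k)⁻¹ = coord a b (g.lin v) := by
    intro k
    induction k with
    | zero => exact ⟨1, rfl, fun v => by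
        rw [show (1 : Mon).lin v = v from
          (show ∀ v : Vec, (1 : Mon).lin v = v by decide +kernel) v]
        simp⟩
    | succ k ih =>
      obtain ⟨g, hg, hgv⟩ := ih
      have hact : ActsAs a b f ⟨0, true, true, false⟩ := by
        constructor
        · simp [← hb, Mon.lin, Mon.sgn, show (1 : ZMod 3).val = 1 from rfl]
        · rw [hfb, inv_eq_sq (h.cube a ha)]
          simp [Mon.lin, Mon.sgn, show (-1 : ZMod 3).val = 2 from rfl]
      refine ⟨(⟨0, true, true, false⟩ : Mon) * g, ?_, fun v => ?_⟩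
      · revert hg
        exact (show ∀ g : Mon, xor g.n1 g.n2 = g.sw →
          xor ((⟨0, true, true, false⟩ : Mon) * g).n1 ((⟨0, true, true, false⟩ : Mon) * g).n2 =
            ((⟨0, true, true, false⟩ : Mon) * g).sw by decide +kernel) g
      · rw [Mon.lin_mul, ← h.conj_coord ha hbT hact, ← hgv, pow_succ']
        group
  obtain ⟨F, hF⟩ := h.exists_frame ha hbT ha1 hab (fun g => xor g.n1 g.n2 = g.sw) (fun n hn => by
    obtain ⟨k, t, ht, rfl⟩ := hgen n hn
    obtain ⟨g, hg, hgv⟩ := hstep k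
    have e : ∀ x ∈ T, (f ^ k * t) * x * (f ^ k * t)⁻¹ = f ^ k * x * (f ^ k)⁻¹ := fun x hx => by
      rw [show (f ^ k * t) * x * (f ^ k * t)⁻¹ = f ^ k * (t * x * t⁻¹) * (f ^ k)⁻¹ by group,
        h.comm t ht x hx, mul_inv_cancel_right]
    refine ⟨g, hg, ?_, ?_⟩
    · have := hgv (1, 0)
      simp only [coord, show (1 : ZMod 3).val = 1 from rfl, ZMod.val_zero, pow_one, pow_zero,
        mul_one] at this
      rw [e a ha, this]
    · have := hgv (0, 1)
      simp only [coord, show (1 : ZMod 3).val = 1 from rfl, ZMod.val_zero, pow_one, pow_zero,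
        one_mul] at this
      rw [e b hbT, this])
    ⟨f * f, mul_mem hf hf, hinv a ha, hinv b hbT⟩
  exact ⟨F, hF⟩

/-- Coordinates when the automizer is a four-group. -/
theorem Nine.frame_klein [Finite G] (h : Nine T)
    (hsq : ∀ n ∈ Subgroup.normalizer (T : Set G), n * n ∈ T)
    (hidx : (T.subgroupOf (Subgroup.normalizer (T : Set G))).index = 4) :
    ∃ F : Frame T, ∀ n ∈ Subgroup.normalizer (T : Set G), ∃ g : Mon,
      g.sw = false ∧ ∀ v, n * F.τ v * n⁻¹ = F.τ (g.lin v) := by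
  classical
  set N := Subgroup.normalizer (T : Set G) with hN
  have hinvol : ∀ n ∈ N, ∀ t ∈ T, n * (n * t * n⁻¹) * n⁻¹ = t := fun n hn t ht => by
    rw [show n * (n * t * n⁻¹) * n⁻¹ = (n * n) * t * (n * n)⁻¹ by group,
      h.comm _ (hsq n hn) _ ht, mul_inv_cancel_right]
  have hcomm : ∀ n ∈ N, ∀ m ∈ N, ∀ t ∈ T,
      n * (m * t * m⁻¹) * n⁻¹ = m * (n * t * n⁻¹) * m⁻¹ := by
    intro n hn m hm t ht
    have e1 := hinvol (n * m) (mul_mem hn hm) t ht
    have h1 := h.conj_mem' hn ht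
    have h2 := h.conj_mem' hm h1
    calc n * (m * t * m⁻¹) * n⁻¹
        = n * (m * t * m⁻¹) * n⁻¹ := rfl
      _ = n * (m * (n * (n * t * n⁻¹) * n⁻¹) * m⁻¹) * n⁻¹ := by rw [hinvol n hn t ht]
      _ = n * m * (n * (n * t * n⁻¹) * n⁻¹) * (n * m)⁻¹ := by group
      _ = n * m * (n * (m * (m * (n * t * n⁻¹) * m⁻¹) * m⁻¹) * n⁻¹) * (n * m)⁻¹ := by
            rw [hinvol m hm _ h1]
      _ = n * m * (n * m * (m * (n * t * n⁻¹) * m⁻¹) * (n * m)⁻¹) * (n * m)⁻¹ := by group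
      _ = m * (n * t * n⁻¹) * m⁻¹ := hinvol (n * m) (mul_mem hn hm) _ h2
  obtain ⟨n, hn, hnT, hni⟩ : ∃ n ∈ N, n ∉ T ∧ ∃ t ∈ T, n * t * n⁻¹ ≠ t⁻¹ := by
    by_contra hcon
    push Not at hcon
    have hle : ∀ x y : N ⧸ T.subgroupOf N, x ≠ ((1 : N) : N ⧸ T.subgroupOf N) →
        y ≠ ((1 : N) : N ⧸ T.subgroupOf N) → x = y := by
      intro x y hx hy
      obtain ⟨x, rfl⟩ := QuotientGroup.mk_surjective x
      obtain ⟨y, rfl⟩ := QuotientGroup.mk_surjective y
      have hx' : (x : G) ∉ T := fun e => hx (QuotientGroup.eq.2 (by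
        simpa [Subgroup.mem_subgroupOf] using e))
      have hy' : (y : G) ∉ T := fun e => hy (QuotientGroup.eq.2 (by
        simpa [Subgroup.mem_subgroupOf] using e))
      refine QuotientGroup.eq.2 (Subgroup.mem_subgroupOf.2 (h.mem_of_fix_all fun t ht => ?_))
      simp only [Subgroup.coe_mul, Subgroup.coe_inv, mul_inv_rev, inv_inv]
      rw [show (x : G)⁻¹ * y * t * ((y : G)⁻¹ * x) = (x : G)⁻¹ * ((y : G) * t * (y : G)⁻¹) * x by
        group, hcon y y.2 hy' t ht, ← hcon x x.2 hx' t ht]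
      group
    have h4 : Nat.card (N ⧸ T.subgroupOf N) = 4 := hidx
    haveI := Fintype.ofFinite (N ⧸ T.subgroupOf N)
    rw [Nat.card_eq_fintype_card] at h4
    have h5 : ((Finset.univ : Finset (N ⧸ T.subgroupOf N)).erase ((1 : N) : N ⧸ T.subgroupOf N)).card
        ≤ 1 := Finset.card_le_one.2 fun x hx y hy =>
      hle x y (Finset.ne_of_mem_erase hx) (Finset.ne_of_mem_erase hy)
    rw [Finset.card_erase_of_mem (Finset.mem_univ _), Finset.card_univ] at h5
    omega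
  obtain ⟨a, ha, b, hb, ha1, hna, hnb, hab⟩ := h.exists_eigen hn (hinvol n hn) hnT hni
  have hb1 : b ≠ 1 := fun e => hab (e ▸ one_mem _)
  have hsign : ∀ m ∈ N, (m * a * m⁻¹ = a ∨ m * a * m⁻¹ = a⁻¹) ∧
      (m * b * m⁻¹ = b ∨ m * b * m⁻¹ = b⁻¹) := fun m hm =>
    ⟨(h.eigen_sign ha hb ha1 hab hna hnb (h.conj_mem' hm ha)).1
      (by rw [hcomm n hn m hm a ha, hna]) (by simpa using ha1),
    (h.eigen_sign ha hb ha1 hab hna hnb (h.conj_mem' hm hb)).2
      (by rw [hcomm n hn m hm b hb, hnb]; group) (by simpa using hb1)⟩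
  have hagree : ∀ x y : G, (∀ t ∈ [a, b], x * t * x⁻¹ = y * t * y⁻¹) → x⁻¹ * y ∈ T := by
    intro x y hxy
    refine h.mem_of_fix_all fun t ht => ?_
    obtain ⟨v, rfl⟩ := h.coord_surj ha hb ha1 hab ht
    have hfix : ∀ u ∈ [a, b], x⁻¹ * y * u * (x⁻¹ * y)⁻¹ = u := fun u hu => by
      rw [show x⁻¹ * y * u * (x⁻¹ * y)⁻¹ = x⁻¹ * (y * u * y⁻¹) * x by group, ← hxy u hu]
      group
    rw [coord, show x⁻¹ * y * (a ^ v.1.val * b ^ v.2.val) * (x⁻¹ * y)⁻¹ =
      (x⁻¹ * y * a ^ v.1.val * (x⁻¹ * y)⁻¹) * (x⁻¹ * y * b ^ v.2.val * (x⁻¹ * y)⁻¹) by group,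
      ← conj_pow, ← conj_pow, hfix a (by simp), hfix b (by simp)]
  let sig : N ⧸ T.subgroupOf N → Bool × Bool := fun q =>
    (decide ((q.out : G) * a * (q.out : G)⁻¹ = a), decide ((q.out : G) * b * (q.out : G)⁻¹ = b))
  have hinj : Function.Injective sig := by
    intro p q e
    rw [← QuotientGroup.out_eq' p, ← QuotientGroup.out_eq' q]
    refine QuotientGroup.eq.2 (Subgroup.mem_subgroupOf.2 ?_)
    simp only [Subgroup.coe_mul, Subgroup.coe_inv]
    refine hagree _ _ ?_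
    simp only [sig, Prod.mk.injEq, decide_eq_decide] at e
    intro t ht
    simp only [List.mem_cons, List.not_mem_nil, or_false] at ht
    have hp := hsign _ p.out.2
    have hq := hsign _ q.out.2
    rcases ht with rfl | rfl
    · rcases hp.1 with e1 | e1 <;> rcases hq.1 with e2 | e2
      · rw [e1, e2]
      · exact absurd (e.1.1 e1) (by rw [e2]; exact h.ne_inv ha ha1)
      · exact absurd (e.1.2 e2) (by rw [e1]; exact h.ne_inv ha ha1)
      · rw [e1, e2]
    · rcases hp.2 with e1 | e1 <;> rcases hq.2 with e2 | e2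
      · rw [e1, e2]
      · exact absurd (e.2.1 e1) (by rw [e2]; exact h.ne_inv hb hb1)
      · exact absurd (e.2.2 e2) (by rw [e1]; exact h.ne_inv hb hb1)
      · rw [e1, e2]
  haveI := Fintype.ofFinite (N ⧸ T.subgroupOf N)
  have hbij := (Fintype.bijective_iff_injective_and_card sig).2
    ⟨hinj, by rw [← Nat.card_eq_fintype_card]; exact hidx⟩
  obtain ⟨q, hq⟩ := hbij.2 (false, false)
  simp only [sig, Prod.mk.injEq, decide_eq_false_iff_not] at hq
  refine h.exists_frame ha hb ha1 hab (fun g => g.sw = false) (fun m hm => ?_)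
    ⟨q.out, q.out.2, (hsign _ q.out.2).1.resolve_left hq.1, (hsign _ q.out.2).2.resolve_left hq.2⟩
  obtain ⟨h1, h2⟩ := hsign m hm
  refine ⟨⟨0, false, decide (m * a * m⁻¹ ≠ a), decide (m * b * m⁻¹ ≠ b)⟩, rfl, ?_, ?_⟩
  · rcases h1 with e | e
    · simp [Mon.lin, Mon.sgn, e, show (1 : ZMod 3).val = 1 from rfl]
    · have hne : m * a * m⁻¹ ≠ a := by rw [e]; exact h.ne_inv ha ha1
      simp [Mon.lin, Mon.sgn, hne, show (-1 : ZMod 3).val = 2 from rfl]
      rw [e, inv_eq_sq (h.cube a ha)]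
  · rcases h2 with e | e
    · simp [Mon.lin, Mon.sgn, e, show (1 : ZMod 3).val = 1 from rfl]
    · have hne : m * b * m⁻¹ ≠ b := by rw [e]; exact h.ne_inv hb hb1
      simp [Mon.lin, Mon.sgn, hne, show (-1 : ZMod 3).val = 2 from rfl]
      rw [e, inv_eq_sq (h.cube b hb)]

/-- Coordinates when the automizer is dihedral of order eight. -/
theorem Nine.frame_dihedral [Finite G] (h : Nine T) {f s : G}
    (hf : f ∈ Subgroup.normalizer (T : Set G)) (hs : s ∈ Subgroup.normalizer (T : Set G))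
    (hf2 : f * f ∉ T) (hf4 : f * f * (f * f) ∈ T) (hs1 : s ∉ T) (hs2 : s * s ∈ T)
    (hsf : s * f * s⁻¹ * f ∈ T)
    (hgen : ∀ n ∈ Subgroup.normalizer (T : Set G), ∃ k : ℕ, ∃ t ∈ T,
      n = f ^ k * t ∨ n = f ^ k * s * t) :
    ∃ F : Frame T, ∀ n ∈ Subgroup.normalizer (T : Set G), ∃ g : Mon,
      True ∧ ∀ v, n * F.τ v * n⁻¹ = F.τ (g.lin v) := by
  have hinv := h.sq_inverts hf hf2 hf4
  have htriv : ∀ u ∈ T, ∀ x ∈ T, u * x * u⁻¹ = x := fun u hu x hx => by
    rw [h.comm u hu x hx, mul_inv_cancel_right]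
  have hsinv : ∀ x ∈ T, s * (s * x * s⁻¹) * s⁻¹ = x := fun x hx => by
    rw [show s * (s * x * s⁻¹) * s⁻¹ = (s * s) * x * (s * s)⁻¹ by group, htriv _ hs2 x hx]
  have hsfx : ∀ x ∈ T, s * (f * x * f⁻¹) * s⁻¹ = f⁻¹ * (s * x * s⁻¹) * f := fun x hx => by
    have hy : f⁻¹ * (s * x * s⁻¹) * f ∈ T := by
      have := h.conj_mem' (inv_mem hf) (h.conj_mem' hs hx)
      rwa [inv_inv] at this
    calc s * (f * x * f⁻¹) * s⁻¹
        = (s * f * s⁻¹ * f) * (f⁻¹ * (s * x * s⁻¹) * f) * (s * f * s⁻¹ * f)⁻¹ := by group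
      _ = _ := htriv _ hsf _ hy
  have hne : ∃ x ∈ T, s * x * s⁻¹ ≠ x⁻¹ := by
    by_contra hcon
    push Not at hcon
    refine hf2 (h.mem_of_fix_all fun x hx => ?_)
    have hfx := h.conj_mem' hf hx
    have h1 := hsfx x hx
    rw [hcon _ hfx, hcon x hx] at h1
    have h2 : f * x * f⁻¹ = f⁻¹ * x * f := by
      have := congrArg (·⁻¹) h1
      simpa [mul_assoc] using this
    calc f * f * x * (f * f)⁻¹ = f * (f * x * f⁻¹) * f⁻¹ := by group
      _ = x := by rw [h2]; group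
  obtain ⟨a, ha, b', hb', ha1, hsa, hsb', hab'⟩ := h.exists_eigen hs hsinv hs1 hne
  set b := f * a * f⁻¹ with hb
  have hbT : b ∈ T := h.conj_mem' hf ha
  have hfb : f * b * f⁻¹ = a⁻¹ := by rw [← hinv a ha, hb]; group
  have hsb : s * b * s⁻¹ = b⁻¹ := by
    rw [hb, hsfx a ha, hsa]
    have h2 : f⁻¹ * (f * f * a * (f * f)⁻¹) * f = f⁻¹ * a⁻¹ * f := by rw [hinv a ha]
    calc f⁻¹ * a * f = (f⁻¹ * a⁻¹ * f)⁻¹ := by group
      _ = (f * a * f⁻¹)⁻¹ := by rw [← h2]; group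
  have hab : b ∉ Subgroup.zpowers a := by
    intro hmem
    obtain ⟨k, hk⟩ := Subgroup.mem_zpowers_iff.1 hmem
    have hb1 : b ≠ 1 := by simpa [hb] using ha1
    have h1 : s * b * s⁻¹ = b := by rw [← hk, ← conj_zpow, hsa]
    exact h.ne_inv hbT hb1 (hsb.symm.trans h1)
  have hactf : ActsAs a b f ⟨0, true, true, false⟩ := by
    constructor
    · simp [← hb, Mon.lin, Mon.sgn, show (1 : ZMod 3).val = 1 from rfl]
    · rw [hfb, inv_eq_sq (h.cube a ha)]
      simp [Mon.lin, Mon.sgn, show (-1 : ZMod 3).val = 2 from rfl]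
  have hacts : ActsAs a b s ⟨0, false, false, true⟩ := by
    constructor
    · simp [hsa, Mon.lin, Mon.sgn, show (1 : ZMod 3).val = 1 from rfl]
    · rw [hsb, inv_eq_sq (h.cube b hbT)]
      simp [Mon.lin, Mon.sgn, show (-1 : ZMod 3).val = 2 from rfl]
  have hstep : ∀ k : ℕ, ∃ g : Mon, ∀ v, f ^ k * coord a b v * (f ^ k)⁻¹ = coord a b (g.lin v) := by
    intro k
    induction k with
    | zero => exact ⟨1, fun v => by
        rw [show (1 : Mon).lin v = v from
          (show ∀ v : Vec, (1 : Mon).lin v = v by decide +kernel) v]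
        simp⟩
    | succ k ih =>
      obtain ⟨g, hgv⟩ := ih
      refine ⟨(⟨0, true, true, false⟩ : Mon) * g, fun v => ?_⟩
      rw [Mon.lin_mul, ← h.conj_coord ha hbT hactf, ← hgv, pow_succ']
      group
  refine h.exists_frame ha hbT ha1 hab (fun _ => True) (fun n hn => ?_)
    ⟨f * f, mul_mem hf hf, hinv a ha, hinv b hbT⟩
  obtain ⟨k, t, ht, hn'⟩ := hgen n hn
  obtain ⟨g, hg⟩ := hstep k
  suffices ∃ g : Mon, ∀ v, n * coord a b v * n⁻¹ = coord a b (g.lin v) by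
    obtain ⟨g, hg⟩ := this
    refine ⟨g, trivial, ?_, ?_⟩
    · have := hg (1, 0)
      simpa [coord, show (1 : ZMod 3).val = 1 from rfl] using this
    · have := hg (0, 1)
      simpa [coord, show (1 : ZMod 3).val = 1 from rfl] using this
  rcases hn' with rfl | rfl
  · refine ⟨g, fun v => ?_⟩
    rw [← hg, show f ^ k * t * coord a b v * (f ^ k * t)⁻¹ =
      f ^ k * (t * coord a b v * t⁻¹) * (f ^ k)⁻¹ by group, htriv t ht _ (h.coord_mem ha hbT v)]
  · refine ⟨g * ⟨0, false, false, true⟩, fun v => ?_⟩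
    rw [Mon.lin_mul, ← hg, ← h.conj_coord ha hbT hacts,
      show f ^ k * s * t * coord a b v * (f ^ k * s * t)⁻¹ =
      f ^ k * (s * (t * coord a b v * t⁻¹) * s⁻¹) * (f ^ k)⁻¹ by group,
      htriv t ht _ (h.coord_mem ha hbT v)]

end CfsgLib.TISylow
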